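import Mathlib
import Groth.Prelude.Def_Wider
import Groth.Prelude.Def_CAlg
import Groth.Agent.S17763
import Groth.Agent.S0333
import Groth.Agent.H58.LCIndep
import Groth.Agent.H58.LCAnn
import Groth.Agent.H84.HL_K

/-!
# (D1) for S0332: HLVT for a complete Noetherian local ring, given the complete domain case
-/

set_option autoImplicit false
set_option linter.style.haveILetI false
set_option linter.unusedSectionVars false
universe u
open IsLocalRing

namespace Groth.Agent.H20.HL_D1

open Groth.Agent.H58.LC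

/-- local cohomology of a finite product vanishes when that of each factor does -/
theorem subsingleton_H_pi' {R : Type u} [CommRing R] {ι : Type u} [Fintype ι] [DecidableEq ι]
    (Mf : ι → Type u) [∀ j, AddCommGroup (Mf j)] [∀ j, Module R (Mf j)] (I : Ideal R) (i : ℕ)
    (h : ∀ j, Subsingleton (LocCoh.H I i (Mf j))) : Subsingleton (LocCoh.H I i (∀ j, Mf j)) := by
  refine ⟨fun x y => ?_⟩
  have hid : (∑ j : ι, (LinearMap.single R Mf j) ∘ₗ
      (LinearMap.proj j : (∀ j, Mf j) →ₗ[R] Mf j)) = LinearMap.id := by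
    refine LinearMap.ext fun x => ?_
    rw [LinearMap.sum_apply]
    simp only [LinearMap.comp_apply, LinearMap.proj_apply, LinearMap.coe_single,
      LinearMap.id_apply]
    exact Finset.univ_sum_single x
  have key : ∀ z : LocCoh.H I i (∀ j, Mf j), z = 0 := fun z => by
    have hz : Hmap I i (LinearMap.id : (∀ j, Mf j) →ₗ[R] (∀ j, Mf j)) z = z := by
      rw [Hmap_id]; rfl
    rw [← hz, ← hid, Hmap_sum, LinearMap.sum_apply]
    refine Finset.sum_eq_zero fun j _ => ?_
    haveI := h j
    rw [Hmap_comp_apply, Subsingleton.elim (Hmap I i (LinearMap.proj j) z) 0, map_zero]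
  rw [key x, key y]

/-- (D1) HLVT for a complete Noetherian local ring (the complete domain case `hC` as a hypothesis). -/
theorem complete_case
    (hC : ∀ (R : Type u) [CommRing R] [IsDomain R] [IsLocalRing R] [IsNoetherianRing R]
      [IsAdicComplete (maximalIdeal R) R] (d : ℕ), ringKrullDim R = d →
      ∀ (p : Ideal R) [p.IsPrime], ringKrullDim (R ⧸ p) = 1 → Subsingleton (LocCoh.H p d R))
    (S : Type u) [CommRing S] [IsLocalRing S] [IsNoetherianRing S]
    [IsAdicComplete (maximalIdeal S) S] (d : ℕ) (hd : ringKrullDim S = d) (J : Ideal S)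
    (h : ∀ P ∈ minimalPrimes S, ringKrullDim (S ⧸ P) = d → 1 ≤ ringKrullDim (S ⧸ (J ⊔ P)))
    (N : Type u) [AddCommGroup N] [Module S N] (i : ℕ) (hi : d ≤ i) :
    Subsingleton (LocCoh.H J i N) := by
  classical
  -- the index type of the top-dimensional minimal primes
  let PP : Type u := {P : Ideal S // P ∈ minimalPrimes S ∧ ringKrullDim (S ⧸ P) = d}
  haveI hfin : Finite PP := by
    have h1 : (minimalPrimes S).Finite := minimalPrimes.finite_of_isNoetherianRing S
    have h2 : {P : Ideal S | P ∈ minimalPrimes S ∧ ringKrullDim (S ⧸ P) = d}.Finite :=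
      h1.subset fun P hP => hP.1
    exact h2.to_subtype
  haveI : Fintype PP := Fintype.ofFinite PP
  -- each factor has vanishing top local cohomology
  have hfac : ∀ P : PP, Subsingleton (LocCoh.H J d (S ⧸ P.1)) := by
    intro P
    haveI hPprime : P.1.IsPrime := P.2.1.1.1
    haveI : IsAdicComplete (maximalIdeal (S ⧸ P.1)) (S ⧸ P.1) :=
      Groth.Agent.H84.HL_K.complete_of_finite S (S ⧸ P.1)
    have hdimP : ringKrullDim (S ⧸ P.1) = d := P.2.2
    have hpos : 0 < ringKrullDim ((S ⧸ P.1) ⧸ J.map (Ideal.Quotient.mk P.1)) := by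
      rw [ringKrullDim_eq_of_ringEquiv (DoubleQuot.quotQuotEquivQuotSup P.1 J), sup_comm]
      exact lt_of_lt_of_le zero_lt_one (h P.1 P.2.1 P.2.2)
    have h1 : Subsingleton (LocCoh.H (J.map (Ideal.Quotient.mk P.1)) d (S ⧸ P.1)) :=
      (Groth.Agent.S17763.result (S ⧸ P.1) d hdimP).mpr
        (fun p _ hp => hC (S ⧸ P.1) d hdimP p hp) _ hpos
    obtain ⟨φ, -⟩ := semiEq_H S (S ⧸ P.1) J d (S ⧸ P.1)
    exact φ.symm.injective.subsingleton
  -- the test module
  have hM : Subsingleton (LocCoh.H J d (∀ P : PP, S ⧸ P.1)) :=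
    subsingleton_H_pi' (fun P : PP => S ⧸ P.1) J d hfac
  refine Groth.Agent.S0333.result S J d hd (∀ P : PP, S ⧸ P.1) ?_ hM N i hi
  intro p hp hpd hpprime
  rw [Module.mem_support_iff_exists_annihilator]
  refine ⟨Pi.single (⟨p, hp, hpd⟩ : PP) 1, ?_⟩
  intro r hr
  rw [Submodule.mem_annihilator_span_singleton] at hr
  have h2 := congrFun hr (⟨p, hp, hpd⟩ : PP)
  rw [Pi.smul_apply, Pi.single_eq_same, Pi.zero_apply] at h2
  have h3 : Ideal.Quotient.mk p r = 0 := by
    rw [← h2, Algebra.smul_def, mul_one]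
    rfl
  exact Ideal.Quotient.eq_zero_iff_mem.mp h3

end Groth.Agent.H20.HL_D1
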