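import Mathlib
import Groth.Agent.H13.SymRetract

set_option autoImplicit false
set_option linter.style.haveILetI false
universe u
open MvPolynomial Groth.Agent.H13.SymRetract

namespace Groth.Agent.H20.SymCompl

/-- (KP1) explicit isomorphism `Sym(P) ⊗ Sym(Q)` = polynomial ring, in kernel form. -/
theorem exists_symC_compl_to_poly {A₀ B : Type u} [CommRing A₀] [CommRing B] {m : ℕ} (e₀ : Fin m → Fin m → A₀) (he₀ : ∀ i k, ∑ j, e₀ i j * e₀ j k = e₀ i k) (χ : B →+* SymC e₀) (hχ : Function.Surjective χ) (E : Fin m → Fin m → B) (hχE : ∀ i k, χ (E i k) = algebraMap A₀ (SymC e₀) (e₀ i k)) : ∃ Φ : SymC (fun i k => (if i = k then (1 : B) else 0) - E i k) →+* MvPolynomial (Fin m) A₀, Function.Surjective Φ ∧ RingHom.ker Φ = (RingHom.ker χ).map (algebraMap B (SymC (fun i k => (if i = k then (1 : B) else 0) - E i k))) ∧ (∀ b : B, Φ (algebraMap B _ b) = sect e₀ he₀ (χ b)) ∧ ∀ k, Φ (Ideal.Quotient.mk _ (X k)) = X k - ∑ i, C (e₀ i k) * X i := by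
  classical
  let e' : Fin m → Fin m → B := fun i k => (if i = k then (1 : B) else 0) - E i k
  show ∃ Φ : SymC e' →+* MvPolynomial (Fin m) A₀, Function.Surjective Φ ∧
    RingHom.ker Φ = (RingHom.ker χ).map (algebraMap B (SymC e')) ∧
    (∀ b : B, Φ (algebraMap B _ b) = sect e₀ he₀ (χ b)) ∧
    ∀ k, Φ (Ideal.Quotient.mk _ (X k)) = X k - ∑ i, C (e₀ i k) * X i
  have hL : ∀ k, L e' k = ∑ i, C (E i k) * X i := by
    intro k
    have h1 : (∑ i, (C (if i = k then (1:B) else 0) : MvPolynomial (Fin m) B) * X i) = X k := by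
      rw [Finset.sum_eq_single k]
      · rw [if_pos rfl, map_one, one_mul]
      · intro i _ hik; rw [if_neg hik, map_zero, zero_mul]
      · intro h; exact absurd (Finset.mem_univ _) h
    simp only [L, e', map_sub, sub_mul, Finset.sum_sub_distrib, h1]
    ring
  let φB : B →+* MvPolynomial (Fin m) A₀ :=
    ((sect e₀ he₀ : SymC e₀ →ₐ[A₀] _) : SymC e₀ →+* _).comp χ
  let v : Fin m → MvPolynomial (Fin m) A₀ := fun k => X k - ∑ i, C (e₀ i k) * X i
  let Φ₀ : MvPolynomial (Fin m) B →+* MvPolynomial (Fin m) A₀ := eval₂Hom φB v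
  have hφE : ∀ i k, φB (E i k) = C (e₀ i k) := by
    intro i k
    show sect e₀ he₀ (χ (E i k)) = _
    rw [hχE, AlgHom.commutes, MvPolynomial.algebraMap_eq]
  have hΦL : ∀ k, Φ₀ (L e' k) = 0 := by
    intro k
    rw [hL, map_sum]
    have h1 : ∀ i, Φ₀ (C (E i k) * X i) = C (e₀ i k) * X i - C (e₀ i k) * ∑ j, C (e₀ j i) * X j := by
      intro i
      rw [map_mul]
      show eval₂Hom φB v (C (E i k)) * eval₂Hom φB v (X i) = _
      rw [eval₂Hom_C, eval₂Hom_X', hφE, mul_sub]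
    simp only [h1, Finset.sum_sub_distrib]
    rw [sum_C_mul_X e₀ he₀ k, sub_self]
  have hΦJ : ∀ a ∈ J e', Φ₀ a = 0 := by
    intro a ha
    have hle : J e' ≤ RingHom.ker Φ₀ := by
      rw [J, Ideal.span_le]; rintro _ ⟨k, rfl⟩; exact hΦL k
    exact hle ha
  let Φ : SymC e' →+* MvPolynomial (Fin m) A₀ := Ideal.Quotient.lift (J e') Φ₀ hΦJ
  choose bb hbb using fun k => hχ (Ideal.Quotient.mk (J e₀) (X k))
  have hΦb : ∀ b, Φ (algebraMap B (SymC e') b) = sect e₀ he₀ (χ b) := by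
    intro b
    show Φ (Ideal.Quotient.mk (J e') (C b)) = _
    rw [Ideal.Quotient.lift_mk]; exact eval₂Hom_C _ _ b
  have hΦz : ∀ k, Φ (Ideal.Quotient.mk (J e') (X k)) = v k := by
    intro k; rw [Ideal.Quotient.lift_mk]; exact eval₂Hom_X' _ _ k
  have hsectX : ∀ k, sect e₀ he₀ (Ideal.Quotient.mk (J e₀) (X k)) = ∑ i, C (e₀ i k) * X i := by
    intro k
    show subst e₀ (X k) = _
    simp [subst]
  have hsurj : Function.Surjective Φ := by
    intro q
    induction q using MvPolynomial.induction_on with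
    | C a =>
      obtain ⟨b, hb⟩ := hχ (algebraMap A₀ (SymC e₀) a)
      refine ⟨algebraMap B (SymC e') b, ?_⟩
      rw [hΦb, hb, AlgHom.commutes, MvPolynomial.algebraMap_eq]
    | add p q hp hq =>
      obtain ⟨x, rfl⟩ := hp; obtain ⟨y, rfl⟩ := hq; exact ⟨x + y, map_add _ _ _⟩
    | mul_X p k hp =>
      obtain ⟨x, rfl⟩ := hp
      refine ⟨x * (Ideal.Quotient.mk (J e') (X k) + algebraMap B (SymC e') (bb k)), ?_⟩
      rw [map_mul, map_add, hΦz, hΦb, hbb, hsectX]
      simp only [v, sub_add_cancel]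
  let 𝔎 : Ideal (SymC e') := (RingHom.ker χ).map (algebraMap B (SymC e'))
  have hker1 : 𝔎 ≤ RingHom.ker Φ := by
    rw [Ideal.map_le_iff_le_comap]
    intro b hb
    rw [Ideal.mem_comap, RingHom.mem_ker, hΦb, (RingHom.mem_ker).mp hb, map_zero]
  let mkQ : SymC e' →+* SymC e' ⧸ 𝔎 := Ideal.Quotient.mk 𝔎
  let β : B →+* SymC e' ⧸ 𝔎 := mkQ.comp (algebraMap B (SymC e'))
  have hβker : RingHom.ker χ ≤ RingHom.ker β := by
    intro b hb
    rw [RingHom.mem_ker]
    show mkQ (algebraMap B (SymC e') b) = 0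
    exact Ideal.Quotient.eq_zero_iff_mem.mpr (Ideal.mem_map_of_mem _ hb)
  let ψ : SymC e₀ →+* SymC e' ⧸ 𝔎 :=
    χ.liftOfRightInverse (Function.surjInv hχ) (Function.rightInverse_surjInv hχ) ⟨β, hβker⟩
  have hψχ : ∀ b, ψ (χ b) = β b := fun b =>
    RingHom.liftOfRightInverse_comp_apply χ _ (Function.rightInverse_surjInv hχ) ⟨β, hβker⟩ b
  let z : Fin m → SymC e' := fun k => Ideal.Quotient.mk (J e') (X k)
  let u : Fin m → SymC e' ⧸ 𝔎 := fun k => β (bb k) + mkQ (z k)
  let α : MvPolynomial (Fin m) A₀ →+* SymC e' ⧸ 𝔎 :=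
    eval₂Hom (ψ.comp (algebraMap A₀ (SymC e₀))) u
  have hz : ∀ k, ∑ i, algebraMap B (SymC e') (E i k) * z i = 0 := by
    intro k
    have h1 : (∑ i, algebraMap B (SymC e') (E i k) * z i) =
        Ideal.Quotient.mk (J e') (L e' k) := by
      rw [hL, map_sum]
      refine Finset.sum_congr rfl fun i _ => ?_
      rw [map_mul]; rfl
    rw [h1]; exact Ideal.Quotient.eq_zero_iff_mem.mpr (L_mem e' k)
  have hbbE : ∀ k, χ (∑ i, E i k * bb i) = χ (bb k) := by
    intro k
    rw [map_sum, hbb]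
    have h1 : ∀ i, χ (E i k * bb i) = Ideal.Quotient.mk (J e₀) (C (e₀ i k) * X i) := by
      intro i
      rw [map_mul, hχE, hbb, map_mul]; rfl
    simp only [h1]
    rw [← map_sum, eq_comm, Ideal.Quotient.eq]
    exact L_mem e₀ k
  have hK : ∀ k, ∑ i, ψ (algebraMap A₀ (SymC e₀) (e₀ i k)) * u i = β (bb k) := by
    intro k
    have h1 : ∀ i, ψ (algebraMap A₀ (SymC e₀) (e₀ i k)) = β (E i k) := fun i => by
      rw [← hχE, hψχ]
    simp only [h1, u, mul_add, Finset.sum_add_distrib]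
    have h2 : ∑ i, β (E i k) * β (bb i) = β (bb k) := by
      rw [← hψχ (bb k), ← hbbE k, hψχ, map_sum]
      simp only [map_mul]
    have h3 : ∑ i, β (E i k) * mkQ (z i) = 0 := by
      have h4 : ∑ i, β (E i k) * mkQ (z i) =
          mkQ (∑ i, algebraMap B (SymC e') (E i k) * z i) := by
        rw [map_sum]; refine Finset.sum_congr rfl fun i _ => ?_; rw [map_mul]; rfl
      rw [h4, hz, map_zero]
    rw [h2, h3, add_zero]
  have hαC : ∀ a, α (C a) = ψ (algebraMap A₀ (SymC e₀) a) := fun a => eval₂Hom_C _ _ a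
  have hαX : ∀ k, α (X k) = u k := fun k => eval₂Hom_X' _ _ k
  have hS : ∀ s : SymC e₀, α (sect e₀ he₀ s) = ψ s := by
    have h0 : α.comp ((sect e₀ he₀ : SymC e₀ →ₐ[A₀] _) : SymC e₀ →+* _) = ψ := by
      apply Ideal.Quotient.ringHom_ext
      apply MvPolynomial.ringHom_ext
      · intro a
        show α (sect e₀ he₀ (Ideal.Quotient.mk (J e₀) (C a))) =
          ψ (Ideal.Quotient.mk (J e₀) (C a))
        have h1 : sect e₀ he₀ (Ideal.Quotient.mk (J e₀) (C a)) = C a := by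
          show subst e₀ (C a) = C a
          simp [subst]
        rw [h1, hαC]; rfl
      · intro k
        show α (sect e₀ he₀ (Ideal.Quotient.mk (J e₀) (X k))) =
          ψ (Ideal.Quotient.mk (J e₀) (X k))
        rw [hsectX, map_sum, ← hbb k, hψχ, ← hK k]
        refine Finset.sum_congr rfl fun i _ => ?_
        rw [map_mul, hαC, hαX]
    intro s; exact DFunLike.congr_fun h0 s
  have hαΦ : ∀ d : SymC e', α (Φ d) = mkQ d := by
    have h0 : α.comp Φ = mkQ := by
      apply Ideal.Quotient.ringHom_ext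
      apply MvPolynomial.ringHom_ext
      · intro b
        show α (Φ (Ideal.Quotient.mk (J e') (C b))) = mkQ (Ideal.Quotient.mk (J e') (C b))
        have h1 : Φ (Ideal.Quotient.mk (J e') (C b)) = sect e₀ he₀ (χ b) := hΦb b
        rw [h1, hS, hψχ]; rfl
      · intro k
        show α (Φ (Ideal.Quotient.mk (J e') (X k))) = mkQ (z k)
        rw [hΦz]
        show α (X k - ∑ i, C (e₀ i k) * X i) = _
        rw [map_sub, map_sum]
        have h2 : ∀ i, α (C (e₀ i k) * X i) = ψ (algebraMap A₀ (SymC e₀) (e₀ i k)) * u i := by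
          intro i; rw [map_mul, hαC, hαX]
        simp only [hαX, h2, hK k, u]
        ring
    intro d; exact DFunLike.congr_fun h0 d
  refine ⟨Φ, hsurj, le_antisymm ?_ hker1, hΦb, hΦz⟩
  intro d hd
  have h1 : mkQ d = 0 := by rw [← hαΦ, (RingHom.mem_ker).mp hd, map_zero]
  exact Ideal.Quotient.eq_zero_iff_mem.mp h1

end Groth.Agent.H20.SymCompl
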