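import Mathlib
import Groth.Prelude.Def_RegImm
import Groth.Agent.S9146
import Groth.Agent.Lead.SyntLocal

set_option autoImplicit false
set_option linter.style.haveILetI false
universe u

namespace Groth.Agent.H20.SyntCover

open Groth.Agent.Lead.SyntLocal

/-- localising a syntomic localisation away once more stays syntomic (in commuted form). -/
theorem syntomic_away_away {R A : Type u} [CommRing R] [CommRing A] [Algebra R A] (g b : A)
    (hg : Synt.IsSyntomic R (Localization.Away g)) :
    Synt.IsSyntomic R (Localization.Away (algebraMap A (Localization.Away b) g)) := by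
  have hu : IsUnit (algebraMap A (Localization.Away (algebraMap A (Localization.Away b) g)) g) := by
    rw [IsScalarTower.algebraMap_apply A (Localization.Away b)
      (Localization.Away (algebraMap A (Localization.Away b) g))]
    exact IsLocalization.Away.algebraMap_isUnit _
  letI : Algebra (Localization.Away g)
      (Localization.Away (algebraMap A (Localization.Away b) g)) :=
    (IsLocalization.Away.lift g hu).toAlgebra
  haveI : IsScalarTower A (Localization.Away g)
      (Localization.Away (algebraMap A (Localization.Away b) g)) :=
    IsScalarTower.of_algebraMap_eq fun x => (IsLocalization.Away.lift_eq g hu x).symm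
  haveI : IsLocalization.Away (algebraMap A (Localization.Away g) b)
      (Localization.Away (algebraMap A (Localization.Away b) g)) :=
    IsLocalization.Away.commutes (Localization.Away g) (Localization.Away b)
      (Localization.Away (algebraMap A (Localization.Away b) g)) g b
  have hQ := stableUnderCompositionWithLocalizationAwayTarget
    (Localization.Away (algebraMap A (Localization.Away b) g))
    (algebraMap A (Localization.Away g) b) (algebraMap R (Localization.Away g))
    (Q_algebraMap_iff.mpr hg)
  have heq : (algebraMap (Localization.Away g)
      (Localization.Away (algebraMap A (Localization.Away b) g))).comp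
      (algebraMap R (Localization.Away g)) =
      algebraMap R (Localization.Away (algebraMap A (Localization.Away b) g)) := by
    ext r
    simp only [RingHom.comp_apply]
    rw [IsScalarTower.algebraMap_apply R A (Localization.Away g),
      ← IsScalarTower.algebraMap_apply A (Localization.Away g)
        (Localization.Away (algebraMap A (Localization.Away b) g)),
      IsScalarTower.algebraMap_apply A (Localization.Away b)
        (Localization.Away (algebraMap A (Localization.Away b) g)),
      ← IsScalarTower.algebraMap_apply R A (Localization.Away b),
      ← IsScalarTower.algebraMap_apply R (Localization.Away b)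
        (Localization.Away (algebraMap A (Localization.Away b) g))]
  rw [heq] at hQ
  exact Q_algebraMap_iff.mp hQ

/-- (ES2) covering argument. -/
theorem exists_syntomic_away_of_forall {R A : Type u} [CommRing R] [CommRing A] [Algebra R A] (𝔞 : Ideal A) (h : ∀ (q : Ideal A) [q.IsPrime], 𝔞 ≤ q → ∃ g : A, g ∉ q ∧ Synt.IsSyntomic R (Localization.Away g)) : ∃ f : A, f - 1 ∈ 𝔞 ∧ Synt.IsSyntomic R (Localization.Away f) := by
  classical
  have htop : Ideal.span {g : A | Synt.IsSyntomic R (Localization.Away g)} ⊔ 𝔞 = ⊤ := by
    by_contra hne
    obtain ⟨M, hM, hle⟩ := Ideal.exists_le_maximal _ hne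
    haveI := hM.isPrime
    obtain ⟨g, hgM, hg⟩ := h M (le_trans le_sup_right hle)
    exact hgM (hle (Ideal.mem_sup_left (Ideal.subset_span hg)))
  obtain ⟨b, hb, a, ha, hba⟩ := Submodule.mem_sup.mp ((Ideal.eq_top_iff_one _).mp htop)
  refine ⟨b, ?_, ?_⟩
  · have h1 : b - 1 = -a := by rw [← hba]; ring
    rw [h1]; exact neg_mem ha
  · obtain ⟨c, t, htG, -, hsum⟩ := Submodule.mem_span_iff_exists_finset_subset.mp hb
    refine Groth.Agent.S9146.result R (Localization.Away b)
      (t.image (algebraMap A (Localization.Away b))) ?_ ?_
    · apply Ideal.eq_top_of_isUnit_mem _ (x := algebraMap A (Localization.Away b) b) ?_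
        (IsLocalization.Away.algebraMap_isUnit b)
      rw [← hsum, map_sum]
      refine Ideal.sum_mem _ fun g hg => ?_
      rw [smul_eq_mul, map_mul]
      exact Ideal.mul_mem_left _ _
        (Ideal.subset_span (Finset.mem_coe.mpr (Finset.mem_image_of_mem _ hg)))
    · intro g' hg'
      obtain ⟨g, hg, rfl⟩ := Finset.mem_image.mp hg'
      exact syntomic_away_away g b (htG hg)

end Groth.Agent.H20.SyntCover
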