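import Mathlib
import Groth.Prelude
import Groth.Agent.H29.FlatCM
import Groth.Agent.S9249

/-!
# Cohen–Macaulay stalks ascend along étale morphisms (piece (CET) for helper14's S17306/S17307)
-/

set_option autoImplicit false
set_option linter.style.haveILetI false

universe u

open CategoryTheory CategoryTheory.Limits AlgebraicGeometry IsLocalRing

namespace Groth.Agent.H20.CL_CET

/-- The (ETLOC) facts in algebra form: for an étale `α`, with the stalk map as algebra structure,
`B = O_{U,u}` is flat, formally unramified and essentially of finite type over `A = O_{X,α u}`, and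
the map is local. -/
theorem etale_stalk_alg {U X : Scheme.{u}} (α : U ⟶ X) [Etale α] (u : U) :
    letI : Algebra (X.presheaf.stalk (α u)) (U.presheaf.stalk u) := (α.stalkMap u).hom.toAlgebra
    IsLocalHom (algebraMap (X.presheaf.stalk (α u)) (U.presheaf.stalk u)) ∧
      Module.Flat (X.presheaf.stalk (α u)) (U.presheaf.stalk u) ∧
      Algebra.FormallyUnramified (X.presheaf.stalk (α u)) (U.presheaf.stalk u) ∧
      Algebra.EssFiniteType (X.presheaf.stalk (α u)) (U.presheaf.stalk u) := by
  letI : Algebra (X.presheaf.stalk (α u)) (U.presheaf.stalk u) := (α.stalkMap u).hom.toAlgebra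
  refine ⟨inferInstanceAs <| IsLocalHom (α.stalkMap u).hom, ?_, ?_, ?_⟩
  · exact AlgebraicGeometry.Flat.stalkMap α u
  · rw [← RingHom.formallyUnramified_algebraMap, RingHom.algebraMap_toAlgebra]
    exact AlgebraicGeometry.FormallyUnramified.stalkMap α u
  · rw [← RingHom.essFiniteType_algebraMap, RingHom.algebraMap_toAlgebra]
    exact LocallyOfFiniteType.stalkMap α u

/-- Algebraic core: a flat, formally unramified, essentially finite type local extension of a
Noetherian local ring has `m_A B = m_B` and is Noetherian. -/
theorem map_maximalIdeal_eq {A B : Type u} [CommRing A] [CommRing B] [IsLocalRing A]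
    [IsLocalRing B] [Algebra A B] [IsLocalHom (algebraMap A B)] [Algebra.FormallyUnramified A B]
    [Algebra.EssFiniteType A B] :
    (maximalIdeal A).map (algebraMap A B) = maximalIdeal B :=
  Algebra.FormallyUnramified.map_maximalIdeal

theorem cm_of_alg {A B : Type u} [CommRing A] [CommRing B] [IsLocalRing A]
    [IsLocalRing B] [Algebra A B] [IsLocalHom (algebraMap A B)] [Module.Flat A B]
    [Algebra.FormallyUnramified A B] [Algebra.EssFiniteType A B]
    (h : LocCoh.IsCohenMacaulayLocalRing A) : LocCoh.IsCohenMacaulayLocalRing B := by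
  haveI : IsNoetherianRing A := h.toIsNoetherian
  haveI : IsNoetherianRing B := Algebra.EssFiniteType.isNoetherianRing A B
  have hm : EGA4.mB A B = maximalIdeal B := map_maximalIdeal_eq
  have hfld : IsField (EGA4.FibRing A B) := by
    have : IsField (B ⧸ (maximalIdeal A).map (algebraMap A B)) :=
      Algebra.FormallyUnramified.isField_quotient_map_maximalIdeal
    exact this
  haveI : IsNoetherianRing (EGA4.FibRing A B) := inferInstance
  have hF : LocCoh.IsCohenMacaulayLocalRing (EGA4.FibRing A B) :=
    Groth.Agent.S9249.isCM_of_isField hfld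
  exact Groth.Agent.H29.FlatCM.isCM_of_flat_of_isCM_of_isCM h hF

/-- (CET) -/
theorem cm_stalk_of_etale {U X : Scheme.{u}} (α : U ⟶ X) [Etale α] (u : U)
    (h : LocCoh.IsCohenMacaulayLocalRing (X.presheaf.stalk (α u))) :
    LocCoh.IsCohenMacaulayLocalRing (U.presheaf.stalk u) := by
  letI : Algebra (X.presheaf.stalk (α u)) (U.presheaf.stalk u) := (α.stalkMap u).hom.toAlgebra
  obtain ⟨h1, h2, h3, h4⟩ := etale_stalk_alg α u
  haveI := h1
  haveI := h2
  haveI := h3
  haveI := h4
  exact cm_of_alg h

end Groth.Agent.H20.CL_CET
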