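import Mathlib
import Groth.Prelude
import Groth.Agent.H60.GorTransfer
import Groth.Agent.H20.CL_CET

/-!
# Gorenstein stalks ascend along étale morphisms (piece (GET) for helper14's S17306/S17307)
-/

set_option autoImplicit false
set_option linter.style.haveILetI false

universe u

open CategoryTheory CategoryTheory.Limits AlgebraicGeometry IsLocalRing

namespace Groth.Agent.H20.CL_GET

theorem gor_of_alg {A B : Type u} [CommRing A] [CommRing B] [IsLocalRing A]
    [IsLocalRing B] [Algebra A B] [IsLocalHom (algebraMap A B)] [Module.Flat A B]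
    [Algebra.FormallyUnramified A B] [Algebra.EssFiniteType A B]
    (h : LocCoh.IsGorensteinLocalRing A) : LocCoh.IsGorensteinLocalRing B := by
  haveI : IsNoetherianRing A := h.toIsNoetherian
  haveI : IsNoetherianRing B := Algebra.EssFiniteType.isNoetherianRing A B
  have hm : (maximalIdeal A).map (algebraMap A B) = maximalIdeal B :=
    Groth.Agent.H20.CL_CET.map_maximalIdeal_eq
  have hker : RingHom.ker (IsLocalRing.residue B) = (maximalIdeal A).map (algebraMap A B) := by
    rw [hm]; exact IsLocalRing.ker_residue
  exact (Groth.Agent.H60.GorTransfer.flat_local_iff A B (IsLocalRing.ResidueField B)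
    (IsLocalRing.residue B) IsLocalRing.residue_surjective hker).mpr
    ⟨h, Groth.Agent.H60.GorTransfer.gor_field _⟩

/-- (GET) -/
theorem gor_stalk_of_etale {U X : Scheme.{u}} (α : U ⟶ X) [Etale α] (u : U)
    (h : LocCoh.IsGorensteinLocalRing (X.presheaf.stalk (α u))) :
    LocCoh.IsGorensteinLocalRing (U.presheaf.stalk u) := by
  letI : Algebra (X.presheaf.stalk (α u)) (U.presheaf.stalk u) := (α.stalkMap u).hom.toAlgebra
  obtain ⟨h1, h2, h3, h4⟩ := Groth.Agent.H20.CL_CET.etale_stalk_alg α u
  haveI := h1
  haveI := h2
  haveI := h3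
  haveI := h4
  exact gor_of_alg h

end Groth.Agent.H20.CL_GET
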