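import Mathlib
import Groth.Prelude.Def_CurvBase

/-!
# (ODP) for S7889: an ordinary double point is reduced
-/

set_option autoImplicit false
set_option linter.style.haveILetI false
set_option linter.unusedSectionVars false
universe u
open CategoryTheory CategoryTheory.Limits AlgebraicGeometry

namespace Groth.Agent.H20.NN_ODP

section PS

variable {K : Type u} [Field K] {σ : Type} [DecidableEq σ]

open MvPowerSeries

/-- restriction to the monomials not involving `s` -/
noncomputable def res (s : σ) (φ : MvPowerSeries σ K) : MvPowerSeries σ K :=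
  fun m => if m s = 0 then coeff m φ else 0

theorem coeff_res (s : σ) (φ : MvPowerSeries σ K) (m : σ →₀ ℕ) :
    coeff m (res s φ) = if m s = 0 then coeff m φ else 0 := rfl

theorem X_dvd_sub_res (s : σ) (φ : MvPowerSeries σ K) : (X s : MvPowerSeries σ K) ∣ φ - res s φ := by
  rw [X_dvd_iff]
  intro m hm
  rw [map_sub, coeff_res, if_pos hm, sub_self]

theorem coeff_res_mul_res (s : σ) (φ ψ : MvPowerSeries σ K) (m : σ →₀ ℕ) (hm : m s ≠ 0) :
    coeff m (res s φ * res s ψ) = 0 := by
  rw [coeff_mul]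
  refine Finset.sum_eq_zero fun p hp => ?_
  rw [Finset.HasAntidiagonal.mem_antidiagonal] at hp
  by_cases h1 : p.1 s = 0
  · by_cases h2 : p.2 s = 0
    · exfalso
      apply hm
      rw [← hp, Finsupp.add_apply, h1, h2]
    · rw [coeff_res s ψ, if_neg h2, mul_zero]
  · rw [coeff_res s φ, if_neg h1, zero_mul]

theorem X_dvd_or_of_dvd_mul (s : σ) (φ ψ : MvPowerSeries σ K)
    (h : (X s : MvPowerSeries σ K) ∣ φ * ψ) :
    (X s : MvPowerSeries σ K) ∣ φ ∨ (X s : MvPowerSeries σ K) ∣ ψ := by
  have h1 := X_dvd_sub_res s φ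
  have h2 := X_dvd_sub_res s ψ
  have h3 : (X s : MvPowerSeries σ K) ∣ res s φ * res s ψ := by
    have e : res s φ * res s ψ = φ * ψ - (φ - res s φ) * ψ - res s φ * (ψ - res s ψ) := by ring
    rw [e]
    exact dvd_sub (dvd_sub h (Dvd.dvd.mul_right h1 ψ)) (Dvd.dvd.mul_left h2 (res s φ))
  have h4 : res s φ * res s ψ = 0 := by
    ext m
    rw [map_zero]
    by_cases hm : m s = 0
    · exact X_dvd_iff.mp h3 m hm
    · exact coeff_res_mul_res s φ ψ m hm
  rcases mul_eq_zero.mp h4 with h5 | h5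
  · left
    rw [h5, sub_zero] at h1
    exact h1
  · right
    rw [h5, sub_zero] at h2
    exact h2

theorem not_X_dvd_one (s : σ) : ¬ (X s : MvPowerSeries σ K) ∣ 1 := by
  intro h
  have := X_dvd_iff.mp h 0 (by simp)
  rw [coeff_zero_one] at this
  exact one_ne_zero this

theorem X_dvd_of_dvd_pow (s : σ) (φ : MvPowerSeries σ K) (n : ℕ)
    (h : (X s : MvPowerSeries σ K) ∣ φ ^ n) : (X s : MvPowerSeries σ K) ∣ φ := by
  induction n with
  | zero =>
    rw [pow_zero] at h
    exact absurd h (not_X_dvd_one s)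
  | succ n ih =>
    rw [pow_succ] at h
    rcases X_dvd_or_of_dvd_mul s _ _ h with h1 | h1
    · exact ih h1
    · exact h1

theorem isRadical_span_xy :
    (Ideal.span {(X 0 * X 1 : MvPowerSeries (Fin 2) K)}).IsRadical := by
  intro f hf
  obtain ⟨n, hn⟩ := Ideal.mem_radical_iff.mp hf
  rw [Ideal.mem_span_singleton] at hn ⊢
  have h0 : (X 0 : MvPowerSeries (Fin 2) K) ∣ f :=
    X_dvd_of_dvd_pow 0 f n (dvd_of_mul_right_dvd hn)
  have h1 : (X 1 : MvPowerSeries (Fin 2) K) ∣ f :=
    X_dvd_of_dvd_pow 1 f n (dvd_of_mul_left_dvd hn)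
  obtain ⟨g, rfl⟩ := h0
  rcases X_dvd_or_of_dvd_mul 1 _ _ h1 with h2 | h2
  · exfalso
    have h3 := X_dvd_iff.mp h2 (Finsupp.single 0 1) (by simp)
    rw [coeff_index_single_self_X] at h3
    exact one_ne_zero h3
  · obtain ⟨k, rfl⟩ := h2
    exact ⟨k, by ring⟩

end PS

/-- (ODP) -/
theorem isReduced_of_isOrdDoublePt (K : Type u) [Field K] (A : Type u) [CommRing A] [Algebra K A]
    [IsLocalRing A] [IsNoetherianRing A] (h : Curv2.IsOrdDoublePt K A) : IsReduced A := by
  obtain ⟨e, -⟩ := h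
  haveI h1 : IsReduced (MvPowerSeries (Fin 2) K ⧸
      Ideal.span {(MvPowerSeries.X 0 * MvPowerSeries.X 1 : MvPowerSeries (Fin 2) K)}) :=
    (Ideal.isRadical_iff_quotient_reduced _).mp isRadical_span_xy
  haveI h2 : IsReduced (AdicCompletion (IsLocalRing.maximalIdeal A) A) :=
    isReduced_of_injective e.toRingHom e.injective
  refine isReduced_of_injective
    (algebraMap A (AdicCompletion (IsLocalRing.maximalIdeal A) A)) ?_
  intro a b hab
  rw [AdicCompletion.algebraMap_apply, AdicCompletion.algebraMap_apply] at hab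
  exact AdicCompletion.of_injective (IsLocalRing.maximalIdeal A) A hab

end Groth.Agent.H20.NN_ODP
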