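import Mathlib
import Groth.Prelude.Def_EtRam
import Groth.Prelude.Def_Found
import Groth.Agent.H43.PI_CL
import Groth.Agent.H43.PI_RP

set_option autoImplicit false
set_option linter.style.haveILetI false
universe u

namespace Groth.Agent.H20.PI

/-- (CP) closeness package: from the bound, get the four closeness statements. -/
theorem closeness {Ω M₂ M₃ K₁ K₂ K₃ : Type u} [Field Ω] [Field M₂] [Field M₃] [Field K₁] [Field K₂]
    [Field K₃] (p : ℕ) (hp : p.Prime) [CharP Ω p] (W : ValuationSubring Ω)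
    (j₂ : M₂ →+* Ω) (j₃ : M₃ →+* Ω) (g₂ : K₂ →+* M₂) (g₃ : K₃ →+* M₃)
    (f₂ : K₁ →+* K₂) (f₃ : K₁ →+* K₃) (hcomm : ∀ y, j₂ (g₂ (f₂ y)) = j₃ (g₃ (f₃ y)))
    (S₁ : Subring Ω) (hS₁ : ∀ y : K₁, j₂ (g₂ (f₂ y)) ∈ S₁)
    (x₂ : K₂) (z₃ : K₃) (ϖ : Ω) (N t : ℕ) (hN : p * t < N) (hϖ0 : ϖ ≠ 0)
    (hϖ : W.valuation ϖ < 1) (hϖS : ϖ ∈ S₁) (hxW : j₂ (g₂ x₂) ∈ W)
    (hxp : j₂ (g₂ x₂) ^ p ∈ S₁)
    (hz : j₃ (g₃ z₃) ^ p = ϖ ^ N * j₃ (g₃ z₃) + j₂ (g₂ x₂) ^ p)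
    (hbound : ∀ c : Fin p → Ω, (∀ i, c i ∈ S₁) → ∀ i, ∃ w ∈ W,
      ϖ ^ t * c i = w * ∑ j, c j * j₂ (g₂ x₂) ^ (j : ℕ))
    (hm2 : ∀ b : M₂, j₂ b ∈ Subring.closure ((S₁ : Set Ω) ∪ {j₂ (g₂ x₂)}))
    (hm2' : ∀ u ∈ S₁, ∃ b : M₂, j₂ b = u)
    (hm3 : ∀ a : M₃, j₃ a ∈ Subring.closure ((S₁ : Set Ω) ∪ {j₃ (g₃ z₃)}))
    (hm3' : ∀ u ∈ S₁, ∃ a : M₃, j₃ a = u)
    (hk2 : ∀ b : K₂, ∃ c : Fin p → K₁, b = ∑ j, f₂ (c j) * x₂ ^ (j : ℕ))
    (hk3 : ∀ a : K₃, ∃ c : Fin p → K₁, a = ∑ j, f₃ (c j) * z₃ ^ (j : ℕ)) :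
    (∀ a : M₃, a ≠ 0 → ∃ b : M₂, W.valuation (j₃ a - j₂ b) < W.valuation (j₂ b)) ∧
    (∀ b : M₂, b ≠ 0 → ∃ a : M₃, W.valuation (j₃ a - j₂ b) < W.valuation (j₂ b)) ∧
    (∀ a : K₃, a ≠ 0 → ∃ b : K₂,
      W.valuation (j₃ (g₃ a) - j₂ (g₂ b)) < W.valuation (j₂ (g₂ b))) ∧
    (∀ b : K₂, b ≠ 0 → ∃ a : K₃,
      W.valuation (j₃ (g₃ a) - j₂ (g₂ b)) < W.valuation (j₂ (g₂ b))) := by
  set x : Ω := j₂ (g₂ x₂) with hx_def
  set z : Ω := j₃ (g₃ z₃) with hz_def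
  have hp2 : 2 ≤ p := hp.two_le
  -- the core estimate
  have core : ∀ C : Fin p → Ω, (∀ i, C i ∈ S₁) → (∑ j, C j * x ^ (j : ℕ)) ≠ 0 →
      W.valuation (∑ j, C j * z ^ (j : ℕ) - ∑ j, C j * x ^ (j : ℕ)) <
        W.valuation (∑ j, C j * x ^ (j : ℕ)) := by
    intro C hC hX
    exact Groth.Agent.H43.PI.close_of_bound p hp W x z ϖ N t hN hϖ0 hϖ hxW hz C _ rfl hX
      (hbound C hC)
  -- vanishing of X forces vanishing of the coefficients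
  have factA : ∀ C : Fin p → Ω, (∀ i, C i ∈ S₁) → (∑ j, C j * x ^ (j : ℕ)) = 0 →
      ∀ i, C i = 0 := by
    intro C hC hX i
    obtain ⟨w, -, hw⟩ := hbound C hC i
    rw [hX, mul_zero] at hw
    exact (mul_eq_zero.mp hw).resolve_left (pow_ne_zero _ hϖ0)
  have factA' : ∀ C : Fin p → Ω, (∀ i, C i ∈ S₁) → (∑ j, C j * z ^ (j : ℕ)) ≠ 0 →
      (∑ j, C j * x ^ (j : ℕ)) ≠ 0 := by
    intro C hC hZ hX
    apply hZ
    have h0 := factA C hC hX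
    exact Finset.sum_eq_zero fun j _ => by rw [h0 j, zero_mul]
  -- representations
  have repz : ∀ w ∈ Subring.closure ((S₁ : Set Ω) ∪ {z}),
      ∃ c : Fin p → Ω, (∀ j, c j ∈ S₁) ∧ w = ∑ j, c j * z ^ (j : ℕ) := by
    intro w hw
    refine Groth.Agent.H43.PI.exists_repr S₁ z p
      (fun j => if (j : ℕ) = 0 then x ^ p else if (j : ℕ) = 1 then ϖ ^ N else 0) ?_ ?_ w hw
    · intro j
      split_ifs
      · exact hxp
      · exact pow_mem hϖS N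
      · exact zero_mem _
    · rw [Finset.sum_eq_add (⟨0, by omega⟩ : Fin p) (⟨1, by omega⟩ : Fin p)]
      · simp only [if_true, one_ne_zero, if_false, pow_zero, mul_one, pow_one]
        rw [hz]; ring
      · intro h; simp [Fin.ext_iff] at h
      · intro c _ hc
        have h0 : (c : ℕ) ≠ 0 := fun h => hc.1 (Fin.ext h)
        have h1 : (c : ℕ) ≠ 1 := fun h => hc.2 (Fin.ext h)
        simp only [h0, h1, if_false, zero_mul]
      · intro h; exact absurd (Finset.mem_univ _) h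
      · intro h; exact absurd (Finset.mem_univ _) h
  have repx : ∀ w ∈ Subring.closure ((S₁ : Set Ω) ∪ {x}),
      ∃ c : Fin p → Ω, (∀ j, c j ∈ S₁) ∧ w = ∑ j, c j * x ^ (j : ℕ) := by
    intro w hw
    refine Groth.Agent.H43.PI.exists_repr S₁ x p
      (fun j => if (j : ℕ) = 0 then x ^ p else 0) ?_ ?_ w hw
    · intro j
      split_ifs
      · exact hxp
      · exact zero_mem _
    · rw [Finset.sum_eq_single (⟨0, by omega⟩ : Fin p)]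
      · simp only [if_true, pow_zero, mul_one]
      · intro c _ hc
        have h0 : (c : ℕ) ≠ 0 := fun h => hc (Fin.ext h)
        simp only [h0, if_false, zero_mul]
      · intro h; exact absurd (Finset.mem_univ _) h
  refine ⟨?_, ?_, ?_, ?_⟩
  · -- c1
    intro a ha
    obtain ⟨c, hc, hac⟩ := repz (j₃ a) (hm3 a)
    have hZ : (∑ j, c j * z ^ (j : ℕ)) ≠ 0 := by
      rw [← hac]; exact (map_ne_zero j₃).mpr ha
    have hX := factA' c hc hZ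
    choose bb hbb using fun j => hm2' (c j) (hc j)
    refine ⟨∑ j, bb j * g₂ x₂ ^ (j : ℕ), ?_⟩
    have e : j₂ (∑ j, bb j * g₂ x₂ ^ (j : ℕ)) = ∑ j, c j * x ^ (j : ℕ) := by
      rw [map_sum]
      exact Finset.sum_congr rfl fun j _ => by rw [map_mul, map_pow, hbb]
    rw [e, hac]
    exact core c hc hX
  · -- c2
    intro b hb
    obtain ⟨c, hc, hbc⟩ := repx (j₂ b) (hm2 b)
    have hX : (∑ j, c j * x ^ (j : ℕ)) ≠ 0 := by
      rw [← hbc]; exact (map_ne_zero j₂).mpr hb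
    choose aa haa using fun j => hm3' (c j) (hc j)
    refine ⟨∑ j, aa j * g₃ z₃ ^ (j : ℕ), ?_⟩
    have e : j₃ (∑ j, aa j * g₃ z₃ ^ (j : ℕ)) = ∑ j, c j * z ^ (j : ℕ) := by
      rw [map_sum]
      exact Finset.sum_congr rfl fun j _ => by rw [map_mul, map_pow, haa]
    rw [e, hbc]
    exact core c hc hX
  · -- c3
    intro a ha
    obtain ⟨c, hac⟩ := hk3 a
    have hC : ∀ i, j₂ (g₂ (f₂ (c i))) ∈ S₁ := fun i => hS₁ (c i)
    have e3 : j₃ (g₃ a) = ∑ j, j₂ (g₂ (f₂ (c j))) * z ^ (j : ℕ) := by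
      rw [hac, map_sum, map_sum]
      exact Finset.sum_congr rfl fun j _ => by
        rw [map_mul, map_mul, map_pow, map_pow, hcomm]
    have hZ : (∑ j, j₂ (g₂ (f₂ (c j))) * z ^ (j : ℕ)) ≠ 0 := by
      rw [← e3]; exact (map_ne_zero j₃).mpr ((map_ne_zero g₃).mpr ha)
    have hX := factA' _ hC hZ
    refine ⟨∑ j, f₂ (c j) * x₂ ^ (j : ℕ), ?_⟩
    have e2 : j₂ (g₂ (∑ j, f₂ (c j) * x₂ ^ (j : ℕ))) =
        ∑ j, j₂ (g₂ (f₂ (c j))) * x ^ (j : ℕ) := by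
      rw [map_sum, map_sum]
      exact Finset.sum_congr rfl fun j _ => by rw [map_mul, map_mul, map_pow, map_pow]
    rw [e2, e3]
    exact core _ hC hX
  · -- c4
    intro b hb
    obtain ⟨c, hbc⟩ := hk2 b
    have hC : ∀ i, j₂ (g₂ (f₂ (c i))) ∈ S₁ := fun i => hS₁ (c i)
    have e2 : j₂ (g₂ b) = ∑ j, j₂ (g₂ (f₂ (c j))) * x ^ (j : ℕ) := by
      rw [hbc, map_sum, map_sum]
      exact Finset.sum_congr rfl fun j _ => by rw [map_mul, map_mul, map_pow, map_pow]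
    have hX : (∑ j, j₂ (g₂ (f₂ (c j))) * x ^ (j : ℕ)) ≠ 0 := by
      rw [← e2]; exact (map_ne_zero j₂).mpr ((map_ne_zero g₂).mpr hb)
    refine ⟨∑ j, f₃ (c j) * z₃ ^ (j : ℕ), ?_⟩
    have e3 : j₃ (g₃ (∑ j, f₃ (c j) * z₃ ^ (j : ℕ))) =
        ∑ j, j₂ (g₂ (f₂ (c j))) * z ^ (j : ℕ) := by
      rw [map_sum, map_sum]
      exact Finset.sum_congr rfl fun j _ => by
        rw [map_mul, map_mul, map_pow, map_pow, hcomm]
    rw [e2, e3]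
    exact core _ hC hX

end Groth.Agent.H20.PI
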