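import Mathlib
import Groth.Prelude.Def_EtRam
import Groth.Prelude.Def_Found

set_option autoImplicit false
set_option linter.style.haveILetI false
universe u
open TensorProduct

namespace Groth.Agent.H20.PI

/-- (GE) geometric reducedness transfers along isomorphisms of pairs -/
theorem geomRed_of_equiv {k k' A A' : Type u} [Field k] [Field k'] [Field A] [Field A']
    (φ : k →+* A) (φ' : k' →+* A') (σ : k ≃+* k') (τ : A ≃+* A')
    (h : ∀ c, τ (φ c) = φ' (σ c))
    (hred : @Algebra.IsGeometricallyReduced k A _ _ φ.toAlgebra) :
    @Algebra.IsGeometricallyReduced k' A' _ _ φ'.toAlgebra := by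
  letI a1 : Algebra k A := φ.toAlgebra
  letI a2 : Algebra k' A' := φ'.toAlgebra
  letI a3 : Algebra k k' := σ.toRingHom.toAlgebra
  letI a4 : Algebra k A' := (φ'.comp σ.toRingHom).toAlgebra
  haveI t1 : IsScalarTower k k' A' := IsScalarTower.of_algebraMap_eq fun _ => rfl
  haveI := hred
  let g : A' →ₐ[k] A := { τ.symm.toRingHom with
    commutes' := fun c => by
      show τ.symm (φ' (σ c)) = φ c
      rw [← h, RingEquiv.symm_apply_apply] }
  haveI hA' : Algebra.IsGeometricallyReduced k A' :=
    Algebra.IsGeometricallyReduced.of_injective g τ.symm.injective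
  haveI t2 : IsScalarTower k k' (AlgebraicClosure k') := inferInstance
  haveI alg : Algebra.IsAlgebraic k (AlgebraicClosure k') :=
    Algebra.IsAlgebraic.of_ringHom_of_comp_eq (σ : k →+* k')
      (RingHom.id (AlgebraicClosure k')) σ.surjective Function.injective_id
      (RingHom.ext fun c => (IsScalarTower.algebraMap_apply k k' (AlgebraicClosure k') c).symm)
  haveI hred' : IsReduced (AlgebraicClosure k' ⊗[k] A') := inferInstance
  haveI c1 : TensorProduct.CompatibleSMul k k' (AlgebraicClosure k') A' := ⟨fun c' m n => by
    obtain ⟨c, rfl⟩ := σ.surjective c'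
    have e1 : σ c • m = c • m := algebraMap_smul k' c m
    have e2 : σ c • n = c • n := algebraMap_smul k' c n
    rw [e1, e2, TensorProduct.smul_tmul]⟩
  rw [Algebra.isGeometricallyReduced_field_iff]
  exact isReduced_of_injective
    (Algebra.TensorProduct.equivOfCompatibleSMul k k' (AlgebraicClosure k')
      (AlgebraicClosure k') A')
    (AlgEquiv.injective _)

end Groth.Agent.H20.PI
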