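import Mathlib
import Groth.Prelude.Def_EtRam
import Groth.Prelude.Def_Found
import Groth.Agent.H80.SolTower

set_option autoImplicit false
set_option linter.style.haveILetI false
universe u

namespace Groth.Agent.H20.PI

open Groth.Agent.H80.SolTower

/-- ultrametric: `v (a - b) < v b` forces `v a = v b`. -/
theorem val_eq_of_sub_lt {Ω : Type u} [Field Ω] (W : ValuationSubring Ω) (a b : Ω)
    (h : W.valuation (a - b) < W.valuation b) : W.valuation a = W.valuation b := by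
  have h1 : W.valuation (b + (a - b)) = W.valuation b :=
    Valuation.map_add_eq_of_lt_left _ h
  rwa [add_sub_cancel] at h1

/-- (TW) transfer of weak unramifiedness between close pairs -/
theorem transfer_weak {Ω M₂ M₃ K₂ K₃ : Type u} [Field Ω] [Field M₂] [Field M₃] [Field K₂] [Field K₃]
    (W : ValuationSubring Ω) (j₂ : M₂ →+* Ω) (j₃ : M₃ →+* Ω) (g₂ : K₂ →+* M₂) (g₃ : K₃ →+* M₃)
    (c1 : ∀ a : M₃, a ≠ 0 → ∃ b : M₂, W.valuation (j₃ a - j₂ b) < W.valuation (j₂ b))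
    (c4 : ∀ b : K₂, b ≠ 0 → ∃ a : K₃,
      W.valuation (j₃ (g₃ a) - j₂ (g₂ b)) < W.valuation (j₂ (g₂ b)))
    (h : @EtRam.IsWeaklyUnramified ((W.comap j₂).comap g₂) (W.comap j₂) _ _ _ _
      (EtRam.inclOfComap (W.comap j₂) g₂).toAlgebra) :
    @EtRam.IsWeaklyUnramified ((W.comap j₃).comap g₃) (W.comap j₃) _ _ _ _
      (EtRam.inclOfComap (W.comap j₃) g₃).toAlgebra := by
  rw [weaklyUnram_iff] at h ⊢
  intro x hx
  rw [val_comap_lt_one_iff] at hx
  by_cases hx0 : x = 0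
  · refine ⟨0, ?_, 0, zero_mem _, ?_⟩
    · rw [map_zero, map_zero]; exact zero_lt_one
    · rw [hx0, mul_zero]
  obtain ⟨b, hb⟩ := c1 x hx0
  have hvb : W.valuation (j₃ x) = W.valuation (j₂ b) := val_eq_of_sub_lt W _ _ hb
  have hjx : j₃ x ≠ 0 := (map_ne_zero j₃).mpr hx0
  have hjb : j₂ b ≠ 0 := by
    intro h0
    rw [h0, map_zero] at hvb
    exact hjx ((map_eq_zero _).mp hvb)
  have hb0 : b ≠ 0 := fun h0 => hjb (by rw [h0, map_zero])
  have hb1 : (W.comap j₂).valuation b < 1 := by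
    rw [val_comap_lt_one_iff, ← hvb]; exact hx
  obtain ⟨t₂, ht₂, w₂, hw₂, hbw⟩ := h b hb1
  rw [val_comap_lt_one_iff] at ht₂
  have ht₂0 : t₂ ≠ 0 := by
    intro h0
    rw [h0, map_zero, zero_mul] at hbw
    exact hb0 hbw
  obtain ⟨a, ha⟩ := c4 t₂ ht₂0
  have hva : W.valuation (j₃ (g₃ a)) = W.valuation (j₂ (g₂ t₂)) := val_eq_of_sub_lt W _ _ ha
  have hgt : j₂ (g₂ t₂) ≠ 0 := (map_ne_zero j₂).mpr ((map_ne_zero g₂).mpr ht₂0)
  have hga : j₃ (g₃ a) ≠ 0 := by
    intro h0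
    rw [h0, map_zero] at hva
    exact hgt ((map_eq_zero _).mp hva.symm)
  have hga' : g₃ a ≠ 0 := fun h0 => hga (by rw [h0, map_zero])
  refine ⟨a, ?_, x / g₃ a, ?_, (mul_div_cancel₀ x hga').symm⟩
  · rw [val_comap_lt_one_iff, hva]; exact ht₂
  · rw [ValuationSubring.mem_comap, ← ValuationSubring.valuation_le_one_iff, map_div₀, map_div₀,
      hvb, hva]
    have hw₂' : W.valuation (j₂ w₂) ≤ 1 :=
      (ValuationSubring.valuation_le_one_iff W _).mpr hw₂
    have e : j₂ b / j₂ (g₂ t₂) = j₂ w₂ := by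
      rw [hbw, map_mul, mul_comm, mul_div_assoc, div_self hgt, mul_one]
    rw [← map_div₀, e]
    exact hw₂'

end Groth.Agent.H20.PI
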