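import Mathlib
import Groth.Prelude.Def_EtRam
import Groth.Prelude.Def_Found
import Groth.Agent.H20.PI_GE
import Groth.Agent.H20.PI_TW

set_option autoImplicit false
set_option linter.style.haveILetI false
universe u

namespace Groth.Agent.H20.PI

/-- Two field embeddings with the same image give an isomorphism of the sources. -/
theorem exists_ringEquiv_of_range {X Y Ω : Type u} [Field X] [Field Y] [Field Ω]
    (a : X →+* Ω) (a' : Y →+* Ω)
    (h1 : ∀ x, ∃ y, a' y = a x) (h2 : ∀ y, ∃ x, a x = a' y) :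
    ∃ τ : X ≃+* Y, ∀ x, a' (τ x) = a x := by
  choose f hf using h1
  have hinj' := a'.injective
  let F : X →+* Y :=
    { toFun := f
      map_one' := hinj' (by rw [hf, map_one, map_one])
      map_mul' := fun x y => hinj' (by rw [hf, map_mul, map_mul, hf, hf])
      map_zero' := hinj' (by rw [hf, map_zero, map_zero])
      map_add' := fun x y => hinj' (by rw [hf, map_add, map_add, hf, hf]) }
  refine ⟨RingEquiv.ofBijective F ⟨F.injective, fun y => ?_⟩, fun x => hf x⟩
  obtain ⟨x, hx⟩ := h2 y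
  exact ⟨x, hinj' (by show a' (f x) = a' y; rw [hf, hx])⟩

/-- Geometric reducedness transfers between pairs of subfields of a common field with the same
images. -/
theorem geomRed_of_range_eq {k k' A A' Ω : Type u} [Field k] [Field k'] [Field A] [Field A']
    [Field Ω] (φ : k →+* A) (φ' : k' →+* A') (a : A →+* Ω) (a' : A' →+* Ω)
    (h1 : ∀ x : A, ∃ y : A', a' y = a x) (h2 : ∀ y : A', ∃ x : A, a x = a' y)
    (h3 : ∀ c : k, ∃ c' : k', a' (φ' c') = a (φ c))
    (h4 : ∀ c' : k', ∃ c : k, a (φ c) = a' (φ' c'))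
    (hred : @Algebra.IsGeometricallyReduced k A _ _ φ.toAlgebra) :
    @Algebra.IsGeometricallyReduced k' A' _ _ φ'.toAlgebra := by
  obtain ⟨τ, hτ⟩ := exists_ringEquiv_of_range a a' h1 h2
  obtain ⟨σ, hσ⟩ := exists_ringEquiv_of_range (a.comp φ) (a'.comp φ') h3 h4
  refine geomRed_of_equiv φ φ' σ τ (fun c => a'.injective ?_) hred
  rw [hτ]
  exact (hσ c).symm

theorem close_symm {Ω : Type u} [Field Ω] (W : ValuationSubring Ω) (x y : Ω)
    (h : W.valuation (x - y) < W.valuation y) : W.valuation (y - x) < W.valuation x := by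
  rw [Valuation.map_sub_swap, val_eq_of_sub_lt W x y h]
  exact h

theorem res_range_le {Ω M M' : Type u} [Field Ω] [Field M] [Field M'] (W : ValuationSubring Ω)
    (j : M →+* Ω) (j' : M' →+* Ω)
    (c : ∀ a : M', a ≠ 0 → ∃ b : M, W.valuation (j' a - j b) < W.valuation (j b))
    (y : IsLocalRing.ResidueField (W.comap j')) :
    ∃ x : IsLocalRing.ResidueField (W.comap j),
      IsLocalRing.ResidueField.map (EtRam.inclOfComap W j) x =
        IsLocalRing.ResidueField.map (EtRam.inclOfComap W j') y := by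
  obtain ⟨a, rfl⟩ := IsLocalRing.residue_surjective y
  by_cases ha : (a : M') = 0
  · refine ⟨0, ?_⟩
    have : a = 0 := Subtype.ext ha
    rw [this, map_zero, map_zero, map_zero]
  obtain ⟨b, hb⟩ := c a ha
  have hv : W.valuation (j' a) = W.valuation (j b) := val_eq_of_sub_lt W _ _ hb
  have haW : W.valuation (j' (a : M')) ≤ 1 :=
    (W.valuation_le_one_iff _).mpr (ValuationSubring.mem_comap.mp a.2)
  have hbW : j b ∈ W := (W.valuation_le_one_iff _).mp (hv ▸ haW)
  refine ⟨IsLocalRing.residue _ ⟨b, ValuationSubring.mem_comap.mpr hbW⟩, ?_⟩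
  rw [IsLocalRing.ResidueField.map_residue, IsLocalRing.ResidueField.map_residue]
  symm
  refine Ideal.Quotient.eq.mpr ?_
  rw [ValuationSubring.valuation_lt_one_iff]
  show W.valuation (j' a - j b) < 1
  exact lt_of_lt_of_le hb ((W.valuation_le_one_iff _).mpr hbW)

theorem res_range_le' {Ω M M' K K' : Type u} [Field Ω] [Field M] [Field M'] [Field K] [Field K']
    (W : ValuationSubring Ω) (j : M →+* Ω) (g : K →+* M) (j' : M' →+* Ω) (g' : K' →+* M')
    (c : ∀ a : K', a ≠ 0 → ∃ b : K,
      W.valuation (j' (g' a) - j (g b)) < W.valuation (j (g b)))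
    (y : IsLocalRing.ResidueField ((W.comap j').comap g')) :
    ∃ x : IsLocalRing.ResidueField ((W.comap j).comap g),
      IsLocalRing.ResidueField.map (EtRam.inclOfComap W j)
          (IsLocalRing.ResidueField.map (EtRam.inclOfComap (W.comap j) g) x) =
        IsLocalRing.ResidueField.map (EtRam.inclOfComap W j')
          (IsLocalRing.ResidueField.map (EtRam.inclOfComap (W.comap j') g') y) := by
  obtain ⟨a, rfl⟩ := IsLocalRing.residue_surjective y
  by_cases ha : (a : K') = 0
  · refine ⟨0, ?_⟩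
    have : a = 0 := Subtype.ext ha
    rw [this, map_zero, map_zero, map_zero, map_zero, map_zero]
  obtain ⟨b, hb⟩ := c a ha
  have hv : W.valuation (j' (g' a)) = W.valuation (j (g b)) := val_eq_of_sub_lt W _ _ hb
  have haW : W.valuation (j' (g' (a : K'))) ≤ 1 :=
    (W.valuation_le_one_iff _).mpr
      (ValuationSubring.mem_comap.mp (ValuationSubring.mem_comap.mp a.2))
  have hbW : j (g b) ∈ W := (W.valuation_le_one_iff _).mp (hv ▸ haW)
  refine ⟨IsLocalRing.residue _
    ⟨b, ValuationSubring.mem_comap.mpr (ValuationSubring.mem_comap.mpr hbW)⟩, ?_⟩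
  rw [IsLocalRing.ResidueField.map_residue, IsLocalRing.ResidueField.map_residue,
    IsLocalRing.ResidueField.map_residue, IsLocalRing.ResidueField.map_residue]
  symm
  refine Ideal.Quotient.eq.mpr ?_
  rw [ValuationSubring.valuation_lt_one_iff]
  show W.valuation (j' (g' a) - j (g b)) < 1
  exact lt_of_lt_of_le hb ((W.valuation_le_one_iff _).mpr hbW)

/-- (TR) transfer of geometric reducedness of the residue field extension between close pairs -/
theorem transfer_res {Ω M₂ M₃ K₂ K₃ : Type u} [Field Ω] [Field M₂] [Field M₃] [Field K₂] [Field K₃]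
    (W : ValuationSubring Ω) (j₂ : M₂ →+* Ω) (j₃ : M₃ →+* Ω) (g₂ : K₂ →+* M₂) (g₃ : K₃ →+* M₃)
    (c1 : ∀ a : M₃, a ≠ 0 → ∃ b : M₂, W.valuation (j₃ a - j₂ b) < W.valuation (j₂ b))
    (c2 : ∀ b : M₂, b ≠ 0 → ∃ a : M₃, W.valuation (j₃ a - j₂ b) < W.valuation (j₂ b))
    (c3 : ∀ a : K₃, a ≠ 0 → ∃ b : K₂,
      W.valuation (j₃ (g₃ a) - j₂ (g₂ b)) < W.valuation (j₂ (g₂ b)))
    (c4 : ∀ b : K₂, b ≠ 0 → ∃ a : K₃,
      W.valuation (j₃ (g₃ a) - j₂ (g₂ b)) < W.valuation (j₂ (g₂ b)))
    (h : @Algebra.IsGeometricallyReduced (IsLocalRing.ResidueField ((W.comap j₂).comap g₂))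
      (IsLocalRing.ResidueField (W.comap j₂)) _ _
      (IsLocalRing.ResidueField.map (EtRam.inclOfComap (W.comap j₂) g₂)).toAlgebra) :
    @Algebra.IsGeometricallyReduced (IsLocalRing.ResidueField ((W.comap j₃).comap g₃))
      (IsLocalRing.ResidueField (W.comap j₃)) _ _
      (IsLocalRing.ResidueField.map (EtRam.inclOfComap (W.comap j₃) g₃)).toAlgebra := by
  have r32 := res_range_le W j₂ j₃ c1
  have r23 := res_range_le W j₃ j₂ (fun b hb => by
    obtain ⟨a, ha⟩ := c2 b hb
    exact ⟨a, close_symm W _ _ ha⟩)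
  have R32 := res_range_le' W j₂ g₂ j₃ g₃ c3
  have R23 := res_range_le' W j₃ g₃ j₂ g₂ (fun b hb => by
    obtain ⟨a, ha⟩ := c4 b hb
    exact ⟨a, close_symm W _ _ ha⟩)
  exact geomRed_of_range_eq
    (IsLocalRing.ResidueField.map (EtRam.inclOfComap (W.comap j₂) g₂))
    (IsLocalRing.ResidueField.map (EtRam.inclOfComap (W.comap j₃) g₃))
    (IsLocalRing.ResidueField.map (EtRam.inclOfComap W j₂))
    (IsLocalRing.ResidueField.map (EtRam.inclOfComap W j₃))
    r23 r32 R23 R32 h

end Groth.Agent.H20.PI
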