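import Mathlib
import Groth.Agent.Lead.GeomRegBC
import Groth.Agent.H34.FibLoc
import Groth.Agent.H34.RegDesc

/-! Fibres of an arbitrary base change `A' → A' ⊗_A B`: for a prime `p'` of `A'` over `p` and a field
`k'` over `κ(p')`, `k' ⊗_{κ(p)} (p.Fiber B) ≃ k' ⊗_{κ(p')} (p'.Fiber (A' ⊗_A B))` (helper20; adapted from
helper34's `H34.FibBC.exists_ringEquiv_core`, dropping the surjective-on-stalks hypothesis).
Consequences: base change of regular homomorphisms (finite type), and descent. -/

set_option autoImplicit false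
set_option linter.style.haveILetI false
set_option linter.unusedSectionVars false
set_option linter.unusedVariables false
universe u
open TensorProduct

namespace Groth.Agent.H20.FibBCGen

section core

variable (A B A' : Type u) [CommRing A] [CommRing B] [CommRing A'] [Algebra A B] [Algebra A A']

theorem core (p' : Ideal A') [p'.IsPrime] (k' : Type u) [Field k']
    [Algebra p'.ResidueField k'] :
    ∃ (alg : Algebra (p'.comap (algebraMap A A')).ResidueField k'),
      (@algebraMap _ k' _ _ alg = (algebraMap p'.ResidueField k').comp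
        (Ideal.ResidueField.map (p'.comap (algebraMap A A')) p' (algebraMap A A') rfl)) ∧
      (Algebra.EssFiniteType A A' → Algebra.EssFiniteType p'.ResidueField k' →
        Algebra.EssFiniteType (p'.comap (algebraMap A A')).ResidueField k') ∧
      Nonempty ((k' ⊗[(p'.comap (algebraMap A A')).ResidueField]
          (p'.comap (algebraMap A A')).Fiber B) ≃+*
        (k' ⊗[p'.ResidueField] p'.Fiber (A' ⊗[A] B))) := by
  set p := p'.comap (algebraMap A A') with hp
  let σ : p.ResidueField →+* p'.ResidueField :=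
    Ideal.ResidueField.map p p' (algebraMap A A') rfl
  let algκk' : Algebra p.ResidueField k' := ((algebraMap p'.ResidueField k').comp σ).toAlgebra
  refine ⟨algκk', rfl, ?_, ⟨?_⟩⟩
  · intro hA' hk'
    letI : Algebra A' k' :=
      ((algebraMap p'.ResidueField k').comp (algebraMap A' p'.ResidueField)).toAlgebra
    haveI : IsScalarTower A' p'.ResidueField k' := IsScalarTower.of_algebraMap_eq (fun _ => rfl)
    letI : Algebra A k' := ((algebraMap A' k').comp (algebraMap A A')).toAlgebra
    haveI : IsScalarTower A A' k' := IsScalarTower.of_algebraMap_eq (fun _ => rfl)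
    haveI : IsScalarTower A p.ResidueField k' := IsScalarTower.of_algebraMap_eq (fun a => by
      show algebraMap p'.ResidueField k' (algebraMap A' p'.ResidueField (algebraMap A A' a)) =
        algebraMap p'.ResidueField k' (σ (algebraMap A p.ResidueField a))
      rw [Ideal.ResidueField.map_algebraMap])
    haveI : Algebra.EssFiniteType A' k' := Algebra.EssFiniteType.comp A' p'.ResidueField k'
    haveI : Algebra.EssFiniteType A k' := Algebra.EssFiniteType.comp A A' k'
    exact Algebra.EssFiniteType.of_comp A p.ResidueField k'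
  · letI : Algebra A' k' :=
      ((algebraMap p'.ResidueField k').comp (algebraMap A' p'.ResidueField)).toAlgebra
    haveI : IsScalarTower A' p'.ResidueField k' := IsScalarTower.of_algebraMap_eq (fun _ => rfl)
    letI : Algebra A k' := ((algebraMap A' k').comp (algebraMap A A')).toAlgebra
    haveI : IsScalarTower A A' k' := IsScalarTower.of_algebraMap_eq (fun _ => rfl)
    haveI : IsScalarTower A p.ResidueField k' := IsScalarTower.of_algebraMap_eq (fun a => by
      show algebraMap p'.ResidueField k' (algebraMap A' p'.ResidueField (algebraMap A A' a)) =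
        algebraMap p'.ResidueField k' (σ (algebraMap A p.ResidueField a))
      rw [Ideal.ResidueField.map_algebraMap])
    let e1 : k' ⊗[p'.ResidueField] (p'.ResidueField ⊗[A'] (A' ⊗[A] B)) ≃ₐ[p'.ResidueField]
        k' ⊗[A'] (A' ⊗[A] B) :=
      Algebra.TensorProduct.cancelBaseChange A' p'.ResidueField p'.ResidueField k' (A' ⊗[A] B)
    let e3 : k' ⊗[A'] (A' ⊗[A] B) ≃ₐ[A'] k' ⊗[A] B :=
      Algebra.TensorProduct.cancelBaseChange A A' A' k' B
    let e4 : k' ⊗[p.ResidueField] (p.ResidueField ⊗[A] B) ≃ₐ[p.ResidueField] k' ⊗[A] B :=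
      Algebra.TensorProduct.cancelBaseChange A p.ResidueField p.ResidueField k' B
    exact e4.toRingEquiv.trans (e3.symm.toRingEquiv.trans e1.symm.toRingEquiv)

end core

section bc

variable (A B A' : Type u) [CommRing A] [CommRing B] [CommRing A'] [Algebra A B] [Algebra A A']

/-- Base change of a regular homomorphism along a finite type algebra (no Noetherian hypotheses). -/
theorem isRegularHom_baseChange_of_finiteType [Algebra.FiniteType A A']
    (h : CAlg.IsRegularHom A B) : CAlg.IsRegularHom A' (A' ⊗[A] B) := by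
  obtain ⟨hflat, hfib⟩ := h
  haveI := hflat
  refine ⟨inferInstance, ?_⟩
  intro p' hp'
  have hN : IsNoetherianRing (p'.Fiber (A' ⊗[A] B)) := by
    obtain ⟨alg, -, hess, ⟨E⟩⟩ := core A B A' p' p'.ResidueField
    letI := alg
    haveI := hess inferInstance inferInstance
    haveI := (hfib (p'.comap (algebraMap A A'))).1
    haveI := Groth.Agent.Lead.GeomRegBC.noeth_tensor (p'.comap (algebraMap A A')).ResidueField
      ((p'.comap (algebraMap A A')).Fiber B) p'.ResidueField
    exact isNoetherianRing_of_ringEquiv _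
      (E.trans (Algebra.TensorProduct.lid p'.ResidueField (p'.Fiber (A' ⊗[A] B))).toRingEquiv)
  refine ⟨hN, ?_⟩
  intro k' _ _ hfin
  haveI := hfin
  obtain ⟨alg, -, hess, ⟨E⟩⟩ := core A B A' p' k'
  letI := alg
  haveI := hess inferInstance inferInstance
  haveI := (hfib (p'.comap (algebraMap A A'))).1
  have h3 : IsRegularRing (k' ⊗[(p'.comap (algebraMap A A')).ResidueField]
      (p'.comap (algebraMap A A')).Fiber B) :=
    Groth.Agent.Lead.GeomRegBC.regular_tensor_of_geomRegular
      (hfib (p'.comap (algebraMap A A'))).2 k'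
  exact @IsRegularRing.of_ringEquiv (k' ⊗[(p'.comap (algebraMap A A')).ResidueField]
      (p'.comap (algebraMap A A')).Fiber B) _ (k' ⊗[p'.ResidueField] p'.Fiber (A' ⊗[A] B)) _ E h3

/-- Base change of a regular homomorphism, when the base change is Noetherian. -/
theorem isRegularHom_baseChange_of_noetherian [IsNoetherianRing (A' ⊗[A] B)]
    (h : CAlg.IsRegularHom A B) : CAlg.IsRegularHom A' (A' ⊗[A] B) := by
  obtain ⟨hflat, hfib⟩ := h
  haveI := hflat
  refine ⟨inferInstance, ?_⟩
  intro p' hp'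
  have hN : IsNoetherianRing (p'.Fiber (A' ⊗[A] B)) :=
    Groth.Agent.H34.FibLoc.isNoetherianRing_fiber A' (A' ⊗[A] B) p'
  refine ⟨hN, ?_⟩
  intro k' _ _ hfin
  haveI := hfin
  obtain ⟨alg, -, -, ⟨E⟩⟩ := core A B A' p' k'
  letI := alg
  haveI := (hfib (p'.comap (algebraMap A A'))).1
  haveI : IsNoetherianRing (k' ⊗[p'.ResidueField] p'.Fiber (A' ⊗[A] B)) :=
    Groth.Agent.Lead.GeomRegBC.noeth_tensor p'.ResidueField (p'.Fiber (A' ⊗[A] B)) k'
  haveI : IsNoetherianRing (k' ⊗[(p'.comap (algebraMap A A')).ResidueField]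
      (p'.comap (algebraMap A A')).Fiber B) :=
    isNoetherianRing_of_ringEquiv (k' ⊗[p'.ResidueField] p'.Fiber (A' ⊗[A] B)) E.symm
  have h3 : IsRegularRing (k' ⊗[(p'.comap (algebraMap A A')).ResidueField]
      (p'.comap (algebraMap A A')).Fiber B) :=
    Groth.Agent.Lead.GeomRegBC.regular_tensor_of_locFS
      (fun q _ => Groth.Agent.Lead.GeomRegBC.locFS_of_geomRegular
        (hfib (p'.comap (algebraMap A A'))).2 q) k'
  exact @IsRegularRing.of_ringEquiv (k' ⊗[(p'.comap (algebraMap A A')).ResidueField]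
      (p'.comap (algebraMap A A')).Fiber B) _ (k' ⊗[p'.ResidueField] p'.Fiber (A' ⊗[A] B)) _ E h3

end bc

section desc

/-- Descent of regularity of `k₁ ⊗ S` from the composita `k''` of `k₁` with a field extension `K`. -/
theorem regular_descent_field {k K S : Type u} [Field k] [Field K] [Algebra k K] [CommRing S]
    [Algebra k S]
    (H : ∀ (k'' : Type u) [Field k''] [Algebra K k''] [Algebra k k''] [IsScalarTower k K k''],
      Module.Finite K k'' → IsRegularRing (k'' ⊗[k] S))
    (k₁ : Type u) [Field k₁] [Algebra k k₁] [Module.Finite k k₁] : IsRegularRing (k₁ ⊗[k] S) := by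
  haveI : Nontrivial (K ⊗[k] k₁) :=
    (Algebra.TensorProduct.includeRight_injective (R := k) (A := K) (B := k₁)
      (RingHom.injective _)).nontrivial
  obtain ⟨m, hm⟩ := Ideal.exists_maximal (K ⊗[k] k₁)
  letI : Field ((K ⊗[k] k₁) ⧸ m) := Ideal.Quotient.field m
  haveI hfin : Module.Finite K ((K ⊗[k] k₁) ⧸ m) :=
    Module.Finite.of_surjective (Ideal.Quotient.mkₐ K m).toLinearMap
      (Ideal.Quotient.mkₐ_surjective K m)
  letI algk₁ : Algebra k₁ ((K ⊗[k] k₁) ⧸ m) :=
    ((Ideal.Quotient.mk m).comp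
      (Algebra.TensorProduct.includeRight : k₁ →ₐ[k] K ⊗[k] k₁).toRingHom).toAlgebra
  haveI : IsScalarTower k k₁ ((K ⊗[k] k₁) ⧸ m) := IsScalarTower.of_algebraMap_eq (fun x => by
    show algebraMap k ((K ⊗[k] k₁) ⧸ m) x = Ideal.Quotient.mk m
      ((Algebra.TensorProduct.includeRight : k₁ →ₐ[k] K ⊗[k] k₁) (algebraMap k k₁ x))
    rw [AlgHom.commutes, Ideal.Quotient.mk_algebraMap])
  have hreg : IsRegularRing (((K ⊗[k] k₁) ⧸ m) ⊗[k] S) := H ((K ⊗[k] k₁) ⧸ m) hfin
  let e : ((K ⊗[k] k₁) ⧸ m) ⊗[k₁] (k₁ ⊗[k] S) ≃ₐ[k₁] ((K ⊗[k] k₁) ⧸ m) ⊗[k] S :=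
    Algebra.TensorProduct.cancelBaseChange k k₁ k₁ ((K ⊗[k] k₁) ⧸ m) S
  let c : (k₁ ⊗[k] S) ⊗[k₁] ((K ⊗[k] k₁) ⧸ m) ≃ₐ[k₁] ((K ⊗[k] k₁) ⧸ m) ⊗[k₁] (k₁ ⊗[k] S) :=
    Algebra.TensorProduct.comm k₁ (k₁ ⊗[k] S) ((K ⊗[k] k₁) ⧸ m)
  haveI : IsRegularRing ((k₁ ⊗[k] S) ⊗[k₁] ((K ⊗[k] k₁) ⧸ m)) :=
    @IsRegularRing.of_ringEquiv (((K ⊗[k] k₁) ⧸ m) ⊗[k] S) _
      ((k₁ ⊗[k] S) ⊗[k₁] ((K ⊗[k] k₁) ⧸ m)) _ (c.trans e).symm.toRingEquiv hreg
  haveI : Module.FaithfullyFlat (k₁ ⊗[k] S) ((k₁ ⊗[k] S) ⊗[k₁] ((K ⊗[k] k₁) ⧸ m)) := inferInstance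
  exact Groth.Agent.H34.RegDesc.isRegularRing_of_faithfullyFlat (k₁ ⊗[k] S)
    ((k₁ ⊗[k] S) ⊗[k₁] ((K ⊗[k] k₁) ⧸ m))

variable (A B A' : Type u) [CommRing A] [CommRing B] [CommRing A'] [Algebra A B] [Algebra A A']

theorem flat_of_faithfullyFlat_baseChange [Module.FaithfullyFlat A A']
    [Module.Flat A' (A' ⊗[A] B)] : Module.Flat A B := by
  haveI : Module.Flat A (A' ⊗[A] B) := Module.Flat.trans A A' (A' ⊗[A] B)
  haveI : Module.Flat A (B ⊗[A] A') := Module.Flat.of_linearEquiv (TensorProduct.comm A B A')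
  haveI : Module.FaithfullyFlat B (B ⊗[A] A') := inferInstance
  exact Groth.Agent.H34.RegDesc.flat_of_comp A B (B ⊗[A] A')

/-- geometric regularity of the fibre at `p' ∩ A` from that of the fibre of the base change at `p'`. -/
theorem geomRegular_fibre_of_baseChange (p' : Ideal A') [p'.IsPrime]
    (hreg : CAlg.IsGeometricallyRegular p'.ResidueField (p'.Fiber (A' ⊗[A] B))) :
    CAlg.IsGeometricallyRegular (p'.comap (algebraMap A A')).ResidueField
      ((p'.comap (algebraMap A A')).Fiber B) := by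
  intro k₁ _ _ hfin₁
  haveI := hfin₁
  letI algκ : Algebra (p'.comap (algebraMap A A')).ResidueField p'.ResidueField :=
    (Ideal.ResidueField.map (p'.comap (algebraMap A A')) p' (algebraMap A A') rfl).toAlgebra
  refine regular_descent_field (K := p'.ResidueField) ?_ k₁
  intro k'' _ _ algk'' htower hfin''
  have hk : ∀ x, algebraMap (p'.comap (algebraMap A A')).ResidueField k'' x =
      algebraMap p'.ResidueField k''
        (algebraMap (p'.comap (algebraMap A A')).ResidueField p'.ResidueField x) :=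
    fun x => IsScalarTower.algebraMap_apply _ _ _ x
  obtain ⟨alg, halg, -, ⟨E⟩⟩ := core A B A' p' k''
  have hEq : alg = algk'' := by
    apply Algebra.algebra_ext
    intro x
    rw [halg]
    exact (hk x).symm
  subst hEq
  have h3 : IsRegularRing (k'' ⊗[p'.ResidueField] p'.Fiber (A' ⊗[A] B)) := hreg k'' hfin''
  exact @IsRegularRing.of_ringEquiv (k'' ⊗[p'.ResidueField] p'.Fiber (A' ⊗[A] B)) _
    (k'' ⊗[(p'.comap (algebraMap A A')).ResidueField] (p'.comap (algebraMap A A')).Fiber B) _
    E.symm h3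

theorem isRegularHom_of_faithfullyFlat_baseChange [IsNoetherianRing B]
    [Module.FaithfullyFlat A A'] (h' : CAlg.IsRegularHom A' (A' ⊗[A] B)) :
    CAlg.IsRegularHom A B := by
  obtain ⟨hflat', hfib'⟩ := h'
  haveI := hflat'
  refine ⟨flat_of_faithfullyFlat_baseChange A B A', ?_⟩
  intro p hp
  refine ⟨Groth.Agent.H34.FibLoc.isNoetherianRing_fiber A B p, ?_⟩
  obtain ⟨p', hp', hlo⟩ := Ideal.exists_isPrime_liesOver_of_faithfullyFlat (B := A') p
  have hpp : p = p'.comap (algebraMap A A') := hlo.over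
  subst hpp
  exact geomRegular_fibre_of_baseChange A B A' p' (hfib' p').2

end desc

end Groth.Agent.H20.FibBCGen
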