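import Mathlib
import Groth.Agent.H34.CplBC
import Groth.Agent.H29.CplFinite
import Groth.Agent.Lead.PiLocal
import Groth.Agent.Lead.GeomRegBC
import Groth.Agent.H23.RegularLocal
import Groth.Agent.S0499
import Groth.Agent.S0548
import Groth.Agent.S0564
import Groth.Agent.S2035

/-!
# Generic formal fibres of localizations of finite algebras over a regular local ring of
characteristic zero (helper20)

Let `R` be a regular local ring of characteristic zero, `S` a finite `R`-algebra and `C` a local domain which is a
localization of `S`, dominating `R`.  Then for every prime `q` of the completion `Ĉ` with `q ∩ C = 0`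
the local ring `Ĉ_q` is regular (`core`).  The proof identifies `Ĉ` with the localization `E` of
`C ⊗[R] R̂` at a prime over `m_C` (helper34's `CplBC` + completeness of `E`, which is a localization at a maximal
ideal of the finite `R̂`-algebra `S ⊗[R] R̂`, hence a quotient of it, `R̂` being Henselian), and then `E_Q` with a
localization of `Frac C ⊗[Frac R] (Frac R ⊗[R] R̂)`, which is regular in characteristic zero.
-/

set_option autoImplicit false
set_option linter.style.haveILetI false
set_option linter.unusedSectionVars false
set_option linter.unusedVariables false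

universe u
open IsLocalRing TensorProduct

namespace Groth.Agent.H20.GenFF

/-- a complete local ring is Henselian. -/
theorem henselianLocalRing_of_complete (R : Type*) [CommRing R] [IsLocalRing R]
    [IsAdicComplete (maximalIdeal R) R] : HenselianLocalRing R :=
  { is_henselian := fun f hf a₀ h₁ h₂ =>
      HenselianRing.is_henselian (I := maximalIdeal R) f hf a₀ h₁ (h₂.map _) }

/-- a localization of a finite algebra over a Henselian local ring at a maximal ideal is a quotient. -/
theorem surjective_of_finite_henselian (R : Type u) [CommRing R] [HenselianLocalRing R]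
    (D : Type u) [CommRing D] [Algebra R D] [Module.Finite R D] (𝔪 : Ideal D) [h𝔪 : 𝔪.IsMaximal]
    (E : Type u) [CommRing E] [Algebra D E] [IsLocalization.AtPrime E 𝔪] :
    Function.Surjective (algebraMap D E) := by
  classical
  obtain ⟨ι, hι, A, hA, hloc, ⟨e⟩⟩ := Groth.Agent.S0499.result R D
  haveI := hloc
  obtain ⟨i, hi⟩ := Groth.Agent.Lead.exists_eq_piMax A e 𝔪 h𝔪
  subst hi
  intro y
  obtain ⟨d, hd⟩ := Groth.Agent.Lead.algebraMap_piMax_surjective A e i
    ((IsLocalization.algEquiv (Groth.Agent.Lead.piMax A e i).primeCompl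
      (Localization.AtPrime (Groth.Agent.Lead.piMax A e i)) E).symm y)
  refine ⟨d, ?_⟩
  have h := congrArg (IsLocalization.algEquiv (Groth.Agent.Lead.piMax A e i).primeCompl
      (Localization.AtPrime (Groth.Agent.Lead.piMax A e i)) E) hd
  rw [AlgEquiv.commutes, AlgEquiv.apply_symm_apply] at h
  exact h

/-- a localization of a finite algebra over a complete Noetherian local ring at a maximal ideal is
complete. -/
theorem isAdicComplete_of_localization_finite (Rh : Type u) [CommRing Rh] [IsNoetherianRing Rh]
    [IsLocalRing Rh] [IsAdicComplete (maximalIdeal Rh) Rh]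
    (D : Type u) [CommRing D] [Algebra Rh D] [Module.Finite Rh D] (𝔪 : Ideal D) [𝔪.IsMaximal]
    (E : Type u) [CommRing E] [IsLocalRing E] [Algebra D E] [IsLocalization.AtPrime E 𝔪] :
    IsAdicComplete (maximalIdeal E) E := by
  haveI := henselianLocalRing_of_complete Rh
  have hsurj := surjective_of_finite_henselian Rh D 𝔪 E
  letI : Algebra Rh E := ((algebraMap D E).comp (algebraMap Rh D)).toAlgebra
  haveI : IsScalarTower Rh D E := IsScalarTower.of_algebraMap_eq' rfl
  haveI : Module.Finite D E := Module.Finite.of_surjective (Algebra.linearMap D E) hsurj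
  haveI : Module.Finite Rh E := Module.Finite.trans D E
  haveI h1 : IsAdicComplete (maximalIdeal Rh) E :=
    Groth.Agent.Lead.isAdicComplete_of_finite (maximalIdeal Rh) E
  haveI h2 : IsAdicComplete ((maximalIdeal Rh).map (algebraMap Rh E)) E :=
    (IsAdicComplete.map_algebraMap_iff (I := maximalIdeal Rh) (S := E) (M := E)).2 h1
  obtain ⟨N, hN⟩ := Groth.Agent.H29.CplFinite.exists_jacobson_pow_le Rh E
  have hle := Groth.Agent.H29.CplFinite.map_maximalIdeal_le_jacobson Rh E
  rw [IsLocalRing.jacobson_eq_maximalIdeal ⊥ bot_ne_top] at hN hle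
  exact Groth.Agent.H29.CplFinite.isAdicComplete_of_pow_le hle N hN

/-- `S ⊗[R] Rh` is finite over `Rh` (right structure). -/
theorem finite_right (R S Rh : Type u) [CommRing R] [CommRing S] [CommRing Rh] [Algebra R S]
    [Algebra R Rh] [Module.Finite R S] :
    letI : Algebra Rh (S ⊗[R] Rh) := Algebra.TensorProduct.rightAlgebra
    Module.Finite Rh (S ⊗[R] Rh) := by
  letI : Algebra Rh (S ⊗[R] Rh) := Algebra.TensorProduct.rightAlgebra
  let f : Rh ⊗[R] S →ₗ[Rh] S ⊗[R] Rh :=
    { toFun := Algebra.TensorProduct.comm R Rh S
      map_add' := map_add (Algebra.TensorProduct.comm R Rh S)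
      map_smul' := fun a x => by
        simp only [RingHom.id_apply]
        rw [Algebra.smul_def, Algebra.smul_def, map_mul]
        congr 1 }
  exact Module.Finite.of_surjective f (Algebra.TensorProduct.comm R Rh S).surjective

/-- a ring hom out of a localization is injective if its restriction is. -/
theorem injective_of_comp {A A' C : Type*} [CommRing A] [CommRing A'] [CommRing C] [Algebra A A']
    (M : Submonoid A) [IsLocalization M A'] (f : A' →+* C)
    (h : Function.Injective (f.comp (algebraMap A A'))) : Function.Injective f := by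
  rw [injective_iff_map_eq_zero]
  intro x hx
  obtain ⟨a, s, rfl⟩ := IsLocalization.exists_mk'_eq M x
  have h1 : f (algebraMap A A' a) = 0 := by
    rw [← IsLocalization.mk'_spec A' a s, map_mul, hx, zero_mul]
  have h2 : a = 0 := h (by rw [RingHom.comp_apply, h1, map_zero])
  rw [h2, IsLocalization.mk'_zero]

/-- abstract form: if `Ĉ ≅ Ê` over `C` and `E` is complete then `Ĉ ≅ E` compatibly with `C`. -/
theorem equiv_of_complete_aux (C E : Type u) [CommRing C] [CommRing E] [IsLocalRing C]
    [IsLocalRing E] [Algebra C E] (e1 : EGA4.Cpl C ≃ₐ[C] EGA4.Cpl E)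
    [IsAdicComplete (maximalIdeal E) E] :
    ∃ e : EGA4.Cpl C ≃+* E, ∀ c : C, e (algebraMap C (EGA4.Cpl C) c) = algebraMap C E c := by
  refine ⟨e1.toRingEquiv.trans (AdicCompletion.ofAlgEquiv (maximalIdeal E)).symm.toRingEquiv,
    fun c => ?_⟩
  show (AdicCompletion.ofAlgEquiv (maximalIdeal E)).symm (e1 (algebraMap C _ c)) = _
  rw [e1.commutes, AdicCompletion.algebraMap_apply]
  exact AdicCompletion.ofAlgEquiv_symm_of _ _

set_option maxHeartbeats 3200000 in
/-- helper34's `CplBC.main` as an algebra isomorphism. -/
theorem cplbc_algEquiv (R C : Type u) [CommRing R] [CommRing C] [IsNoetherianRing R]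
    [IsLocalRing R] [IsLocalRing C] [Algebra R C] [IsLocalHom (algebraMap R C)]
    (n' : Ideal (C ⊗[R] EGA4.Cpl R)) [n'.IsPrime]
    (h1 : n'.comap (algebraMap C (C ⊗[R] EGA4.Cpl R)) = maximalIdeal C) :
    Nonempty (EGA4.Cpl C ≃ₐ[C] EGA4.Cpl (Localization.AtPrime n')) := by
  have hφ : maximalIdeal C ≤ (maximalIdeal (Localization.AtPrime n')).comap
      (Algebra.ofId C (Localization.AtPrime n')) := by
    intro b hb
    rw [Ideal.mem_comap, Groth.Agent.H34.CplBC.hφapply, Groth.Agent.H34.CplBC.hmax]
    exact Ideal.mem_map_of_mem _ (Groth.Agent.H34.CplBC.hmem R C n' h1 b hb)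
  have hbij := Groth.Agent.H87.ComplIso.hatMap_bijective (R := C) (P := C)
    (S := Localization.AtPrime n') (maximalIdeal C)
    (maximalIdeal (Localization.AtPrime n')) (Algebra.ofId C (Localization.AtPrime n'))
    hφ (Groth.Agent.H34.CplBC.hsurj R C n' h1) (Groth.Agent.H34.CplBC.hinj R C n' h1)
  exact ⟨AlgEquiv.ofBijective _ hbij⟩

/-- The identification of the completion of `C` with `E = (C ⊗[R] R̂)_{n'}` when the latter is complete. -/
theorem exists_equiv_of_complete (R C : Type u) [CommRing R] [CommRing C] [IsNoetherianRing R]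
    [IsLocalRing R] [IsLocalRing C] [Algebra R C] [IsLocalHom (algebraMap R C)]
    (n' : Ideal (C ⊗[R] EGA4.Cpl R)) [n'.IsPrime]
    (h1 : n'.comap (algebraMap C (C ⊗[R] EGA4.Cpl R)) = maximalIdeal C)
    [IsAdicComplete (R := Localization.AtPrime n') (maximalIdeal (Localization.AtPrime n'))
      (Localization.AtPrime n')] :
    ∃ e : EGA4.Cpl C ≃+* Localization.AtPrime n',
      ∀ c : C, e (algebraMap C (EGA4.Cpl C) c) = algebraMap C (Localization.AtPrime n') c := by
  obtain ⟨e1⟩ := cplbc_algEquiv R C n' h1
  exact equiv_of_complete_aux C (Localization.AtPrime n') e1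

/-- transport of regularity of a localization along a ring isomorphism. -/
theorem regular_localization_of_ringEquiv (X Y : Type u) [CommRing X] [CommRing Y] (e : X ≃+* Y)
    (q : Ideal X) [q.IsPrime] (Q : Ideal Y) [Q.IsPrime] (hQ : Q = q.comap e.symm.toRingHom)
    (h : IsRegularLocalRing (Localization.AtPrime Q)) :
    IsRegularLocalRing (Localization.AtPrime q) := by
  subst hQ
  have H : q.primeCompl.map e.toMonoidHom = (q.comap e.symm.toRingHom).primeCompl := by
    ext x
    constructor
    · rintro ⟨y, hy, rfl⟩
      refine Ideal.mem_primeCompl_iff.mpr fun hmem => ?_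
      have h2 : e.symm (e y) ∈ q := hmem
      rw [RingEquiv.symm_apply_apply] at h2
      exact (Ideal.mem_primeCompl_iff.mp hy) h2
    · intro hx
      exact ⟨e.symm x, Ideal.mem_primeCompl_iff.mpr fun hmem => (Ideal.mem_primeCompl_iff.mp hx) hmem,
        e.apply_symm_apply x⟩
  exact IsRegularLocalRing.of_ringEquiv
    (IsLocalization.ringEquivOfRingEquiv (Localization.AtPrime q)
      (Localization.AtPrime (q.comap e.symm.toRingHom)) e H).symm

/-- a localization of a localization at a prime. -/
theorem regular_localization_localization (T' : Type u) [CommRing T'] (n' : Ideal T') [n'.IsPrime]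
    (QE : Ideal (Localization.AtPrime n')) [QE.IsPrime]
    (h : IsRegularLocalRing
      (Localization.AtPrime (QE.comap (algebraMap T' (Localization.AtPrime n'))))) :
    IsRegularLocalRing (Localization.AtPrime QE) := by
  haveI : IsLocalization.AtPrime (Localization.AtPrime QE)
      (QE.comap (algebraMap T' (Localization.AtPrime n'))) :=
    IsLocalization.isLocalization_isLocalization_atPrime_isLocalization n'.primeCompl
      (Localization.AtPrime QE) QE
  exact IsRegularLocalRing.of_ringEquiv
    (IsLocalization.algEquiv (QE.comap (algebraMap T' (Localization.AtPrime n'))).primeCompl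
      (Localization.AtPrime (QE.comap (algebraMap T' (Localization.AtPrime n'))))
      (Localization.AtPrime QE)).toRingEquiv

end Groth.Agent.H20.GenFF
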