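import Mathlib
import Groth.Agent.H20.GenFF

/-!
# Generic formal fibres, part 2 (helper20): the generic fibre of `C ⊗[R] R̂` over `C`, completeness of
`(C ⊗[R] R̂)_{n'}`, and the main statements `core`, `regular_of_finite_over_regular`.
-/

set_option autoImplicit false
set_option linter.style.haveILetI false
set_option linter.unusedSectionVars false
set_option linter.unusedVariables false

universe u
open IsLocalRing TensorProduct

namespace Groth.Agent.H20.GenFF

/-- The generic fibre of `C → C ⊗[R] Rh` is regular at all its primes, in characteristic zero, for `Rh`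
regular: `Frac C ⊗[C] (C ⊗[R] Rh) = Frac C ⊗[Frac R] (Frac R ⊗[R] Rh)`. -/
theorem regular_generic_fibre_aux (R C Rh K L : Type u) [CommRing R] [CommRing C] [CommRing Rh]
    [IsDomain C] [Algebra R C] [Algebra R Rh] [IsRegularRing Rh]
    [Field K] [CharZero K] [Algebra R K] [IsFractionRing R K]
    [Field L] [Algebra C L] [IsFractionRing C L] [Algebra R L] [IsScalarTower R C L]
    [Algebra K L] [IsScalarTower R K L]
    [IsNoetherianRing (C ⊗[R] Rh)]
    (Q : Ideal (C ⊗[R] Rh)) [hQp : Q.IsPrime]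
    (hQ : Q.comap (algebraMap C (C ⊗[R] Rh)) = ⊥) :
    IsRegularLocalRing (Localization.AtPrime Q) := by
  haveI hreg0 : IsRegularRing (Rh ⊗[R] K) :=
    Groth.Agent.Lead.GeomRegBC.isRegularRing_of_isLocalization
      (Algebra.algebraMapSubmonoid Rh (nonZeroDivisors R)) (Rh ⊗[R] K)
  haveI hreg1 : IsRegularRing (K ⊗[R] Rh) :=
    IsRegularRing.of_ringEquiv (Algebra.TensorProduct.comm R Rh K).toRingEquiv
  have hfs : ∀ (q : Ideal (K ⊗[R] Rh)) [q.IsPrime],
      CAlgX.IsAdicFormallySmooth K (Localization.AtPrime q)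
        (maximalIdeal (Localization.AtPrime q)) := by
    intro q _
    haveI : IsRegularLocalRing (Localization.AtPrime q) :=
      IsRegularRing.isRegularLocalRing_localization q
    exact (Groth.Agent.S2035.result (k := K) (A := Localization.AtPrime q)).mp inferInstance
  haveI : IsNoetherianRing ((C ⊗[R] Rh) ⊗[C] L) :=
    IsLocalization.isNoetherianRing
      (Algebra.algebraMapSubmonoid (C ⊗[R] Rh) (nonZeroDivisors C)) _ inferInstance
  let ε : L ⊗[K] (K ⊗[R] Rh) ≃+* (C ⊗[R] Rh) ⊗[C] L :=
    ((Algebra.TensorProduct.cancelBaseChange R K K L Rh).toRingEquiv.trans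
      (Algebra.TensorProduct.cancelBaseChange R C C L Rh).symm.toRingEquiv).trans
      (Algebra.TensorProduct.comm C L (C ⊗[R] Rh)).toRingEquiv
  haveI : IsNoetherianRing (L ⊗[K] (K ⊗[R] Rh)) :=
    isNoetherianRing_of_ringEquiv ((C ⊗[R] Rh) ⊗[C] L) ε.symm
  haveI : IsRegularRing (L ⊗[K] (K ⊗[R] Rh)) :=
    Groth.Agent.Lead.GeomRegBC.regular_tensor_of_locFS hfs L
  haveI hW : IsRegularRing ((C ⊗[R] Rh) ⊗[C] L) := IsRegularRing.of_ringEquiv ε
  have hdisj : Disjoint
      ((Algebra.algebraMapSubmonoid (C ⊗[R] Rh) (nonZeroDivisors C) :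
        Submonoid (C ⊗[R] Rh)) : Set (C ⊗[R] Rh)) (Q : Set (C ⊗[R] Rh)) := by
    rw [Set.disjoint_left]
    rintro _ ⟨c, hc, rfl⟩ hxQ
    have h2 : c ∈ Q.comap (algebraMap C (C ⊗[R] Rh)) := hxQ
    rw [hQ, Ideal.mem_bot] at h2
    exact nonZeroDivisors.ne_zero hc h2
  obtain ⟨Q', hQ'p, hQ'c⟩ : ∃ Q' : Ideal ((C ⊗[R] Rh) ⊗[C] L), Q'.IsPrime ∧
      Q'.comap (algebraMap (C ⊗[R] Rh) ((C ⊗[R] Rh) ⊗[C] L)) = Q :=
    ⟨Q.map (algebraMap _ _),
      IsLocalization.isPrime_of_isPrime_disjoint
        (Algebra.algebraMapSubmonoid (C ⊗[R] Rh) (nonZeroDivisors C)) _ Q hQp hdisj,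
      IsLocalization.under_map_of_isPrime_disjoint
        (Algebra.algebraMapSubmonoid (C ⊗[R] Rh) (nonZeroDivisors C)) _ hQp hdisj⟩
  subst hQ'c
  haveI := hQ'p
  haveI : IsLocalization.AtPrime (Localization.AtPrime Q')
      (Q'.comap (algebraMap (C ⊗[R] Rh) ((C ⊗[R] Rh) ⊗[C] L))) :=
    IsLocalization.isLocalization_isLocalization_atPrime_isLocalization
      (Algebra.algebraMapSubmonoid (C ⊗[R] Rh) (nonZeroDivisors C)) (Localization.AtPrime Q') Q'
  haveI : IsRegularLocalRing (Localization.AtPrime Q') :=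
    IsRegularRing.isRegularLocalRing_localization Q'
  let e' : Localization.AtPrime Q' ≃+*
      Localization.AtPrime (Q'.comap (algebraMap (C ⊗[R] Rh) ((C ⊗[R] Rh) ⊗[C] L))) :=
    (IsLocalization.algEquiv
      (Q'.comap (algebraMap (C ⊗[R] Rh) ((C ⊗[R] Rh) ⊗[C] L))).primeCompl
      (Localization.AtPrime Q')
      (Localization.AtPrime (Q'.comap (algebraMap (C ⊗[R] Rh) ((C ⊗[R] Rh) ⊗[C] L))))).toRingEquiv
  exact IsRegularLocalRing.of_ringEquiv (R := Localization.AtPrime Q') e'

/-- same with the concrete fraction fields. -/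
theorem regular_generic_fibre (R C Rh : Type u) [CommRing R] [CommRing C] [CommRing Rh]
    [IsDomain R] [IsDomain C] [CharZero R] [Algebra R C]
    (hinj : Function.Injective (algebraMap R C)) [Algebra R Rh] [IsRegularRing Rh]
    [IsNoetherianRing (C ⊗[R] Rh)]
    (Q : Ideal (C ⊗[R] Rh)) [hQp : Q.IsPrime]
    (hQ : Q.comap (algebraMap C (C ⊗[R] Rh)) = ⊥) :
    IsRegularLocalRing (Localization.AtPrime Q) := by
  haveI : FaithfulSMul R (FractionRing C) := by
    rw [faithfulSMul_iff_algebraMap_injective, IsScalarTower.algebraMap_eq R C (FractionRing C)]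
    exact (IsFractionRing.injective C (FractionRing C)).comp hinj
  letI : Algebra (FractionRing R) (FractionRing C) := FractionRing.liftAlgebra R (FractionRing C)
  haveI : IsScalarTower R (FractionRing R) (FractionRing C) :=
    FractionRing.isScalarTower_liftAlgebra R (FractionRing C)
  exact regular_generic_fibre_aux R C Rh (FractionRing R) (FractionRing C) Q hQ

/-- `C ⊗[R] R̂` is Noetherian and its localization at a prime over `m_C` is complete. -/
theorem noeth_and_complete (R S C : Type u) [CommRing R] [CommRing S] [CommRing C]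
    [IsNoetherianRing R] [IsLocalRing R] [IsNoetherianRing (EGA4.Cpl R)]
    [Algebra R S] [Module.Finite R S]
    [IsLocalRing C] [Algebra R C] [Algebra S C] [IsScalarTower R S C]
    (M₀ : Submonoid S) [IsLocalization M₀ C] [IsLocalHom (algebraMap R C)]
    (n' : Ideal (C ⊗[R] EGA4.Cpl R)) [n'.IsPrime]
    (h1 : n'.comap (algebraMap C (C ⊗[R] EGA4.Cpl R)) = maximalIdeal C) :
    IsNoetherianRing (C ⊗[R] EGA4.Cpl R) ∧
    IsAdicComplete (R := Localization.AtPrime n') (maximalIdeal (Localization.AtPrime n'))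
      (Localization.AtPrime n') := by
  letI algRhD : Algebra (EGA4.Cpl R) (S ⊗[R] EGA4.Cpl R) := Algebra.TensorProduct.rightAlgebra
  haveI finD : Module.Finite (EGA4.Cpl R) (S ⊗[R] EGA4.Cpl R) := finite_right R S (EGA4.Cpl R)
  haveI : IsNoetherianRing (S ⊗[R] EGA4.Cpl R) :=
    Algebra.FiniteType.isNoetherianRing (EGA4.Cpl R) (S ⊗[R] EGA4.Cpl R)
  let φ : S ⊗[R] EGA4.Cpl R →ₐ[R] C ⊗[R] EGA4.Cpl R :=
    Algebra.TensorProduct.map (IsScalarTower.toAlgHom R S C) (AlgHom.id R (EGA4.Cpl R))
  letI algDT : Algebra (S ⊗[R] EGA4.Cpl R) (C ⊗[R] EGA4.Cpl R) := φ.toRingHom.toAlgebra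
  have hφ : ∀ x, algebraMap (S ⊗[R] EGA4.Cpl R) (C ⊗[R] EGA4.Cpl R) x = φ x := fun _ => rfl
  haveI towSDT : IsScalarTower S (S ⊗[R] EGA4.Cpl R) (C ⊗[R] EGA4.Cpl R) :=
    IsScalarTower.of_algebraMap_eq' (R := S) (S := S ⊗[R] EGA4.Cpl R) (A := C ⊗[R] EGA4.Cpl R)
      (RingHom.ext fun (s : S) => by
      show algebraMap S (C ⊗[R] EGA4.Cpl R) s = φ (algebraMap S (S ⊗[R] EGA4.Cpl R) s)
      rw [Algebra.TensorProduct.algebraMap_apply, Algebra.TensorProduct.algebraMap_apply]
      simp [φ])
  haveI locDT : IsLocalization (Algebra.algebraMapSubmonoid (S ⊗[R] EGA4.Cpl R) M₀)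
      (C ⊗[R] EGA4.Cpl R) :=
    IsLocalization.tensorProduct_tensorProduct R (EGA4.Cpl R) M₀ C
      (RingHom.ext fun x => by
        show φ ((1 : S) ⊗ₜ[R] x) = (1 : C) ⊗ₜ[R] x
        simp [φ])
  haveI noethT : IsNoetherianRing (C ⊗[R] EGA4.Cpl R) :=
    IsLocalization.isNoetherianRing (Algebra.algebraMapSubmonoid (S ⊗[R] EGA4.Cpl R) M₀) _
      inferInstance
  refine ⟨noethT, ?_⟩
  haveI locE : IsLocalization.AtPrime (Localization.AtPrime n')
      (n'.comap (algebraMap (S ⊗[R] EGA4.Cpl R) (C ⊗[R] EGA4.Cpl R))) :=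
    IsLocalization.isLocalization_isLocalization_atPrime_isLocalization
      (Algebra.algebraMapSubmonoid (S ⊗[R] EGA4.Cpl R) M₀) (Localization.AtPrime n') n'
  haveI hmax : (n'.comap (algebraMap (S ⊗[R] EGA4.Cpl R) (C ⊗[R] EGA4.Cpl R))).IsMaximal := by
    haveI : Algebra.IsIntegral (EGA4.Cpl R) (S ⊗[R] EGA4.Cpl R) := Algebra.IsIntegral.of_finite _ _
    apply Ideal.isMaximal_of_isIntegral_of_isMaximal_comap (R := EGA4.Cpl R)
    have hle : maximalIdeal (EGA4.Cpl R) ≤
        (n'.comap (algebraMap (S ⊗[R] EGA4.Cpl R) (C ⊗[R] EGA4.Cpl R))).comap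
          (algebraMap (EGA4.Cpl R) (S ⊗[R] EGA4.Cpl R)) := by
      rw [AdicCompletion.maximalIdeal_eq_map, Ideal.map_le_iff_le_comap]
      intro r hr
      show φ ((1 : S) ⊗ₜ[R] (algebraMap R (EGA4.Cpl R) r)) ∈ n'
      have e1 : φ ((1 : S) ⊗ₜ[R] (algebraMap R (EGA4.Cpl R) r)) =
          algebraMap C (C ⊗[R] EGA4.Cpl R) (algebraMap R C r) := by
        rw [Algebra.TensorProduct.algebraMap_apply]
        simp only [φ, Algebra.TensorProduct.map_tmul, map_one, AlgHom.id_apply,
          Algebra.algebraMap_self, RingHom.id_apply]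
        rw [Algebra.algebraMap_eq_smul_one, Algebra.algebraMap_eq_smul_one (A := C),
          TensorProduct.smul_tmul]
      rw [e1, ← Ideal.mem_comap, h1]
      exact IsLocalRing.map_maximalIdeal_le (algebraMap R C) (Ideal.mem_map_of_mem _ hr)
    have hne : (n'.comap (algebraMap (S ⊗[R] EGA4.Cpl R) (C ⊗[R] EGA4.Cpl R))).comap
          (algebraMap (EGA4.Cpl R) (S ⊗[R] EGA4.Cpl R)) ≠ ⊤ := Ideal.IsPrime.ne_top'
    rw [← (IsLocalRing.maximalIdeal.isMaximal (EGA4.Cpl R)).eq_of_le hne hle]
    exact IsLocalRing.maximalIdeal.isMaximal _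
  exact isAdicComplete_of_localization_finite (EGA4.Cpl R) (S ⊗[R] EGA4.Cpl R)
    (n'.comap (algebraMap (S ⊗[R] EGA4.Cpl R) (C ⊗[R] EGA4.Cpl R))) (Localization.AtPrime n')

/-- a localization of a localization at a prime (abstract form). -/
theorem regular_loc_loc (T' E : Type u) [CommRing T'] [CommRing E] [Algebra T' E]
    (n' : Ideal T') [n'.IsPrime] [IsLocalization.AtPrime E n']
    (QE : Ideal E) [QE.IsPrime]
    (h : IsRegularLocalRing (Localization.AtPrime (QE.comap (algebraMap T' E)))) :
    IsRegularLocalRing (Localization.AtPrime QE) := by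
  haveI : IsLocalization.AtPrime (Localization.AtPrime QE) (QE.comap (algebraMap T' E)) :=
    IsLocalization.isLocalization_isLocalization_atPrime_isLocalization n'.primeCompl
      (Localization.AtPrime QE) QE
  exact IsRegularLocalRing.of_ringEquiv
    (IsLocalization.algEquiv (QE.comap (algebraMap T' E)).primeCompl
      (Localization.AtPrime (QE.comap (algebraMap T' E))) (Localization.AtPrime QE)).toRingEquiv

/-- abstract second half of `core`. -/
theorem core_aux (C T' : Type u) [CommRing C] [CommRing T'] [IsLocalRing C] [Algebra C T']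
    (n' : Ideal T') [n'.IsPrime] (E : Type u) [CommRing E] [Algebra T' E]
    [IsLocalization.AtPrime E n'] [Algebra C E] [IsScalarTower C T' E]
    (e : EGA4.Cpl C ≃+* E) (he : ∀ c : C, e (algebraMap C (EGA4.Cpl C) c) = algebraMap C E c)
    (hgen : ∀ (Q : Ideal T') [Q.IsPrime], Q.comap (algebraMap C T') = ⊥ →
      IsRegularLocalRing (Localization.AtPrime Q))
    (q : Ideal (EGA4.Cpl C)) [q.IsPrime]
    (hq : q.comap (algebraMap C (EGA4.Cpl C)) = ⊥) :
    IsRegularLocalRing (Localization.AtPrime q) := by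
  haveI hQEp : (q.comap e.symm.toRingHom).IsPrime := Ideal.comap_isPrime _ _
  have hQE : (q.comap e.symm.toRingHom).comap (algebraMap C E) = ⊥ := by
    rw [← hq]
    ext x
    simp only [Ideal.mem_comap]
    show e.symm (algebraMap C E x) ∈ q ↔ _
    rw [← he x, RingEquiv.symm_apply_apply]
  have hreg1 : IsRegularLocalRing (Localization.AtPrime
      ((q.comap e.symm.toRingHom).comap (algebraMap T' E))) := by
    apply hgen
    rw [Ideal.comap_comap, ← IsScalarTower.algebraMap_eq]
    exact hQE
  have hreg2 : IsRegularLocalRing (Localization.AtPrime (q.comap e.symm.toRingHom)) :=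
    regular_loc_loc T' E n' (q.comap e.symm.toRingHom) hreg1
  exact regular_localization_of_ringEquiv (EGA4.Cpl C) E e q
    (q.comap e.symm.toRingHom) rfl hreg2

/-- **Core**: regularity of the generic formal fibre of a local domain `C`, localization of a finite algebra
`S` over a regular local ring `R` of characteristic zero dominated by `C`. -/
theorem core (R S C : Type u) [CommRing R] [CommRing S] [CommRing C]
    [IsRegularLocalRing R] [CharZero R] [Algebra R S] [Module.Finite R S]
    [IsLocalRing C] [IsDomain C] [Algebra R C] [Algebra S C] [IsScalarTower R S C]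
    (M₀ : Submonoid S) [IsLocalization M₀ C] [IsLocalHom (algebraMap R C)]
    (hinj : Function.Injective (algebraMap R C))
    (q : Ideal (EGA4.Cpl C)) [q.IsPrime]
    (hq : q.comap (algebraMap C (EGA4.Cpl C)) = ⊥) :
    IsRegularLocalRing (Localization.AtPrime q) := by
  haveI : IsDomain R := Groth.Agent.H23.isDomain_of_isRegularLocalRing R
  haveI hRh : IsRegularLocalRing (EGA4.Cpl R) := (Groth.Agent.S0548.result R).mp inferInstance
  haveI : IsRegularRing (EGA4.Cpl R) :=
    isRegularRing_iff.mpr fun p _ => Groth.Agent.S0564.result (EGA4.Cpl R) p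
  obtain ⟨n', hn'p, hn'o⟩ := Ideal.exists_isPrime_liesOver_of_faithfullyFlat
    (A := C) (B := C ⊗[R] EGA4.Cpl R) (maximalIdeal C)
  haveI := hn'p
  have h1 : n'.comap (algebraMap C (C ⊗[R] EGA4.Cpl R)) = maximalIdeal C := hn'o.over.symm
  obtain ⟨hnoeth, hcompl⟩ := noeth_and_complete R S C M₀ n' h1
  haveI := hnoeth
  haveI := hcompl
  obtain ⟨e, he⟩ := exists_equiv_of_complete R C n' h1
  exact core_aux C (C ⊗[R] EGA4.Cpl R) n' (Localization.AtPrime n') e he
    (fun Q hQp hQ => regular_generic_fibre R C (EGA4.Cpl R) hinj Q hQ) q hq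

section Reduction

variable (A B : Type u) [CommRing A] [IsRegularLocalRing A] [CharZero A] [CommRing B] [IsDomain B]
  [Algebra A B] [Module.Finite A B] (hinj : Function.Injective (algebraMap A B))
  (n : Ideal B) [n.IsPrime] (p : Ideal A) [p.IsPrime] (hp : n.comap (algebraMap A B) = p)

local notation "Ap" => Localization.AtPrime p
local notation "Bp" => Localization (Algebra.algebraMapSubmonoid B p.primeCompl)
local notation "Cn" => Localization.AtPrime n

include hinj hp in
/-- EGA 0_IV 22.3.3-type statement: `A` regular local of characteristic zero, `B ⊇ A` a finite domain, `n` a prime of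
`B`, `q` a prime of the completion of `B_n` lying over `0`: the localization at `q` is regular. -/
theorem regular_of_finite_over_regular
    (q : Ideal (EGA4.Cpl Cn)) [q.IsPrime]
    (hq : q.comap (algebraMap Cn (EGA4.Cpl Cn)) = ⊥) :
    IsRegularLocalRing (Localization.AtPrime q) := by
  haveI : IsDomain A := Groth.Agent.H23.isDomain_of_isRegularLocalRing A
  haveI : IsRegularLocalRing Ap := Groth.Agent.S0564.result A p
  haveI : CharZero Ap :=
    charZero_of_injective_algebraMap (IsLocalization.injective Ap p.primeCompl_le_nonZeroDivisors)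
  have hMle : Algebra.algebraMapSubmonoid B p.primeCompl ≤ n.primeCompl := by
    rintro _ ⟨a, ha, rfl⟩
    refine Ideal.mem_primeCompl_iff.mpr fun hmem => ?_
    have h2 : a ∈ p := by rw [← hp]; exact hmem
    exact (Ideal.mem_primeCompl_iff.mp ha) h2
  haveI : IsDomain Bp :=
    IsLocalization.isDomain_localization (hMle.trans n.primeCompl_le_nonZeroDivisors)
  letI algBpC : Algebra Bp Cn :=
    IsLocalization.localizationAlgebraOfSubmonoidLe Bp Cn
      (Algebra.algebraMapSubmonoid B p.primeCompl) n.primeCompl hMle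
  haveI towBBpC : IsScalarTower B Bp Cn :=
    IsLocalization.localization_isScalarTower_of_submonoid_le Bp Cn
      (Algebra.algebraMapSubmonoid B p.primeCompl) n.primeCompl hMle
  haveI locBpC : IsLocalization (n.primeCompl.map (algebraMap B Bp)) Cn :=
    IsLocalization.isLocalization_of_submonoid_le Bp Cn
      (Algebra.algebraMapSubmonoid B p.primeCompl) n.primeCompl hMle
  letI algApC : Algebra Ap Cn := ((algebraMap Bp Cn).comp (algebraMap Ap Bp)).toAlgebra
  haveI towApBpC : IsScalarTower Ap Bp Cn := IsScalarTower.of_algebraMap_eq' rfl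
  haveI towAApC : IsScalarTower A Ap Cn := IsScalarTower.of_algebraMap_eq (fun a => by
    show algebraMap A Cn a = algebraMap Bp Cn (algebraMap Ap Bp (algebraMap A Ap a))
    rw [← IsScalarTower.algebraMap_apply A Ap Bp, IsScalarTower.algebraMap_apply A B Bp,
      ← IsScalarTower.algebraMap_apply B Bp Cn, ← IsScalarTower.algebraMap_apply A B Cn])
  have hinjBC : Function.Injective (algebraMap B Cn) :=
    IsLocalization.injective Cn n.primeCompl_le_nonZeroDivisors
  have hinjApC : Function.Injective (algebraMap Ap Cn) := by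
    apply injective_of_comp p.primeCompl (algebraMap Ap Cn)
    rw [← IsScalarTower.algebraMap_eq A Ap Cn, IsScalarTower.algebraMap_eq A B Cn]
    exact hinjBC.comp hinj
  haveI : IsLocalHom (algebraMap Ap Cn) := by
    constructor
    intro x hx
    by_contra hnx
    have hxm : x ∈ maximalIdeal Ap := (IsLocalRing.mem_maximalIdeal x).mpr hnx
    rw [← Localization.AtPrime.map_eq_maximalIdeal] at hxm
    have hle : p.map (algebraMap A Ap) ≤ (maximalIdeal Cn).comap (algebraMap Ap Cn) := by
      rw [Ideal.map_le_iff_le_comap]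
      intro a ha
      show algebraMap Ap Cn (algebraMap A Ap a) ∈ maximalIdeal Cn
      rw [← IsScalarTower.algebraMap_apply A Ap Cn, IsScalarTower.algebraMap_apply A B Cn,
        IsLocalization.AtPrime.to_map_mem_maximal_iff Cn n]
      rw [← hp] at ha
      exact ha
    exact (IsLocalRing.mem_maximalIdeal _).mp (hle hxm) hx
  exact core Ap Bp Cn (n.primeCompl.map (algebraMap B Bp)) hinjApC q hq

end Reduction

end Groth.Agent.H20.GenFF
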