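import Mathlib
import Groth.Agent.H20.GenFF2
import Groth.Agent.H20.FibBCGen
import Groth.Agent.Lead.CompleteNoetherian

/-!
# Formal fibres of quasi-finite local algebras (helper20)

`zmt_isLocalization` (Zariski's main theorem: the local ring at a quasi-finite prime is a localization of a
finite subalgebra), fibrewise transfer lemmas for geometric regularity (base change, localization of the
target, isomorphism of the target), `formalFibre_transfer` and the abstract applications `app`, `app_fibre`,
`app_regularHom`.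
-/

set_option autoImplicit false
set_option linter.style.haveILetI false
set_option linter.unusedSectionVars false
set_option linter.unusedVariables false

universe u
open IsLocalRing TensorProduct

namespace Groth.Agent.H20.FormalFib

theorem zmt_key (R R' : Type u) [CommRing R] [CommRing R'] [Algebra R R'] [Algebra.FiniteType R R']
    (p' : Ideal R') [p'.IsPrime] [Algebra.QuasiFiniteAt R p'] :
    ∃ S' : Subalgebra R R', Module.Finite R S' ∧ ∃ r : S', (r : R') ∉ p' ∧
      ∀ x : R', ∃ n : ℕ, ∃ y : S', (r : R') ^ n * x = (y : R') := by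
  obtain ⟨S', hfg, r, hrp, hbij⟩ :=
    Algebra.QuasiFiniteAt.exists_fg_and_exists_notMem_and_awayMap_bijective (R := R) p'
  refine ⟨S', ⟨(Submodule.fg_top _).mpr hfg⟩, r, hrp, ?_⟩
  intro x
  obtain ⟨z, hz⟩ := hbij.2 (algebraMap R' (Localization.Away (S'.val.toRingHom r)) x)
  obtain ⟨y, ⟨_, k, rfl⟩, rfl⟩ := IsLocalization.exists_mk'_eq (Submonoid.powers r) z
  rw [Localization.awayMap, IsLocalization.Away.map, IsLocalization.map_mk',
    IsLocalization.mk'_eq_iff_eq_mul, ← map_mul,
    IsLocalization.eq_iff_exists (Submonoid.powers (S'.val.toRingHom r))] at hz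
  obtain ⟨⟨_, m, rfl⟩, hm⟩ := hz
  refine ⟨m + k, r ^ m * y, ?_⟩
  have hm' : (r : R') ^ m * (y : R') = (r : R') ^ m * (x * (r : R') ^ k) := by simpa using hm
  rw [pow_add, Subalgebra.coe_mul, Subalgebra.coe_pow, hm']
  ring

/-- ZMT: the local ring at a quasi-finite prime is a localization of a finite subalgebra. -/
theorem zmt_isLocalization (R R' : Type u) [CommRing R] [CommRing R'] [Algebra R R']
    [Algebra.FiniteType R R'] (p' : Ideal R') [p'.IsPrime] [Algebra.QuasiFiniteAt R p']
    (C : Type u) [CommRing C] [Algebra R' C] [IsLocalization.AtPrime C p'] :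
    ∃ S' : Subalgebra R R', Module.Finite R S' ∧
      ∀ [Algebra S' C], (∀ y : S', algebraMap S' C y = algebraMap R' C (y : R')) →
        IsLocalization.AtPrime C (p'.comap S'.val.toRingHom) := by
  obtain ⟨S', hfin, r, hrp, K⟩ := zmt_key R R' p'
  refine ⟨S', hfin, ?_⟩
  intro _ hmap
  refine { map_units := ?_, surj := ?_, exists_of_eq := ?_ }
  · rintro ⟨y, hy⟩
    rw [hmap]
    exact IsLocalization.map_units C (⟨(y : R'), hy⟩ : p'.primeCompl)
  · intro z
    obtain ⟨a, t, rfl⟩ := IsLocalization.exists_mk'_eq p'.primeCompl z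
    obtain ⟨n, y₁, hy₁⟩ := K a
    obtain ⟨m, y₂, hy₂⟩ := K (t : R')
    have hd : r ^ n * y₂ ∈ (p'.comap S'.val.toRingHom).primeCompl := by
      refine Ideal.mem_primeCompl_iff.mpr fun hmem => ?_
      have h2 : (r : R') ^ n * (y₂ : R') ∈ p' := by simpa using hmem
      rw [← hy₂] at h2
      rcases (inferInstance : p'.IsPrime).mem_or_mem h2 with h3 | h3
      · exact hrp ((inferInstance : p'.IsPrime).mem_of_pow_mem n h3)
      · rcases (inferInstance : p'.IsPrime).mem_or_mem h3 with h4 | h4
        · exact hrp ((inferInstance : p'.IsPrime).mem_of_pow_mem m h4)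
        · exact t.2 h4
    refine ⟨(r ^ m * y₁, ⟨r ^ n * y₂, hd⟩), ?_⟩
    simp only [hmap, Subalgebra.coe_mul, Subalgebra.coe_pow, ← hy₁, ← hy₂]
    have h5 := IsLocalization.mk'_spec C a t
    calc IsLocalization.mk' C a t * algebraMap R' C ((r : R') ^ n * ((r : R') ^ m * (t : R')))
        = (IsLocalization.mk' C a t * algebraMap R' C (t : R')) *
            algebraMap R' C ((r : R') ^ n * (r : R') ^ m) := by
          simp only [map_mul]; ring
      _ = algebraMap R' C ((r : R') ^ m * ((r : R') ^ n * a)) := by
          rw [h5]; simp only [map_mul]; ring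
  · intro y₁ y₂ h
    rw [hmap, hmap, IsLocalization.eq_iff_exists p'.primeCompl] at h
    obtain ⟨t, ht⟩ := h
    obtain ⟨m, y₃, hy₃⟩ := K (t : R')
    have hd : y₃ ∈ (p'.comap S'.val.toRingHom).primeCompl := by
      refine Ideal.mem_primeCompl_iff.mpr fun hmem => ?_
      have h2 : (y₃ : R') ∈ p' := hmem
      rw [← hy₃] at h2
      rcases (inferInstance : p'.IsPrime).mem_or_mem h2 with h3 | h3
      · exact hrp ((inferInstance : p'.IsPrime).mem_of_pow_mem m h3)
      · exact t.2 h3
    refine ⟨⟨y₃, hd⟩, ?_⟩
    apply Subtype.ext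
    simp only [Subalgebra.coe_mul, ← hy₃]
    rw [mul_assoc, mul_assoc, ht]

section fibrewise

/-- fibrewise base change of geometric regularity (the base change being Noetherian). -/
theorem geomRegular_fibre_baseChange (A B A' : Type u) [CommRing A] [CommRing B] [CommRing A']
    [Algebra A B] [Algebra A A'] [IsNoetherianRing (A' ⊗[A] B)] (p' : Ideal A') [p'.IsPrime]
    (hN : IsNoetherianRing ((p'.comap (algebraMap A A')).Fiber B))
    (h : CAlg.IsGeometricallyRegular (p'.comap (algebraMap A A')).ResidueField
      ((p'.comap (algebraMap A A')).Fiber B)) :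
    CAlg.IsGeometricallyRegular p'.ResidueField (p'.Fiber (A' ⊗[A] B)) := by
  intro k' _ _ hfin
  haveI := hfin
  obtain ⟨alg, -, -, ⟨E⟩⟩ := Groth.Agent.H20.FibBCGen.core A B A' p' k'
  letI := alg
  haveI := hN
  haveI : IsNoetherianRing (p'.Fiber (A' ⊗[A] B)) :=
    Groth.Agent.H34.FibLoc.isNoetherianRing_fiber A' (A' ⊗[A] B) p'
  haveI : IsNoetherianRing (k' ⊗[p'.ResidueField] p'.Fiber (A' ⊗[A] B)) :=
    Groth.Agent.Lead.GeomRegBC.noeth_tensor p'.ResidueField (p'.Fiber (A' ⊗[A] B)) k'
  haveI : IsNoetherianRing (k' ⊗[(p'.comap (algebraMap A A')).ResidueField]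
      (p'.comap (algebraMap A A')).Fiber B) :=
    isNoetherianRing_of_ringEquiv (k' ⊗[p'.ResidueField] p'.Fiber (A' ⊗[A] B)) E.symm
  have h3 : IsRegularRing (k' ⊗[(p'.comap (algebraMap A A')).ResidueField]
      (p'.comap (algebraMap A A')).Fiber B) :=
    Groth.Agent.Lead.GeomRegBC.regular_tensor_of_locFS
      (fun q _ => Groth.Agent.Lead.GeomRegBC.locFS_of_geomRegular h q) k'
  exact @IsRegularRing.of_ringEquiv (k' ⊗[(p'.comap (algebraMap A A')).ResidueField]
      (p'.comap (algebraMap A A')).Fiber B) _ (k' ⊗[p'.ResidueField] p'.Fiber (A' ⊗[A] B)) _ E h3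

/-- `k' ⊗[A] B'` is a localization of `k' ⊗[A] B` when `B'` is a localization of `B`. -/
theorem tensor_localization (A B B' : Type u) [CommRing A] [CommRing B] [CommRing B']
    [Algebra A B] [Algebra B B'] [Algebra A B'] [IsScalarTower A B B']
    (M : Submonoid B) [IsLocalization M B'] (k' : Type u) [CommRing k'] [Algebra A k'] :
    (IsNoetherianRing (k' ⊗[A] B) → IsNoetherianRing (k' ⊗[A] B')) ∧
    (IsRegularRing (k' ⊗[A] B) → IsRegularRing (k' ⊗[A] B')) := by
  let f : k' ⊗[A] B →ₐ[k'] k' ⊗[A] B' :=
    Algebra.TensorProduct.map (AlgHom.id k' k') (IsScalarTower.toAlgHom A B B')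
  letI : Algebra (k' ⊗[A] B) (k' ⊗[A] B') := f.toRingHom.toAlgebra
  haveI : IsScalarTower k' (k' ⊗[A] B) (k' ⊗[A] B') :=
    IsScalarTower.of_algebraMap_eq' f.comp_algebraMap.symm
  haveI := IsLocalization.tensorProduct_tensorProduct_right A k' M B'
    (RingHom.ext fun x => by
      show f ((1 : k') ⊗ₜ[A] x) = (1 : k') ⊗ₜ[A] algebraMap B B' x
      simp [f])
  exact ⟨fun hN => IsLocalization.isNoetherianRing
      (M.map (Algebra.TensorProduct.includeRight (R := A) (A := k'))) _ hN,
    fun hR => Groth.Agent.Lead.GeomRegBC.isRegularRing_of_isLocalization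
      (M.map (Algebra.TensorProduct.includeRight (R := A) (A := k'))) _⟩

/-- fibrewise: geometric regularity of a fibre passes to a localization of the target. -/
theorem geomRegular_fibre_localization (A B B' : Type u) [CommRing A] [CommRing B] [CommRing B']
    [Algebra A B] [Algebra B B'] [Algebra A B'] [IsScalarTower A B B']
    (M : Submonoid B) [IsLocalization M B'] (p : Ideal A) [p.IsPrime]
    (hN : IsNoetherianRing (p.Fiber B))
    (h : CAlg.IsGeometricallyRegular p.ResidueField (p.Fiber B)) :
    IsNoetherianRing (p.Fiber B') ∧ CAlg.IsGeometricallyRegular p.ResidueField (p.Fiber B') := by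
  refine ⟨(tensor_localization A B B' M p.ResidueField).1 hN, ?_⟩
  intro k' _ _ hfin
  letI : Algebra A k' :=
    ((algebraMap p.ResidueField k').comp (algebraMap A p.ResidueField)).toAlgebra
  haveI : IsScalarTower A p.ResidueField k' := IsScalarTower.of_algebraMap_eq' rfl
  have h1 : IsRegularRing (k' ⊗[p.ResidueField] p.Fiber B) := h k' hfin
  haveI h2 : IsRegularRing (k' ⊗[A] B) :=
    IsRegularRing.of_ringEquiv
      (Algebra.TensorProduct.cancelBaseChange A p.ResidueField p.ResidueField k' B).toRingEquiv
  haveI h3 : IsRegularRing (k' ⊗[A] B') := (tensor_localization A B B' M k').2 h2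
  exact IsRegularRing.of_ringEquiv
    (Algebra.TensorProduct.cancelBaseChange A p.ResidueField p.ResidueField k' B').symm.toRingEquiv

/-- fibrewise: geometric regularity of a fibre is invariant under isomorphisms of the target. -/
theorem geomRegular_fibre_of_algEquiv (A C C' : Type u) [CommRing A] [CommRing C] [CommRing C']
    [Algebra A C] [Algebra A C'] (e : C ≃ₐ[A] C') (p : Ideal A) [p.IsPrime]
    (hN : IsNoetherianRing (p.Fiber C))
    (h : CAlg.IsGeometricallyRegular p.ResidueField (p.Fiber C)) :
    IsNoetherianRing (p.Fiber C') ∧ CAlg.IsGeometricallyRegular p.ResidueField (p.Fiber C') := by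
  let e1 : p.ResidueField ⊗[A] C ≃ₐ[p.ResidueField] p.ResidueField ⊗[A] C' :=
    Algebra.TensorProduct.congr AlgEquiv.refl e
  refine ⟨isNoetherianRing_of_ringEquiv _ e1.toRingEquiv, ?_⟩
  intro k' _ _ hfin
  haveI h1 : IsRegularRing (k' ⊗[p.ResidueField] p.Fiber C) := h k' hfin
  let e2 : k' ⊗[p.ResidueField] (p.ResidueField ⊗[A] C) ≃ₐ[k']
      k' ⊗[p.ResidueField] (p.ResidueField ⊗[A] C') :=
    Algebra.TensorProduct.congr AlgEquiv.refl e1
  exact IsRegularRing.of_ringEquiv e2.toRingEquiv

end fibrewise

/-- **Transfer of formal fibres** to a local ring `C`, localization of a finite `A`-algebra `S`, dominating the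
Noetherian local ring `A`. -/
theorem formalFibre_transfer (A S C : Type u) [CommRing A] [CommRing S] [CommRing C]
    [IsNoetherianRing A] [IsLocalRing A] [Algebra A S] [Module.Finite A S]
    [IsLocalRing C] [Algebra A C] [Algebra S C] [IsScalarTower A S C]
    (M₀ : Submonoid S) [IsLocalization M₀ C] [IsLocalHom (algebraMap A C)]
    (Q' : Ideal C) [Q'.IsPrime]
    (h : CAlg.IsGeometricallyRegular (Q'.comap (algebraMap A C)).ResidueField
      (EGA4.formalFibre A (Q'.comap (algebraMap A C)))) :
    IsNoetherianRing (EGA4.formalFibre C Q') ∧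
    CAlg.IsGeometricallyRegular Q'.ResidueField (EGA4.formalFibre C Q') := by
  haveI : IsNoetherianRing (EGA4.Cpl A) :=
    Groth.Agent.Lead.isNoetherianRing_adicCompletion (maximalIdeal A)
      (maximalIdeal A).fg_of_isNoetherianRing
  obtain ⟨n', hn'p, hn'o⟩ := Ideal.exists_isPrime_liesOver_of_faithfullyFlat
    (A := C) (B := C ⊗[A] EGA4.Cpl A) (maximalIdeal C)
  haveI := hn'p
  have h1 : n'.comap (algebraMap C (C ⊗[A] EGA4.Cpl A)) = maximalIdeal C := hn'o.over.symm
  obtain ⟨hnoeth, hcompl⟩ := Groth.Agent.H20.GenFF.noeth_and_complete A S C M₀ n' h1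
  haveI := hnoeth
  haveI := hcompl
  obtain ⟨e, he⟩ := Groth.Agent.H20.GenFF.exists_equiv_of_complete A C n' h1
  have hN0 : IsNoetherianRing ((Q'.comap (algebraMap A C)).Fiber (EGA4.Cpl A)) :=
    Groth.Agent.H34.FibLoc.isNoetherianRing_fiber A (EGA4.Cpl A) _
  have s1 := geomRegular_fibre_baseChange A (EGA4.Cpl A) C Q' hN0 h
  have hN1 : IsNoetherianRing (Q'.Fiber (C ⊗[A] EGA4.Cpl A)) :=
    Groth.Agent.H34.FibLoc.isNoetherianRing_fiber C (C ⊗[A] EGA4.Cpl A) Q'
  obtain ⟨hN2, s2⟩ := geomRegular_fibre_localization C (C ⊗[A] EGA4.Cpl A)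
    (Localization.AtPrime n') n'.primeCompl Q' hN1 s1
  exact geomRegular_fibre_of_algEquiv C (Localization.AtPrime n') (EGA4.Cpl C)
    (AlgEquiv.ofRingEquiv (f := e) he).symm Q' hN2 s2

section App

variable (R R' : Type u) [CommRing R] [CommRing R'] [IsNoetherianRing R] [Algebra R R']
  [Algebra.FiniteType R R'] (p' : Ideal R') [p'.IsPrime] [Algebra.QuasiFiniteAt R p']
  (p : Ideal R) [p.IsPrime] (hp : p'.comap (algebraMap R R') = p)
  (A : Type u) [CommRing A] [IsLocalRing A] [Algebra R A] [IsLocalization.AtPrime A p]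
  (C : Type u) [CommRing C] [IsLocalRing C] [Algebra R' C] [IsLocalization.AtPrime C p']
  [Algebra R C] [IsScalarTower R R' C] [Algebra A C] [IsScalarTower R A C]

include hp in
/-- abstract form: `A = R_p`, `C = R'_{p'}` with `R'` of finite type over `R` and quasi-finite at `p'`. -/
theorem app (Q' : Ideal C) [Q'.IsPrime]
    (h : CAlg.IsGeometricallyRegular (Q'.comap (algebraMap A C)).ResidueField
      (EGA4.formalFibre A (Q'.comap (algebraMap A C)))) :
    IsNoetherianRing (EGA4.formalFibre C Q') ∧
    CAlg.IsGeometricallyRegular Q'.ResidueField (EGA4.formalFibre C Q') := by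
  haveI : IsNoetherianRing A := IsLocalization.isNoetherianRing p.primeCompl A inferInstance
  obtain ⟨S', hfin, hloc⟩ := zmt_isLocalization R R' p' C
  haveI := hfin
  haveI locS'C : IsLocalization.AtPrime C (p'.comap S'.val.toRingHom) := hloc (fun y => rfl)
  have hMle : Algebra.algebraMapSubmonoid S' p.primeCompl ≤
      (p'.comap S'.val.toRingHom).primeCompl := by
    rintro _ ⟨a, ha, rfl⟩
    refine Ideal.mem_primeCompl_iff.mpr fun hmem => ?_
    have h2 : a ∈ p := by rw [← hp]; exact hmem
    exact (Ideal.mem_primeCompl_iff.mp ha) h2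
  letI algAS : Algebra A (Localization (Algebra.algebraMapSubmonoid S' p.primeCompl)) :=
    localizationAlgebra p.primeCompl S'
  haveI towRAS : IsScalarTower R A (Localization (Algebra.algebraMapSubmonoid S' p.primeCompl)) :=
    isScalarTower_localizationAlgebra _ _
  haveI finAS : Module.Finite A (Localization (Algebra.algebraMapSubmonoid S' p.primeCompl)) :=
    Module.Finite.of_isLocalization R S' p.primeCompl
  letI algSC : Algebra (Localization (Algebra.algebraMapSubmonoid S' p.primeCompl)) C :=
    IsLocalization.localizationAlgebraOfSubmonoidLe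
      (Localization (Algebra.algebraMapSubmonoid S' p.primeCompl)) C
      (Algebra.algebraMapSubmonoid S' p.primeCompl) (p'.comap S'.val.toRingHom).primeCompl hMle
  haveI towS'SC : IsScalarTower S' (Localization (Algebra.algebraMapSubmonoid S' p.primeCompl)) C :=
    IsLocalization.localization_isScalarTower_of_submonoid_le
      (Localization (Algebra.algebraMapSubmonoid S' p.primeCompl)) C
      (Algebra.algebraMapSubmonoid S' p.primeCompl) (p'.comap S'.val.toRingHom).primeCompl hMle
  haveI locSC : IsLocalization ((p'.comap S'.val.toRingHom).primeCompl.map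
      (algebraMap S' (Localization (Algebra.algebraMapSubmonoid S' p.primeCompl)))) C :=
    IsLocalization.isLocalization_of_submonoid_le
      (Localization (Algebra.algebraMapSubmonoid S' p.primeCompl)) C
      (Algebra.algebraMapSubmonoid S' p.primeCompl) (p'.comap S'.val.toRingHom).primeCompl hMle
  haveI towASC : IsScalarTower A (Localization (Algebra.algebraMapSubmonoid S' p.primeCompl)) C :=
    IsScalarTower.of_algebraMap_eq' (by
      apply IsLocalization.ringHom_ext p.primeCompl
      ext a
      simp only [RingHom.comp_apply]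
      rw [← IsScalarTower.algebraMap_apply R A C,
        ← IsScalarTower.algebraMap_apply R A
          (Localization (Algebra.algebraMapSubmonoid S' p.primeCompl)),
        IsScalarTower.algebraMap_apply R S'
          (Localization (Algebra.algebraMapSubmonoid S' p.primeCompl)),
        ← IsScalarTower.algebraMap_apply S'
          (Localization (Algebra.algebraMapSubmonoid S' p.primeCompl)) C,
        ← IsScalarTower.algebraMap_apply R S' C])
  haveI : IsLocalHom (algebraMap A C) := by
    constructor
    intro x hx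
    by_contra hnx
    have hxm : x ∈ maximalIdeal A := (IsLocalRing.mem_maximalIdeal x).mpr hnx
    rw [← IsLocalization.AtPrime.map_eq_maximalIdeal p A] at hxm
    have hle : p.map (algebraMap R A) ≤ (maximalIdeal C).comap (algebraMap A C) := by
      rw [Ideal.map_le_iff_le_comap]
      intro a ha
      show algebraMap A C (algebraMap R A a) ∈ maximalIdeal C
      rw [← IsScalarTower.algebraMap_apply R A C, IsScalarTower.algebraMap_apply R R' C,
        IsLocalization.AtPrime.to_map_mem_maximal_iff C p']
      rw [← hp] at ha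
      exact ha
    exact (IsLocalRing.mem_maximalIdeal _).mp (hle hxm) hx
  exact formalFibre_transfer A (Localization (Algebra.algebraMapSubmonoid S' p.primeCompl)) C
    ((p'.comap S'.val.toRingHom).primeCompl.map
      (algebraMap S' (Localization (Algebra.algebraMapSubmonoid S' p.primeCompl)))) Q' h

include hp in
/-- abstract form of the statement on a single formal fibre. -/
theorem app_fibre (Q' : Ideal C) [Q'.IsPrime] (Q : Ideal A) [Q.IsPrime]
    (hQ : Q.comap (algebraMap R A) = Q'.comap (algebraMap R C))
    (h : CAlg.IsGeometricallyRegular Q.ResidueField (EGA4.formalFibre A Q)) :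
    CAlg.IsGeometricallyRegular Q'.ResidueField (EGA4.formalFibre C Q') := by
  have hQeq : Q = Q'.comap (algebraMap A C) := by
    rw [← IsLocalization.map_under p.primeCompl A Q,
      ← IsLocalization.map_under p.primeCompl A (Q'.comap (algebraMap A C))]
    congr 1
    show Q.comap (algebraMap R A) = (Q'.comap (algebraMap A C)).comap (algebraMap R A)
    rw [hQ, Ideal.comap_comap, ← IsScalarTower.algebraMap_eq]
  subst hQeq
  exact (app R R' p' p hp A C Q' h).2

include hp in
/-- abstract form of the statement on regularity of the completion map. -/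
theorem app_regularHom [IsNoetherianRing R'] (h : CAlg.IsRegularHom A (EGA4.Cpl A)) :
    CAlg.IsRegularHom C (EGA4.Cpl C) := by
  haveI : IsNoetherianRing C := IsLocalization.isNoetherianRing p'.primeCompl C inferInstance
  obtain ⟨hflat, hfib⟩ := h
  refine ⟨inferInstance, fun Q' _ => ?_⟩
  exact app R R' p' p hp A C Q' (hfib (Q'.comap (algebraMap A C))).2

end App

end Groth.Agent.H20.FormalFib
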