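import Mathlib
import Groth.Agent.H20.FormalFib
import Groth.Agent.H34.FibLoc
import Groth.Agent.H34.GRingLoc
import Groth.Agent.H29.HomComp
import Groth.Agent.H87.ComplFlat
import Groth.Agent.S9295
import Groth.Agent.S9294
import Groth.Agent.S4736
import Groth.Agent.S2038
import Groth.Agent.S4554

/-!
# Local rings with regular completion map (helper20)

* `isRegularHom_target_localization`, `isRegularHom_atPrime`, `isLocalHom_atPrime`,
  `adicFormallySmooth_atPrime`: a regular map `A → B` induces regular / adically formally smooth local maps
  `A_r → B_q` (`r = q ∩ A`), for an abstract model `A'` of `A_r`.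
* `isRegularHom_cpl_atPrime`: if `A → Â` is regular and `Â` is a G-ring, then `A` is a G-ring.
* `isGRing_of_maximal`, `formallySmoothAdic_of_complete`, `adicFormallySmooth_generic_of_complete`:
  consequences of "complete local rings are G-rings" (taken as a hypothesis `hCL`).
-/

set_option autoImplicit false
set_option linter.style.haveILetI false
set_option linter.unusedSectionVars false
set_option linter.unusedVariables false

universe u
open IsLocalRing TensorProduct

namespace Groth.Agent.H20.GRingLocal

/-- A regular map stays regular after localizing the target. -/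
theorem isRegularHom_target_localization (A B B' : Type u) [CommRing A] [CommRing B] [CommRing B']
    [Algebra A B] [Algebra B B'] [Algebra A B'] [IsScalarTower A B B'] (M : Submonoid B)
    [IsLocalization M B'] (h : CAlg.IsRegularHom A B) : CAlg.IsRegularHom A B' := by
  obtain ⟨hflat, hfib⟩ := h
  haveI := hflat
  haveI : Module.Flat B B' := IsLocalization.flat B' M
  refine ⟨Module.Flat.trans A B B', fun p _ => ?_⟩
  exact Groth.Agent.H20.FormalFib.geomRegular_fibre_localization A B B' M p (hfib p).1 (hfib p).2

section AtPrime

variable (A B : Type u) [CommRing A] [CommRing B] [Algebra A B]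
  (q : Ideal B) [q.IsPrime] (r : Ideal A) [r.IsPrime] (hr : q.comap (algebraMap A B) = r)
  (A' : Type u) [CommRing A'] [Algebra A A'] [IsLocalization.AtPrime A' r]
  [Algebra A' (Localization.AtPrime q)] [IsScalarTower A A' (Localization.AtPrime q)]

include hr in
theorem isUnit_algebraMap_of_notMem (a : A) (ha : a ∈ r.primeCompl) :
    IsUnit (algebraMap A (Localization.AtPrime q) a) := by
  rw [IsScalarTower.algebraMap_apply A B (Localization.AtPrime q)]
  refine IsLocalization.map_units (Localization.AtPrime q) (⟨algebraMap A B a, ?_⟩ : q.primeCompl)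
  intro hmem
  have h2 : a ∈ q.comap (algebraMap A B) := hmem
  rw [hr] at h2
  exact ha h2

include hr in
/-- `A_r → B_q` is regular when `A → B` is. -/
theorem isRegularHom_atPrime [IsNoetherianRing A] [IsNoetherianRing B] (h : CAlg.IsRegularHom A B) :
    CAlg.IsRegularHom A' (Localization.AtPrime q) := by
  have h1 : CAlg.IsRegularHom A (Localization.AtPrime q) :=
    isRegularHom_target_localization A B (Localization.AtPrime q) q.primeCompl h
  haveI : IsNoetherianRing (Localization.AtPrime q) :=
    IsLocalization.isNoetherianRing q.primeCompl _ inferInstance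
  haveI : IsLocalization (Algebra.algebraMapSubmonoid (Localization.AtPrime q) r.primeCompl)
      (Localization.AtPrime q) := by
    apply IsLocalization.of_le_isUnit
    rintro _ ⟨a, ha, rfl⟩
    exact isUnit_algebraMap_of_notMem A B q r hr a ha
  exact Groth.Agent.S4736.result A (Localization.AtPrime q) h1 r.primeCompl A'
    (Localization.AtPrime q)

include hr in
/-- `A_r → B_q` is a local homomorphism. -/
theorem isLocalHom_atPrime : IsLocalHom (algebraMap A' (Localization.AtPrime q)) := by
  constructor
  intro x hx
  obtain ⟨a, s, rfl⟩ := IsLocalization.exists_mk'_eq r.primeCompl x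
  have h1 : algebraMap A' (Localization.AtPrime q) (IsLocalization.mk' A' a s) *
      algebraMap A (Localization.AtPrime q) (s : A) = algebraMap A (Localization.AtPrime q) a := by
    rw [IsScalarTower.algebraMap_apply A A' (Localization.AtPrime q), ← map_mul,
      IsLocalization.mk'_spec, ← IsScalarTower.algebraMap_apply]
  have hs : IsUnit (algebraMap A (Localization.AtPrime q) (s : A)) :=
    isUnit_algebraMap_of_notMem A B q r hr s s.2
  have ha : IsUnit (algebraMap A (Localization.AtPrime q) a) := by
    rw [← h1]
    exact hx.mul hs
  have har : a ∈ r.primeCompl := by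
    intro hmem
    have h2 : algebraMap A B a ∈ q := by
      rw [← hr] at hmem
      exact hmem
    have h3 : algebraMap B (Localization.AtPrime q) (algebraMap A B a) ∈
        maximalIdeal (Localization.AtPrime q) :=
      (IsLocalization.AtPrime.to_map_mem_maximal_iff (Localization.AtPrime q) q _).mpr h2
    rw [← IsScalarTower.algebraMap_apply A B (Localization.AtPrime q)] at h3
    exact (IsLocalRing.mem_maximalIdeal _).mp h3 ha
  exact (IsLocalization.AtPrime.isUnit_mk'_iff A' r a s).mpr har

include hr in
/-- `B_q` is formally smooth over `A_r` for the adic topology when `A → B` is regular. -/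
theorem adicFormallySmooth_atPrime [IsNoetherianRing A] [IsNoetherianRing B] [IsLocalRing A']
    (h : CAlg.IsRegularHom A B) :
    CAlgX.IsAdicFormallySmooth A' (Localization.AtPrime q)
      (maximalIdeal (Localization.AtPrime q)) := by
  haveI : IsNoetherianRing A' := IsLocalization.isNoetherianRing r.primeCompl A' inferInstance
  haveI : IsNoetherianRing (Localization.AtPrime q) :=
    IsLocalization.isNoetherianRing q.primeCompl _ inferInstance
  haveI := isLocalHom_atPrime A B q r hr A'
  have h2 := isRegularHom_atPrime A B q r hr A' h
  exact (Groth.Agent.S2038.result (A := A') (B := Localization.AtPrime q)).mp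
    ⟨h2.1, (h2.2 (maximalIdeal A')).2⟩

end AtPrime

/-- the completion of a Noetherian local ring is complete for its maximal ideal. -/
theorem isAdicComplete_cpl (A : Type u) [CommRing A] [IsNoetherianRing A] [IsLocalRing A] :
    IsAdicComplete (maximalIdeal (EGA4.Cpl A)) (EGA4.Cpl A) := by
  rw [AdicCompletion.maximalIdeal_eq_map]
  exact AdicCompletion.isAdicComplete_self (maximalIdeal A) (maximalIdeal A).fg_of_isNoetherianRing

set_option maxHeartbeats 2000000 in
/-- If `A → Â` is regular and `Â` is a G-ring, then all local rings of `A` have regular completion maps. -/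
theorem isRegularHom_cpl_atPrime (A : Type u) [CommRing A] [IsNoetherianRing A] [IsLocalRing A]
    (hA : CAlg.IsRegularHom A (EGA4.Cpl A)) (hC : CAlg.IsGRing (EGA4.Cpl A))
    (p' : Ideal A) [p'.IsPrime] :
    CAlg.IsRegularHom (Localization.AtPrime p') (EGA4.Cpl (Localization.AtPrime p')) := by
  haveI noethAh : IsNoetherianRing (EGA4.Cpl A) := hC.1
  obtain ⟨P, hPprime, hPover⟩ :=
    Ideal.exists_isPrime_liesOver_of_faithfullyFlat (A := A) (B := EGA4.Cpl A) p'
  haveI := hPprime
  have hP : P.comap (algebraMap A (EGA4.Cpl A)) = p' := hPover.over.symm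
  letI algAB : Algebra (Localization.AtPrime p') (Localization.AtPrime P) :=
    (Localization.localRingHom p' P (algebraMap A (EGA4.Cpl A)) hP.symm).toAlgebra
  haveI tow : IsScalarTower A (Localization.AtPrime p') (Localization.AtPrime P) :=
    IsScalarTower.of_algebraMap_eq (R := A) (S := Localization.AtPrime p')
      (A := Localization.AtPrime P) (fun a => by
        show algebraMap A (Localization.AtPrime P) a =
          Localization.localRingHom p' P (algebraMap A (EGA4.Cpl A)) hP.symm (algebraMap A _ a)
        rw [Localization.localRingHom_to_map,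
          IsScalarTower.algebraMap_apply A (EGA4.Cpl A) (Localization.AtPrime P)])
  have h12 : CAlg.IsRegularHom (Localization.AtPrime p') (Localization.AtPrime P) :=
    isRegularHom_atPrime A (EGA4.Cpl A) P p' hP (Localization.AtPrime p') hA
  haveI loc12 : IsLocalHom (algebraMap (Localization.AtPrime p') (Localization.AtPrime P)) :=
    isLocalHom_atPrime A (EGA4.Cpl A) P p' hP (Localization.AtPrime p')
  haveI noethA1 : IsNoetherianRing (Localization.AtPrime p') :=
    IsLocalization.isNoetherianRing p'.primeCompl _ inferInstance
  haveI noethB1 : IsNoetherianRing (Localization.AtPrime P) :=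
    IsLocalization.isNoetherianRing P.primeCompl _ inferInstance
  haveI noethCA1 : IsNoetherianRing (EGA4.Cpl (Localization.AtPrime p')) :=
    Groth.Agent.Lead.isNoetherianRing_adicCompletion _
      (maximalIdeal (Localization.AtPrime p')).fg_of_isNoetherianRing
  haveI noethCB1 : IsNoetherianRing (EGA4.Cpl (Localization.AtPrime P)) :=
    Groth.Agent.Lead.isNoetherianRing_adicCompletion _
      (maximalIdeal (Localization.AtPrime P)).fg_of_isNoetherianRing
  have h23 : CAlg.IsRegularHom (Localization.AtPrime P) (EGA4.Cpl (Localization.AtPrime P)) :=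
    hC.2 P
  have h13 : CAlg.IsRegularHom (Localization.AtPrime p') (EGA4.Cpl (Localization.AtPrime P)) :=
    Groth.Agent.S9294.result (Localization.AtPrime p') (Localization.AtPrime P)
      (EGA4.Cpl (Localization.AtPrime P)) h12 h23 (fun p _ =>
      Groth.Agent.H34.FibLoc.isNoetherianRing_fiber (Localization.AtPrime p')
        (EGA4.Cpl (Localization.AtPrime P)) p)
  have hle : (maximalIdeal (Localization.AtPrime p')).map
      (algebraMap (Localization.AtPrime p') (Localization.AtPrime P)) ≤
      maximalIdeal (Localization.AtPrime P) :=
    ((IsLocalRing.local_hom_TFAE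
      (algebraMap (Localization.AtPrime p') (Localization.AtPrime P))).out 0 2).mp loc12
  letI algCC : Algebra (EGA4.Cpl (Localization.AtPrime p')) (EGA4.Cpl (Localization.AtPrime P)) :=
    (FSch.complMap (maximalIdeal (Localization.AtPrime p')) (maximalIdeal (Localization.AtPrime P))
      (algebraMap (Localization.AtPrime p') (Localization.AtPrime P)) hle).toAlgebra
  have hcm : ∀ a : Localization.AtPrime p',
      algebraMap (EGA4.Cpl (Localization.AtPrime p')) (EGA4.Cpl (Localization.AtPrime P))
        (algebraMap (Localization.AtPrime p') (EGA4.Cpl (Localization.AtPrime p')) a) =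
      algebraMap (Localization.AtPrime P) (EGA4.Cpl (Localization.AtPrime P))
        (algebraMap (Localization.AtPrime p') (Localization.AtPrime P) a) := fun a =>
    Groth.Agent.H87.ComplFlat.complMap_algebraMap _ _ _ hle a
  haveI towCC : IsScalarTower (Localization.AtPrime p') (EGA4.Cpl (Localization.AtPrime p'))
      (EGA4.Cpl (Localization.AtPrime P)) :=
    IsScalarTower.of_algebraMap_eq (fun a => by
      rw [hcm a, ← IsScalarTower.algebraMap_apply (Localization.AtPrime p')
        (Localization.AtPrime P) (EGA4.Cpl (Localization.AtPrime P))])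
  haveI flatCC : Module.Flat (EGA4.Cpl (Localization.AtPrime p'))
      (EGA4.Cpl (Localization.AtPrime P)) :=
    Groth.Agent.H87.ComplFlat.complMap_flat _ _ _
      (RingHom.flat_algebraMap_iff.mpr h12.1) hle
  haveI locCC : IsLocalHom (algebraMap (EGA4.Cpl (Localization.AtPrime p'))
      (EGA4.Cpl (Localization.AtPrime P))) := by
    refine ((IsLocalRing.local_hom_TFAE _).out 0 2).mpr ?_
    rw [AdicCompletion.maximalIdeal_eq_map (R := Localization.AtPrime p'), Ideal.map_map,
      Ideal.map_le_iff_le_comap]
    intro a ha
    rw [Ideal.mem_comap, RingHom.comp_apply, hcm a,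
      AdicCompletion.maximalIdeal_eq_map (R := Localization.AtPrime P)]
    exact Ideal.mem_map_of_mem _ (hle (Ideal.mem_map_of_mem _ ha))
  haveI ffCC : Module.FaithfullyFlat (EGA4.Cpl (Localization.AtPrime p'))
      (EGA4.Cpl (Localization.AtPrime P)) := Module.FaithfullyFlat.of_flat_of_isLocalHom
  exact Groth.Agent.S9295.result (Localization.AtPrime p') (EGA4.Cpl (Localization.AtPrime p'))
    (EGA4.Cpl (Localization.AtPrime P)) h13 PrimeSpectrum.comap_surjective_of_faithfullyFlat

/-- statement of "complete Noetherian local rings are G-rings", used as a hypothesis below. -/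
def CompleteLocalGRing : Prop :=
  ∀ (R' : Type u) [CommRing R'] [IsLocalRing R'] [IsNoetherianRing R']
    [IsAdicComplete (maximalIdeal R') R'], CAlg.IsGRing R'

/-- A Noetherian ring is a G-ring as soon as the completion maps of its localizations at maximal ideals are
regular (given that complete local rings are G-rings). -/
theorem isGRing_of_maximal (hCL : CompleteLocalGRing.{u}) (R : Type u) [CommRing R]
    [IsNoetherianRing R]
    (h : ∀ (m : Ideal R) [m.IsMaximal], CAlg.IsRegularHom (Localization.AtPrime m)
      (EGA4.Cpl (Localization.AtPrime m))) : CAlg.IsGRing R := by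
  refine ⟨inferInstance, fun p hp => ?_⟩
  obtain ⟨m, hm, hpm⟩ := Ideal.exists_le_maximal p hp.ne_top
  haveI := hm
  haveI noethA : IsNoetherianRing (Localization.AtPrime m) :=
    IsLocalization.isNoetherianRing m.primeCompl _ inferInstance
  haveI noethAh : IsNoetherianRing (EGA4.Cpl (Localization.AtPrime m)) :=
    Groth.Agent.Lead.isNoetherianRing_adicCompletion _
      (maximalIdeal (Localization.AtPrime m)).fg_of_isNoetherianRing
  haveI := isAdicComplete_cpl (Localization.AtPrime m)
  have hC : CAlg.IsGRing (EGA4.Cpl (Localization.AtPrime m)) :=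
    hCL (EGA4.Cpl (Localization.AtPrime m))
  have hdisj : Disjoint (m.primeCompl : Set R) (p : Set R) :=
    Set.disjoint_left.mpr fun x hx hx' => hx (hpm hx')
  haveI hp' : (p.map (algebraMap R (Localization.AtPrime m))).IsPrime :=
    IsLocalization.isPrime_of_isPrime_disjoint m.primeCompl _ p hp hdisj
  have hcomap : (p.map (algebraMap R (Localization.AtPrime m))).comap
      (algebraMap R (Localization.AtPrime m)) = p :=
    IsLocalization.under_map_of_isPrime_disjoint m.primeCompl _ hp hdisj
  have hM1 := isRegularHom_cpl_atPrime (Localization.AtPrime m) (h m) hC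
    (p.map (algebraMap R (Localization.AtPrime m)))
  have key : ∀ (I : Ideal R) [I.IsPrime], I = p →
      (Localization.AtPrime I ≃+*
        Localization.AtPrime (p.map (algebraMap R (Localization.AtPrime m)))) →
      CAlg.IsRegularHom (Localization.AtPrime p) (EGA4.Cpl (Localization.AtPrime p)) := by
    intro I _ hI e
    subst hI
    exact Groth.Agent.H34.GRingLoc.isRegularHom_cpl_of_ringEquiv e.symm hM1
  exact key _ hcomap (IsLocalization.localizationLocalizationAtPrimeIsoLocalization m.primeCompl
    (p.map (algebraMap R (Localization.AtPrime m)))).toRingEquiv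

end Groth.Agent.H20.GRingLocal
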