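import Mathlib
import Groth.Agent.H20.FormalFib

/-!
# G-rings and formal fibres of finite free algebras (helper20)

* `exists_finite_free_list`: finitely many integral elements of a field lie in the image of a finite free
  algebra (iterated `AdjoinRoot`).
* `exists_finite_free_fractions`: for a finite extension `k'` of the residue field `κ(Q)` of a prime `Q` of
  `R_p`, there is a finite free `R`-algebra `S` with an `R`-algebra map `S → k'` whose image has fraction
  field `k'`.
* `nonempty_residueField_algEquiv`: `κ(ker (C → k')) ≃ k'` when `k'` consists of fractions of the image.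
* `regularLocal_of_isLocalization`: `X_𝔓` is regular if a localization `M⁻¹X` with `M ∩ 𝔓 = ∅` is regular.
-/

set_option autoImplicit false
set_option linter.style.haveILetI false
set_option linter.unusedSectionVars false
set_option linter.unusedVariables false

universe u
open IsLocalRing TensorProduct

namespace Groth.Agent.H20.GRingFF

/-- Finitely many integral elements of a field lie in the image of a finite free algebra. -/
theorem exists_finite_free_list (R k' : Type u) [CommRing R] [Field k'] [Algebra R k'] (l : List k')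
    (hl : ∀ z ∈ l, IsIntegral R z) :
    ∃ (S : Type u) (_ : CommRing S) (_ : Algebra R S) (_ : Module.Finite R S) (_ : Module.Free R S)
      (φ : S →ₐ[R] k'), ∀ z ∈ l, z ∈ Set.range φ := by
  induction l with
  | nil =>
    exact ⟨R, inferInstance, inferInstance, inferInstance, inferInstance, Algebra.ofId R k',
      fun z hz => by simp at hz⟩
  | cons z l ih =>
    obtain ⟨S₀, i1, i2, i3, i4, φ₀, h₀⟩ := ih (fun w hw => hl w (List.mem_cons_of_mem _ hw))
    letI := i1
    letI := i2
    haveI := i3
    haveI := i4
    obtain ⟨F, hF, hz⟩ := hl z List.mem_cons_self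
    have hg : (F.map (algebraMap R S₀)).Monic := hF.map _
    haveI := hg.finite_adjoinRoot
    haveI := hg.free_adjoinRoot
    have hev : (F.map (algebraMap R S₀)).eval₂ (φ₀ : S₀ →+* k') z = 0 := by
      rw [Polynomial.eval₂_map]
      have h2 : (φ₀ : S₀ →+* k').comp (algebraMap R S₀) = algebraMap R k' := φ₀.comp_algebraMap
      rw [h2]
      exact hz
    refine ⟨AdjoinRoot (F.map (algebraMap R S₀)), inferInstance, inferInstance,
      Module.Finite.trans S₀ _, Module.Free.trans (R := R) (S := S₀),
      AdjoinRoot.liftAlgHom _ φ₀ z hev, ?_⟩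
    intro w hw
    rcases List.mem_cons.mp hw with rfl | hw
    · exact ⟨AdjoinRoot.root _, AdjoinRoot.liftAlgHom_root _ _ _ _⟩
    · obtain ⟨s, rfl⟩ := h₀ w hw
      exact ⟨AdjoinRoot.of _ s, AdjoinRoot.liftAlgHom_of _ _ _ _ _⟩

section Frac

/-- every element of `k'` has a nonzero multiple (by an element of `A`) integral over `R`. -/
theorem exists_integral_multiple (R : Type u) [CommRing R] (p : Ideal R) [p.IsPrime]
    (A : Type u) [CommRing A] [Algebra R A] [IsLocalization.AtPrime A p]
    (Q : Ideal A) [Q.IsPrime]
    (k' : Type u) [Field k'] [Algebra Q.ResidueField k'] [Module.Finite Q.ResidueField k']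
    [Algebra A k'] [IsScalarTower A Q.ResidueField k'] [Algebra R k'] [IsScalarTower R A k'] (x : k') :
    ∃ a : A, algebraMap A k' a ≠ 0 ∧ IsIntegral R (algebraMap A k' a * x) := by
  have hxK : IsIntegral Q.ResidueField x := Algebra.IsIntegral.isIntegral x
  letI algLk : Algebra (Localization.AtPrime Q) k' :=
    ((algebraMap Q.ResidueField k').comp
      (algebraMap (Localization.AtPrime Q) Q.ResidueField)).toAlgebra
  haveI tow1 : IsScalarTower (Localization.AtPrime Q) Q.ResidueField k' :=
    IsScalarTower.of_algebraMap_eq' rfl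
  haveI tow2 : IsScalarTower A (Localization.AtPrime Q) k' :=
    IsScalarTower.of_algebraMap_eq' (by
      rw [IsScalarTower.algebraMap_eq A Q.ResidueField k',
        IsScalarTower.algebraMap_eq A (Localization.AtPrime Q) Q.ResidueField]
      rfl)
  haveI : Algebra.IsIntegral (Localization.AtPrime Q) Q.ResidueField :=
    Algebra.isIntegral_of_surjective IsLocalRing.residue_surjective
  have hx1 : IsIntegral (Localization.AtPrime Q) x := isIntegral_trans x hxK
  obtain ⟨m, hm⟩ := IsIntegral.exists_multiple_integral_of_isLocalization Q.primeCompl x hx1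
  obtain ⟨m', hm'⟩ := IsIntegral.exists_multiple_integral_of_isLocalization p.primeCompl (m • x) hm
  refine ⟨algebraMap R A m' * (m : A), ?_, ?_⟩
  · rw [map_mul]
    refine mul_ne_zero ?_ ?_
    · exact ((IsLocalization.map_units A m').map (algebraMap A k')).ne_zero
    · rw [IsScalarTower.algebraMap_apply A Q.ResidueField k']
      refine (map_ne_zero _).mpr ?_
      rw [Ne, Ideal.algebraMap_residueField_eq_zero]
      exact m.2
  · have h3 : algebraMap A k' (algebraMap R A m' * (m : A)) * x = m' • (m • x) := by
      rw [Submonoid.smul_def, Submonoid.smul_def, Algebra.smul_def, Algebra.smul_def, map_mul,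
        ← IsScalarTower.algebraMap_apply R A k', mul_assoc]
    rw [h3]
    exact hm'

/-- **Realizing a finite residue extension by a finite free algebra.** -/
theorem exists_finite_free_fractions (R : Type u) [CommRing R] (p : Ideal R) [p.IsPrime]
    (A : Type u) [CommRing A] [Algebra R A] [IsLocalization.AtPrime A p]
    (Q : Ideal A) [Q.IsPrime]
    (k' : Type u) [Field k'] [Algebra Q.ResidueField k'] [Module.Finite Q.ResidueField k']
    [Algebra A k'] [IsScalarTower A Q.ResidueField k'] [Algebra R k'] [IsScalarTower R A k'] :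
    ∃ (S : Type u) (_ : CommRing S) (_ : Algebra R S) (_ : Module.Finite R S) (_ : Module.Free R S)
      (φ : S →ₐ[R] k'), ∀ x : k', ∃ a b : S, φ b ≠ 0 ∧ x * φ b = φ a := by
  classical
  let b := Module.finBasis Q.ResidueField k'
  choose c hc0 hcint using fun i => exists_integral_multiple R p A Q k' (b i)
  obtain ⟨S, i1, i2, i3, i4, φ, hφ⟩ := exists_finite_free_list R k'
    (List.ofFn fun i => algebraMap A k' (c i) * b i) (by
      intro z hz
      obtain ⟨i, rfl⟩ := (List.mem_ofFn' _ _).mp hz
      exact hcint i)
  letI := i1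
  letI := i2
  refine ⟨S, i1, i2, i3, i4, φ, ?_⟩
  have hR : ∀ r : R, algebraMap R k' r ∈ Subfield.closure (Set.range φ) := fun r =>
    Subfield.subset_closure ⟨algebraMap R S r, φ.commutes r⟩
  have hA : ∀ a : A, algebraMap A k' a ∈ Subfield.closure (Set.range φ) := by
    intro a
    obtain ⟨r, s, rfl⟩ := IsLocalization.exists_mk'_eq p.primeCompl a
    have h1 : algebraMap A k' (IsLocalization.mk' A r s) * algebraMap R k' (s : R) =
        algebraMap R k' r := by
      rw [IsScalarTower.algebraMap_apply R A k' (s : R), ← map_mul, IsLocalization.mk'_spec,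
        ← IsScalarTower.algebraMap_apply]
    have hs0 : algebraMap R k' (s : R) ≠ 0 := by
      rw [IsScalarTower.algebraMap_apply R A k']
      exact ((IsLocalization.map_units A s).map (algebraMap A k')).ne_zero
    rw [eq_div_of_mul_eq hs0 h1]
    exact (Subfield.closure (Set.range φ)).div_mem (hR r) (hR s)
  have hK : ∀ t : Q.ResidueField, algebraMap Q.ResidueField k' t ∈
      Subfield.closure (Set.range φ) := by
    intro t
    obtain ⟨y, rfl⟩ := IsLocalRing.residue_surjective t
    obtain ⟨a, s, rfl⟩ := IsLocalization.exists_mk'_eq Q.primeCompl y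
    have h1 : IsLocalRing.residue (Localization.AtPrime Q)
        (IsLocalization.mk' (Localization.AtPrime Q) a s) * algebraMap A Q.ResidueField (s : A) =
        algebraMap A Q.ResidueField a := by
      rw [IsScalarTower.algebraMap_apply A (Localization.AtPrime Q) Q.ResidueField,
        IsScalarTower.algebraMap_apply A (Localization.AtPrime Q) Q.ResidueField,
        IsLocalRing.ResidueField.algebraMap_eq, ← map_mul, IsLocalization.mk'_spec]
    have hs0 : algebraMap A Q.ResidueField (s : A) ≠ 0 := by
      rw [Ne, Ideal.algebraMap_residueField_eq_zero]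
      exact s.2
    have h2 : algebraMap Q.ResidueField k' (IsLocalRing.residue (Localization.AtPrime Q)
        (IsLocalization.mk' (Localization.AtPrime Q) a s)) * algebraMap A k' (s : A) =
        algebraMap A k' a := by
      rw [IsScalarTower.algebraMap_apply A Q.ResidueField k',
        IsScalarTower.algebraMap_apply A Q.ResidueField k', ← map_mul, h1]
    have hs0' : algebraMap A k' (s : A) ≠ 0 := by
      rw [IsScalarTower.algebraMap_apply A Q.ResidueField k']
      exact (map_ne_zero _).mpr hs0
    rw [eq_div_of_mul_eq hs0' h2]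
    exact (Subfield.closure (Set.range φ)).div_mem (hA a) (hA s)
  have hb : ∀ i, b i ∈ Subfield.closure (Set.range φ) := by
    intro i
    have hz : algebraMap A k' (c i) * b i ∈ Subfield.closure (Set.range φ) :=
      Subfield.subset_closure (hφ _ ((List.mem_ofFn' _ _).mpr ⟨i, rfl⟩))
    have h1 : b i = (algebraMap A k' (c i) * b i) / algebraMap A k' (c i) :=
      eq_div_of_mul_eq (hc0 i) (mul_comm _ _)
    rw [h1]
    exact (Subfield.closure (Set.range φ)).div_mem hz (hA _)
  have hall : ∀ x : k', x ∈ Subfield.closure (Set.range φ) := by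
    intro x
    rw [← b.sum_repr x]
    refine (Subfield.closure (Set.range φ)).sum_mem fun i _ => ?_
    rw [Algebra.smul_def]
    exact (Subfield.closure (Set.range φ)).mul_mem (hK _) (hb i)
  intro x
  obtain ⟨y, hy, z, hz, hyz⟩ := Subfield.mem_closure_iff.mp (hall x)
  have hle : Subring.closure (Set.range φ) ≤ (φ : S →+* k').range := by
    refine Subring.closure_le.mpr ?_
    rintro _ ⟨s, rfl⟩
    exact ⟨s, rfl⟩
  obtain ⟨a, rfl⟩ := hle hy
  obtain ⟨d, rfl⟩ := hle hz
  by_cases hd0 : φ d = 0
  · refine ⟨0, 1, by rw [map_one]; exact one_ne_zero, ?_⟩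
    have hd0' : (φ : S →+* k') d = 0 := hd0
    rw [← hyz, hd0', div_zero, zero_mul, map_zero]
  · refine ⟨a, d, hd0, ?_⟩
    rw [← hyz]
    exact div_mul_cancel₀ _ hd0

end Frac

/-- `κ(P) ≃ k'` when `P` is the kernel of `C → k'` and `k'` consists of fractions of the image. -/
theorem nonempty_residueField_algEquiv (C k' : Type u) [CommRing C] [Field k'] [Algebra C k']
    (P : Ideal C) [P.IsPrime] (hP : P = RingHom.ker (algebraMap C k'))
    (hfrac : ∀ x : k', ∃ a b : C, algebraMap C k' b ≠ 0 ∧
      x * algebraMap C k' b = algebraMap C k' a) :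
    Nonempty (P.ResidueField ≃ₐ[C] k') := by
  have hf₁ : P ≤ RingHom.ker (Algebra.ofId C k') := by
    intro x hx
    rw [hP] at hx
    exact hx
  have hf₂ : P.primeCompl ≤ (IsUnit.submonoid k').comap (Algebra.ofId C k') := by
    intro x hx
    show IsUnit (algebraMap C k' x)
    refine IsUnit.mk0 _ fun h0 => hx ?_
    rw [hP]
    exact RingHom.mem_ker.mpr h0
  let f : P.ResidueField →ₐ[C] k' := Ideal.ResidueField.liftₐ P (Algebra.ofId C k') hf₁ hf₂
  have hinj : Function.Injective f := f.toRingHom.injective
  have hsurj : Function.Surjective f := by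
    intro x
    obtain ⟨a, b, hb, hx⟩ := hfrac x
    refine ⟨algebraMap C P.ResidueField a / algebraMap C P.ResidueField b, ?_⟩
    rw [map_div₀]
    have h1 : f (algebraMap C P.ResidueField a) = algebraMap C k' a :=
      Ideal.ResidueField.liftₐ_algebraMap P _ hf₁ hf₂ a
    have h2 : f (algebraMap C P.ResidueField b) = algebraMap C k' b :=
      Ideal.ResidueField.liftₐ_algebraMap P _ hf₁ hf₂ b
    rw [h1, h2, div_eq_iff hb]
    exact hx.symm
  exact ⟨AlgEquiv.ofBijective f ⟨hinj, hsurj⟩⟩

/-- `X_𝔓` is regular as soon as some localization `M⁻¹X` with `M ∩ 𝔓 = ∅` is a regular ring. -/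
theorem regularLocal_of_isLocalization (X W : Type u) [CommRing X] [CommRing W] [Algebra X W]
    (M : Submonoid X) [IsLocalization M W] [IsRegularRing W] (𝔓 : Ideal X) [h𝔓 : 𝔓.IsPrime]
    (hM : M ≤ 𝔓.primeCompl) : IsRegularLocalRing (Localization.AtPrime 𝔓) := by
  have hdisj : Disjoint (M : Set X) (𝔓 : Set X) :=
    Set.disjoint_left.mpr fun x hx hx' => hM hx hx'
  haveI hprime : (𝔓.map (algebraMap X W)).IsPrime :=
    IsLocalization.isPrime_of_isPrime_disjoint M W 𝔓 h𝔓 hdisj
  have hcomap : (𝔓.map (algebraMap X W)).comap (algebraMap X W) = 𝔓 :=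
    IsLocalization.under_map_of_isPrime_disjoint M W h𝔓 hdisj
  haveI hloc : IsLocalization.AtPrime (Localization.AtPrime (𝔓.map (algebraMap X W)))
      ((𝔓.map (algebraMap X W)).comap (algebraMap X W)) :=
    IsLocalization.isLocalization_isLocalization_atPrime_isLocalization M
      (Localization.AtPrime (𝔓.map (algebraMap X W))) (𝔓.map (algebraMap X W))
  have key : ∀ (I : Ideal X) [I.IsPrime], I = 𝔓 →
      IsLocalization.AtPrime (Localization.AtPrime (𝔓.map (algebraMap X W))) I →
      IsRegularLocalRing (Localization.AtPrime 𝔓) := by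
    intro I _ hI hlocI
    subst hI
    exact IsRegularLocalRing.of_ringEquiv
      (IsLocalization.algEquiv I.primeCompl (Localization.AtPrime (I.map (algebraMap X W)))
        (Localization.AtPrime I)).toRingEquiv
  exact key _ hcomap hloc

end Groth.Agent.H20.GRingFF
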