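import Mathlib
import Groth.Agent.H20.GRingFF

/-!
# G-rings and formal fibres of finite free algebras, II (helper20)

`regularLocal_of_formalFibres`: `R` Noetherian, `A = R_p`, `S` a finite `R`-algebra all of whose local rings
have regular formal fibres, `k'` a field which is the fraction field of the image of `S → k'`
(compatibly an `A`-algebra).  Then every local ring of `k' ⊗[A] Â` is regular.
-/

set_option autoImplicit false
set_option linter.style.haveILetI false
set_option linter.unusedSectionVars false
set_option linter.unusedVariables false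

universe u
open IsLocalRing TensorProduct

namespace Groth.Agent.H20.GRingFF

/-- abstract last step: `T ≃ k' ⊗[C] Y`, and `k' ⊗[C] Y_{n'}` regular; then `T_𝔓` is regular for every prime
`𝔓` whose contraction to `Y` lies in `n'`. -/
theorem regularLocal_of_tensor_localization (C Y k' T : Type u) [CommRing C] [CommRing Y]
    [Algebra C Y] [CommRing k'] [Algebra C k'] [CommRing T]
    (n' : Ideal Y) [n'.IsPrime] (hreg : IsRegularRing (k' ⊗[C] Localization.AtPrime n'))
    (eX : k' ⊗[C] Y ≃+* T) (𝔓 : Ideal T) [𝔓.IsPrime]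
    (h : ∀ y : Y, eX ((1 : k') ⊗ₜ[C] y) ∈ 𝔓 → y ∈ n') :
    IsRegularLocalRing (Localization.AtPrime 𝔓) := by
  haveI := hreg
  let fXW : k' ⊗[C] Y →ₐ[k'] k' ⊗[C] Localization.AtPrime n' :=
    Algebra.TensorProduct.map (AlgHom.id k' k')
      (IsScalarTower.toAlgHom C Y (Localization.AtPrime n'))
  letI algXW : Algebra (k' ⊗[C] Y) (k' ⊗[C] Localization.AtPrime n') := fXW.toRingHom.toAlgebra
  haveI towkXW : IsScalarTower k' (k' ⊗[C] Y) (k' ⊗[C] Localization.AtPrime n') :=
    IsScalarTower.of_algebraMap_eq' fXW.comp_algebraMap.symm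
  haveI locXW : IsLocalization
      (n'.primeCompl.map (Algebra.TensorProduct.includeRight (R := C) (A := k')))
      (k' ⊗[C] Localization.AtPrime n') :=
    IsLocalization.tensorProduct_tensorProduct_right C k' n'.primeCompl (Localization.AtPrime n')
      (RingHom.ext fun x => by
        show fXW ((1 : k') ⊗ₜ[C] x) =
          (1 : k') ⊗ₜ[C] algebraMap Y (Localization.AtPrime n') x
        simp [fXW])
  haveI h𝔓X : (𝔓.comap eX.symm.symm.toRingHom).IsPrime := Ideal.comap_isPrime _ _
  have hMX : n'.primeCompl.map (Algebra.TensorProduct.includeRight (R := C) (A := k')) ≤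
      (𝔓.comap eX.symm.symm.toRingHom).primeCompl := by
    rintro _ ⟨y, hy, rfl⟩
    exact Ideal.mem_primeCompl_iff.mpr fun hmem => hy (h y hmem)
  have hregX : IsRegularLocalRing (Localization.AtPrime (𝔓.comap eX.symm.symm.toRingHom)) :=
    regularLocal_of_isLocalization (k' ⊗[C] Y) (k' ⊗[C] Localization.AtPrime n')
      (n'.primeCompl.map (Algebra.TensorProduct.includeRight (R := C) (A := k'))) _ hMX
  exact Groth.Agent.H20.GenFF.regular_localization_of_ringEquiv T (k' ⊗[C] Y) eX.symm 𝔓
    (𝔓.comap eX.symm.symm.toRingHom) rfl hregX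

set_option maxHeartbeats 4000000 in
theorem regularLocal_of_formalFibres
    (R : Type u) [CommRing R] [IsNoetherianRing R] (p : Ideal R) [p.IsPrime]
    (A : Type u) [CommRing A] [IsLocalRing A] [Algebra R A] [IsLocalization.AtPrime A p]
    (S : Type u) [CommRing S] [Algebra R S] [Module.Finite R S]
    (k' : Type u) [Field k'] [Algebra R k'] [Algebra A k'] [IsScalarTower R A k']
    [Algebra S k'] [IsScalarTower R S k']
    (hfrac : ∀ x : k', ∃ a b : S, algebraMap S k' b ≠ 0 ∧
      x * algebraMap S k' b = algebraMap S k' a)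
    (H : ∀ (q : Ideal S) [q.IsPrime] (P : Ideal (Localization.AtPrime q)) [P.IsPrime],
        IsRegularRing (EGA4.formalFibre (Localization.AtPrime q) P))
    (𝔓 : Ideal (k' ⊗[A] (EGA4.Cpl A))) [h𝔓 : 𝔓.IsPrime] :
    IsRegularLocalRing (Localization.AtPrime 𝔓) := by
  haveI noethA : IsNoetherianRing A := IsLocalization.isNoetherianRing p.primeCompl A inferInstance
  haveI noethAh : IsNoetherianRing (EGA4.Cpl A) :=
    Groth.Agent.Lead.isNoetherianRing_adicCompletion (maximalIdeal A)
      (maximalIdeal A).fg_of_isNoetherianRing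
  -- the semilocal ring `S_p`
  letI algAS : Algebra A (Localization (Algebra.algebraMapSubmonoid S p.primeCompl)) := localizationAlgebra p.primeCompl S
  haveI towRAS : IsScalarTower R A (Localization (Algebra.algebraMapSubmonoid S p.primeCompl)) := isScalarTower_localizationAlgebra _ _
  haveI finAS : Module.Finite A (Localization (Algebra.algebraMapSubmonoid S p.primeCompl)) := Module.Finite.of_isLocalization R S p.primeCompl
  have hunits : ∀ y : Algebra.algebraMapSubmonoid S p.primeCompl, IsUnit (algebraMap S k' y) := by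
    rintro ⟨_, a, ha, rfl⟩
    show IsUnit (algebraMap S k' (algebraMap R S a))
    rw [← IsScalarTower.algebraMap_apply R S k', IsScalarTower.algebraMap_apply R A k']
    exact (IsLocalization.map_units A (⟨a, ha⟩ : p.primeCompl)).map (algebraMap A k')
  letI algSpk : Algebra (Localization (Algebra.algebraMapSubmonoid S p.primeCompl)) k' :=
    (IsLocalization.lift (M := Algebra.algebraMapSubmonoid S p.primeCompl) (S := (Localization (Algebra.algebraMapSubmonoid S p.primeCompl)))
      (g := algebraMap S k') hunits).toAlgebra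
  haveI towSSpk : IsScalarTower S (Localization (Algebra.algebraMapSubmonoid S p.primeCompl)) k' :=
    IsScalarTower.of_algebraMap_eq (fun s => (IsLocalization.lift_eq hunits s).symm)
  haveI towASpk : IsScalarTower A (Localization (Algebra.algebraMapSubmonoid S p.primeCompl)) k' := IsScalarTower.of_algebraMap_eq' (by
    apply IsLocalization.ringHom_ext p.primeCompl
    ext r
    simp only [RingHom.comp_apply]
    rw [← IsScalarTower.algebraMap_apply R A k', ← IsScalarTower.algebraMap_apply R A (Localization (Algebra.algebraMapSubmonoid S p.primeCompl)),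
      IsScalarTower.algebraMap_apply R S (Localization (Algebra.algebraMapSubmonoid S p.primeCompl)), ← IsScalarTower.algebraMap_apply S (Localization (Algebra.algebraMapSubmonoid S p.primeCompl)) k',
      ← IsScalarTower.algebraMap_apply R S k'])
  -- the finite `Â`-algebra `D' = S_p ⊗ Â` and the map to `k' ⊗ Â`
  let ψ : (Localization (Algebra.algebraMapSubmonoid S p.primeCompl)) ⊗[A] (EGA4.Cpl A) →ₐ[A] k' ⊗[A] (EGA4.Cpl A) :=
    Algebra.TensorProduct.map (IsScalarTower.toAlgHom A (Localization (Algebra.algebraMapSubmonoid S p.primeCompl)) k') (AlgHom.id A (EGA4.Cpl A))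
  letI algRhD : Algebra (EGA4.Cpl A) ((Localization (Algebra.algebraMapSubmonoid S p.primeCompl)) ⊗[A] (EGA4.Cpl A)) := Algebra.TensorProduct.rightAlgebra
  haveI finD : Module.Finite (EGA4.Cpl A) ((Localization (Algebra.algebraMapSubmonoid S p.primeCompl)) ⊗[A] (EGA4.Cpl A)) := Groth.Agent.H20.GenFF.finite_right A (Localization (Algebra.algebraMapSubmonoid S p.primeCompl)) (EGA4.Cpl A)
  have h𝔔ne : 𝔓.comap ψ.toRingHom ≠ ⊤ := Ideal.comap_ne_top _ h𝔓.ne_top
  obtain ⟨n, hnmax, hn𝔔⟩ := Ideal.exists_le_maximal _ h𝔔ne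
  haveI := hnmax
  haveI intD : Algebra.IsIntegral (EGA4.Cpl A) ((Localization (Algebra.algebraMapSubmonoid S p.primeCompl)) ⊗[A] (EGA4.Cpl A)) := Algebra.IsIntegral.of_finite (EGA4.Cpl A) _
  haveI hmaxc : (n.comap (algebraMap (EGA4.Cpl A) ((Localization (Algebra.algebraMapSubmonoid S p.primeCompl)) ⊗[A] (EGA4.Cpl A)))).IsMaximal :=
    Ideal.isMaximal_comap_of_isIntegral_of_isMaximal (R := (EGA4.Cpl A)) n
  have hnc : n.comap (algebraMap (EGA4.Cpl A) ((Localization (Algebra.algebraMapSubmonoid S p.primeCompl)) ⊗[A] (EGA4.Cpl A))) = maximalIdeal (EGA4.Cpl A) :=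
    IsLocalRing.eq_maximalIdeal hmaxc
  have hmA : ∀ a ∈ maximalIdeal A, algebraMap A ((Localization (Algebra.algebraMapSubmonoid S p.primeCompl)) ⊗[A] (EGA4.Cpl A)) a ∈ n := by
    intro a ha
    have h1 : algebraMap A (EGA4.Cpl A) a ∈ maximalIdeal (EGA4.Cpl A) := by
      rw [AdicCompletion.maximalIdeal_eq_map]
      exact Ideal.mem_map_of_mem _ ha
    have h2 : algebraMap A (EGA4.Cpl A) a ∈ n.comap (algebraMap (EGA4.Cpl A) ((Localization (Algebra.algebraMapSubmonoid S p.primeCompl)) ⊗[A] (EGA4.Cpl A))) := by
      rw [hnc]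
      exact h1
    have h3 : algebraMap (EGA4.Cpl A) ((Localization (Algebra.algebraMapSubmonoid S p.primeCompl)) ⊗[A] (EGA4.Cpl A)) (algebraMap A (EGA4.Cpl A) a) =
        algebraMap A ((Localization (Algebra.algebraMapSubmonoid S p.primeCompl)) ⊗[A] (EGA4.Cpl A)) a :=
      (Algebra.TensorProduct.includeRight : (EGA4.Cpl A) →ₐ[A] (Localization (Algebra.algebraMapSubmonoid S p.primeCompl)) ⊗[A] (EGA4.Cpl A)).commutes a
    rw [← h3]
    exact h2
  -- the prime `q` of `S`
  obtain ⟨ι, hι⟩ : ∃ ι : S →+* (Localization (Algebra.algebraMapSubmonoid S p.primeCompl)) ⊗[A] (EGA4.Cpl A),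
      ι = (algebraMap (Localization (Algebra.algebraMapSubmonoid S p.primeCompl)) ((Localization (Algebra.algebraMapSubmonoid S p.primeCompl)) ⊗[A] (EGA4.Cpl A))).comp (algebraMap S (Localization (Algebra.algebraMapSubmonoid S p.primeCompl))) := ⟨_, rfl⟩
  have hιapp : ∀ s : S, ι s = algebraMap (Localization (Algebra.algebraMapSubmonoid S p.primeCompl)) ((Localization (Algebra.algebraMapSubmonoid S p.primeCompl)) ⊗[A] (EGA4.Cpl A)) (algebraMap S (Localization (Algebra.algebraMapSubmonoid S p.primeCompl)) s) := by
    intro s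
    rw [hι]
    rfl
  obtain ⟨q, hq⟩ : ∃ q : Ideal S, q = n.comap ι := ⟨_, rfl⟩
  have hqmem : ∀ s : S, s ∈ q ↔ ι s ∈ n := by
    intro s
    rw [hq]
    rfl
  haveI hqprime : q.IsPrime := by
    rw [hq]
    exact Ideal.comap_isPrime ι n
  have hιR : ∀ r : R, ι (algebraMap R S r) = algebraMap A ((Localization (Algebra.algebraMapSubmonoid S p.primeCompl)) ⊗[A] (EGA4.Cpl A)) (algebraMap R A r) := by
    intro r
    rw [hιapp, ← IsScalarTower.algebraMap_apply R S (Localization (Algebra.algebraMapSubmonoid S p.primeCompl)), IsScalarTower.algebraMap_apply R A (Localization (Algebra.algebraMapSubmonoid S p.primeCompl)),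
      ← IsScalarTower.algebraMap_apply A (Localization (Algebra.algebraMapSubmonoid S p.primeCompl)) ((Localization (Algebra.algebraMapSubmonoid S p.primeCompl)) ⊗[A] (EGA4.Cpl A))]
  have hqp : q.comap (algebraMap R S) = p := by
    ext r
    rw [Ideal.mem_comap, hqmem, hιR]
    constructor
    · intro hmem
      by_contra hrp
      have hu : IsUnit (algebraMap R A r) := IsLocalization.map_units A (⟨r, hrp⟩ : p.primeCompl)
      exact hnmax.ne_top (Ideal.eq_top_of_isUnit_mem _ hmem (hu.map _))
    · intro hrp
      exact hmA _ ((IsLocalization.AtPrime.to_map_mem_maximal_iff A p r).mpr hrp)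
  have hker_le : ∀ s : S, algebraMap S k' s = 0 → s ∈ q := by
    intro s hs
    rw [hqmem]
    refine hn𝔔 ?_
    show ψ (ι s) ∈ 𝔓
    rw [hιapp, Algebra.TensorProduct.algebraMap_apply]
    have h1 : ψ ((algebraMap (Localization (Algebra.algebraMapSubmonoid S p.primeCompl)) (Localization (Algebra.algebraMapSubmonoid S p.primeCompl)) (algebraMap S (Localization (Algebra.algebraMapSubmonoid S p.primeCompl)) s)) ⊗ₜ[A] (1 : (EGA4.Cpl A))) =
        (algebraMap (Localization (Algebra.algebraMapSubmonoid S p.primeCompl)) k' (algebraMap S (Localization (Algebra.algebraMapSubmonoid S p.primeCompl)) s)) ⊗ₜ[A] (1 : (EGA4.Cpl A)) := by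
      simp [ψ]
    rw [h1, ← IsScalarTower.algebraMap_apply S (Localization (Algebra.algebraMapSubmonoid S p.primeCompl)) k', hs, TensorProduct.zero_tmul]
    exact 𝔓.zero_mem
  -- the local ring `C = S_q`
  have hMle : Algebra.algebraMapSubmonoid S p.primeCompl ≤ q.primeCompl := by
    rintro _ ⟨a, ha, rfl⟩
    refine Ideal.mem_primeCompl_iff.mpr fun hmem => ?_
    have h2 : a ∈ p := by rw [← hqp]; exact hmem
    exact (Ideal.mem_primeCompl_iff.mp ha) h2
  letI algSC : Algebra (Localization (Algebra.algebraMapSubmonoid S p.primeCompl)) (Localization.AtPrime q) :=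
    IsLocalization.localizationAlgebraOfSubmonoidLe (Localization (Algebra.algebraMapSubmonoid S p.primeCompl)) (Localization.AtPrime q)
      (Algebra.algebraMapSubmonoid S p.primeCompl) q.primeCompl hMle
  haveI towSSC : IsScalarTower S (Localization (Algebra.algebraMapSubmonoid S p.primeCompl)) (Localization.AtPrime q) :=
    IsLocalization.localization_isScalarTower_of_submonoid_le (Localization (Algebra.algebraMapSubmonoid S p.primeCompl)) (Localization.AtPrime q)
      (Algebra.algebraMapSubmonoid S p.primeCompl) q.primeCompl hMle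
  haveI locSC : IsLocalization (q.primeCompl.map (algebraMap S (Localization (Algebra.algebraMapSubmonoid S p.primeCompl)))) (Localization.AtPrime q) :=
    IsLocalization.isLocalization_of_submonoid_le (Localization (Algebra.algebraMapSubmonoid S p.primeCompl)) (Localization.AtPrime q)
      (Algebra.algebraMapSubmonoid S p.primeCompl) q.primeCompl hMle
  letI algAC : Algebra A (Localization.AtPrime q) := ((algebraMap (Localization (Algebra.algebraMapSubmonoid S p.primeCompl)) (Localization.AtPrime q)).comp (algebraMap A (Localization (Algebra.algebraMapSubmonoid S p.primeCompl)))).toAlgebra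
  haveI towASC : IsScalarTower A (Localization (Algebra.algebraMapSubmonoid S p.primeCompl)) (Localization.AtPrime q) := IsScalarTower.of_algebraMap_eq' rfl
  haveI towRAC : IsScalarTower R A (Localization.AtPrime q) := IsScalarTower.of_algebraMap_eq (fun r => by
    show algebraMap R (Localization.AtPrime q) r = algebraMap (Localization (Algebra.algebraMapSubmonoid S p.primeCompl)) (Localization.AtPrime q) (algebraMap A (Localization (Algebra.algebraMapSubmonoid S p.primeCompl)) (algebraMap R A r))
    rw [← IsScalarTower.algebraMap_apply R A (Localization (Algebra.algebraMapSubmonoid S p.primeCompl)), IsScalarTower.algebraMap_apply R S (Localization (Algebra.algebraMapSubmonoid S p.primeCompl)),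
      ← IsScalarTower.algebraMap_apply S (Localization (Algebra.algebraMapSubmonoid S p.primeCompl)) (Localization.AtPrime q), ← IsScalarTower.algebraMap_apply R S (Localization.AtPrime q)])
  haveI locAC : IsLocalHom (algebraMap A (Localization.AtPrime q)) := by
    constructor
    intro x hx
    by_contra hnx
    have hxm : x ∈ maximalIdeal A := (IsLocalRing.mem_maximalIdeal x).mpr hnx
    rw [← IsLocalization.AtPrime.map_eq_maximalIdeal p A] at hxm
    have hle : p.map (algebraMap R A) ≤ (maximalIdeal (Localization.AtPrime q)).comap (algebraMap A (Localization.AtPrime q)) := by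
      rw [Ideal.map_le_iff_le_comap]
      intro a ha
      show algebraMap A (Localization.AtPrime q) (algebraMap R A a) ∈ maximalIdeal (Localization.AtPrime q)
      rw [← IsScalarTower.algebraMap_apply R A (Localization.AtPrime q), IsScalarTower.algebraMap_apply R S (Localization.AtPrime q),
        IsLocalization.AtPrime.to_map_mem_maximal_iff (Localization.AtPrime q) q]
      rw [← hqp] at ha
      exact ha
    exact (IsLocalRing.mem_maximalIdeal _).mp (hle hxm) hx
  -- `Y = C ⊗ Â` as a localization of `D'`
  let fDY : (Localization (Algebra.algebraMapSubmonoid S p.primeCompl)) ⊗[A] (EGA4.Cpl A) →ₐ[A] (Localization.AtPrime q) ⊗[A] (EGA4.Cpl A) :=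
    Algebra.TensorProduct.map (IsScalarTower.toAlgHom A (Localization (Algebra.algebraMapSubmonoid S p.primeCompl)) (Localization.AtPrime q)) (AlgHom.id A (EGA4.Cpl A))
  letI algDY : Algebra ((Localization (Algebra.algebraMapSubmonoid S p.primeCompl)) ⊗[A] (EGA4.Cpl A)) ((Localization.AtPrime q) ⊗[A] (EGA4.Cpl A)) := fDY.toRingHom.toAlgebra
  have hfDY : ∀ x, algebraMap ((Localization (Algebra.algebraMapSubmonoid S p.primeCompl)) ⊗[A] (EGA4.Cpl A)) ((Localization.AtPrime q) ⊗[A] (EGA4.Cpl A)) x = fDY x := fun _ => rfl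
  haveI towSDY : IsScalarTower (Localization (Algebra.algebraMapSubmonoid S p.primeCompl)) ((Localization (Algebra.algebraMapSubmonoid S p.primeCompl)) ⊗[A] (EGA4.Cpl A)) ((Localization.AtPrime q) ⊗[A] (EGA4.Cpl A)) :=
    IsScalarTower.of_algebraMap_eq' (R := (Localization (Algebra.algebraMapSubmonoid S p.primeCompl))) (S := (Localization (Algebra.algebraMapSubmonoid S p.primeCompl)) ⊗[A] (EGA4.Cpl A)) (A := (Localization.AtPrime q) ⊗[A] (EGA4.Cpl A))
      (RingHom.ext fun (s : (Localization (Algebra.algebraMapSubmonoid S p.primeCompl))) => by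
      show algebraMap (Localization (Algebra.algebraMapSubmonoid S p.primeCompl)) ((Localization.AtPrime q) ⊗[A] (EGA4.Cpl A)) s = fDY (algebraMap (Localization (Algebra.algebraMapSubmonoid S p.primeCompl)) ((Localization (Algebra.algebraMapSubmonoid S p.primeCompl)) ⊗[A] (EGA4.Cpl A)) s)
      rw [Algebra.TensorProduct.algebraMap_apply, Algebra.TensorProduct.algebraMap_apply]
      simp [fDY])
  haveI locDY : IsLocalization (Algebra.algebraMapSubmonoid ((Localization (Algebra.algebraMapSubmonoid S p.primeCompl)) ⊗[A] (EGA4.Cpl A))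
      (q.primeCompl.map (algebraMap S (Localization (Algebra.algebraMapSubmonoid S p.primeCompl))))) ((Localization.AtPrime q) ⊗[A] (EGA4.Cpl A)) :=
    IsLocalization.tensorProduct_tensorProduct A (EGA4.Cpl A) (q.primeCompl.map (algebraMap S (Localization (Algebra.algebraMapSubmonoid S p.primeCompl)))) (Localization.AtPrime q)
      (RingHom.ext fun x => by
        show fDY ((1 : (Localization (Algebra.algebraMapSubmonoid S p.primeCompl))) ⊗ₜ[A] x) = (1 : (Localization.AtPrime q)) ⊗ₜ[A] x
        simp [fDY])
  have hdisjn : Disjoint ((Algebra.algebraMapSubmonoid ((Localization (Algebra.algebraMapSubmonoid S p.primeCompl)) ⊗[A] (EGA4.Cpl A))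
      (q.primeCompl.map (algebraMap S (Localization (Algebra.algebraMapSubmonoid S p.primeCompl)))) : Submonoid ((Localization (Algebra.algebraMapSubmonoid S p.primeCompl)) ⊗[A] (EGA4.Cpl A))) : Set ((Localization (Algebra.algebraMapSubmonoid S p.primeCompl)) ⊗[A] (EGA4.Cpl A)))
      (n : Set ((Localization (Algebra.algebraMapSubmonoid S p.primeCompl)) ⊗[A] (EGA4.Cpl A))) := by
    rw [Set.disjoint_left]
    rintro _ ⟨_, ⟨s, hs, rfl⟩, rfl⟩ hmem
    refine hs ((hqmem s).mpr ?_)
    rw [hιapp]
    exact hmem
  obtain ⟨n', hn'⟩ : ∃ n' : Ideal ((Localization.AtPrime q) ⊗[A] (EGA4.Cpl A)),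
      n' = n.map (algebraMap ((Localization (Algebra.algebraMapSubmonoid S p.primeCompl)) ⊗[A] (EGA4.Cpl A)) ((Localization.AtPrime q) ⊗[A] (EGA4.Cpl A))) := ⟨_, rfl⟩
  haveI hn'prime : n'.IsPrime := by
    rw [hn']
    exact IsLocalization.isPrime_of_isPrime_disjoint _ _ n hnmax.isPrime hdisjn
  have hn'comap : n'.comap (algebraMap ((Localization (Algebra.algebraMapSubmonoid S p.primeCompl)) ⊗[A] (EGA4.Cpl A)) ((Localization.AtPrime q) ⊗[A] (EGA4.Cpl A))) = n := by
    rw [hn']
    exact IsLocalization.under_map_of_isPrime_disjoint _ _ hnmax.isPrime hdisjn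
  have h1 : n'.comap (algebraMap (Localization.AtPrime q) ((Localization.AtPrime q) ⊗[A] (EGA4.Cpl A))) = maximalIdeal (Localization.AtPrime q) := by
    refine (IsLocalRing.le_maximalIdeal (Ideal.comap_ne_top _ hn'prime.ne_top)).antisymm ?_
    rw [← IsLocalization.AtPrime.map_eq_maximalIdeal q (Localization.AtPrime q), Ideal.map_le_iff_le_comap]
    intro s hs
    show algebraMap (Localization.AtPrime q) ((Localization.AtPrime q) ⊗[A] (EGA4.Cpl A)) (algebraMap S (Localization.AtPrime q) s) ∈ n'
    have h2 : algebraMap (Localization.AtPrime q) ((Localization.AtPrime q) ⊗[A] (EGA4.Cpl A)) (algebraMap S (Localization.AtPrime q) s) =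
        algebraMap ((Localization (Algebra.algebraMapSubmonoid S p.primeCompl)) ⊗[A] (EGA4.Cpl A)) ((Localization.AtPrime q) ⊗[A] (EGA4.Cpl A)) (ι s) := by
      rw [hfDY, hιapp, Algebra.TensorProduct.algebraMap_apply,
        Algebra.TensorProduct.algebraMap_apply]
      simp only [fDY, Algebra.TensorProduct.map_tmul, map_one, Algebra.algebraMap_self,
        RingHom.id_apply, IsScalarTower.coe_toAlgHom']
      rw [← IsScalarTower.algebraMap_apply S (Localization (Algebra.algebraMapSubmonoid S p.primeCompl)) (Localization.AtPrime q)]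
    rw [h2, hn']
    exact Ideal.mem_map_of_mem _ ((hqmem s).mp hs)
  obtain ⟨hnoethY, hcompl⟩ := Groth.Agent.H20.GenFF.noeth_and_complete A (Localization (Algebra.algebraMapSubmonoid S p.primeCompl)) (Localization.AtPrime q)
    (q.primeCompl.map (algebraMap S (Localization (Algebra.algebraMapSubmonoid S p.primeCompl)))) n' h1
  haveI := hnoethY
  haveI := hcompl
  obtain ⟨e, he⟩ := Groth.Agent.H20.GenFF.exists_equiv_of_complete A (Localization.AtPrime q) n' h1
  -- `k'` as a `C`-algebra
  have hunitsC : ∀ y : q.primeCompl, IsUnit (algebraMap S k' y) := by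
    intro y
    exact IsUnit.mk0 _ fun h0 => y.2 (hker_le _ h0)
  letI algCk : Algebra (Localization.AtPrime q) k' :=
    (IsLocalization.lift (M := q.primeCompl) (S := (Localization.AtPrime q)) (g := algebraMap S k') hunitsC).toAlgebra
  haveI towSCk : IsScalarTower S (Localization.AtPrime q) k' :=
    IsScalarTower.of_algebraMap_eq (fun s => (IsLocalization.lift_eq hunitsC s).symm)
  haveI towSpCk : IsScalarTower (Localization (Algebra.algebraMapSubmonoid S p.primeCompl)) (Localization.AtPrime q) k' := IsScalarTower.of_algebraMap_eq' (by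
    apply IsLocalization.ringHom_ext (Algebra.algebraMapSubmonoid S p.primeCompl)
    ext s
    simp only [RingHom.comp_apply]
    rw [← IsScalarTower.algebraMap_apply S (Localization (Algebra.algebraMapSubmonoid S p.primeCompl)) k', ← IsScalarTower.algebraMap_apply S (Localization (Algebra.algebraMapSubmonoid S p.primeCompl)) (Localization.AtPrime q),
      ← IsScalarTower.algebraMap_apply S (Localization.AtPrime q) k'])
  haveI towACk : IsScalarTower A (Localization.AtPrime q) k' := IsScalarTower.of_algebraMap_eq (fun a => by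
    show algebraMap A k' a = algebraMap (Localization.AtPrime q) k' (algebraMap (Localization (Algebra.algebraMapSubmonoid S p.primeCompl)) (Localization.AtPrime q) (algebraMap A (Localization (Algebra.algebraMapSubmonoid S p.primeCompl)) a))
    rw [← IsScalarTower.algebraMap_apply (Localization (Algebra.algebraMapSubmonoid S p.primeCompl)) (Localization.AtPrime q) k', ← IsScalarTower.algebraMap_apply A (Localization (Algebra.algebraMapSubmonoid S p.primeCompl)) k'])
  haveI hPprime : (RingHom.ker (algebraMap (Localization.AtPrime q) k')).IsPrime := RingHom.ker_isPrime _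
  have hfracC : ∀ x : k', ∃ a b : (Localization.AtPrime q), algebraMap (Localization.AtPrime q) k' b ≠ 0 ∧
      x * algebraMap (Localization.AtPrime q) k' b = algebraMap (Localization.AtPrime q) k' a := by
    intro x
    obtain ⟨a, b, hb, hx⟩ := hfrac x
    refine ⟨algebraMap S (Localization.AtPrime q) a, algebraMap S (Localization.AtPrime q) b, ?_, ?_⟩
    · rw [← IsScalarTower.algebraMap_apply S (Localization.AtPrime q) k']
      exact hb
    · rw [← IsScalarTower.algebraMap_apply S (Localization.AtPrime q) k', ← IsScalarTower.algebraMap_apply S (Localization.AtPrime q) k']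
      exact hx
  obtain ⟨ε⟩ := nonempty_residueField_algEquiv (Localization.AtPrime q) k' (RingHom.ker (algebraMap (Localization.AtPrime q) k')) rfl hfracC
  haveI hreg0 : IsRegularRing ((RingHom.ker (algebraMap (Localization.AtPrime q) k')).ResidueField ⊗[(Localization.AtPrime q)] EGA4.Cpl (Localization.AtPrime q)) :=
    H q (RingHom.ker (algebraMap (Localization.AtPrime q) k'))
  let e' : EGA4.Cpl (Localization.AtPrime q) ≃ₐ[(Localization.AtPrime q)] Localization.AtPrime n' := AlgEquiv.ofRingEquiv (f := e) he
  haveI hregW : IsRegularRing (k' ⊗[(Localization.AtPrime q)] Localization.AtPrime n') :=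
    IsRegularRing.of_ringEquiv (Algebra.TensorProduct.congr ε e').toRingEquiv
  -- comparison with `k' ⊗[A] Â`
  let eX : k' ⊗[(Localization.AtPrime q)] ((Localization.AtPrime q) ⊗[A] (EGA4.Cpl A)) ≃ₐ[(Localization.AtPrime q)] k' ⊗[A] (EGA4.Cpl A) :=
    Algebra.TensorProduct.cancelBaseChange A (Localization.AtPrime q) (Localization.AtPrime q) k' (EGA4.Cpl A)
  let ψY : (Localization.AtPrime q) ⊗[A] (EGA4.Cpl A) →ₐ[A] k' ⊗[A] (EGA4.Cpl A) :=
    Algebra.TensorProduct.map (IsScalarTower.toAlgHom A (Localization.AtPrime q) k') (AlgHom.id A (EGA4.Cpl A))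
  have hψY : ∀ y : (Localization.AtPrime q) ⊗[A] (EGA4.Cpl A), eX ((1 : k') ⊗ₜ[(Localization.AtPrime q)] y) = ψY y := by
    intro y
    induction y using TensorProduct.induction_on with
    | zero => rw [TensorProduct.tmul_zero, map_zero, map_zero]
    | tmul c a =>
      show Algebra.TensorProduct.cancelBaseChange A (Localization.AtPrime q) (Localization.AtPrime q) k' (EGA4.Cpl A) ((1 : k') ⊗ₜ[(Localization.AtPrime q)] (c ⊗ₜ[A] a)) = _
      rw [Algebra.TensorProduct.cancelBaseChange_tmul]
      simp [ψY, Algebra.smul_def]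
    | add x y hx hy => rw [TensorProduct.tmul_add, map_add, map_add, hx, hy]
  have hψψ : ∀ d : (Localization (Algebra.algebraMapSubmonoid S p.primeCompl)) ⊗[A] (EGA4.Cpl A), ψY (fDY d) = ψ d := by
    have h2 : ψY.comp fDY = ψ := by
      apply Algebra.TensorProduct.ext'
      intro s a
      show (algebraMap (Localization.AtPrime q) k' (algebraMap (Localization (Algebra.algebraMapSubmonoid S p.primeCompl)) (Localization.AtPrime q) s)) ⊗ₜ[A] a = (algebraMap (Localization (Algebra.algebraMapSubmonoid S p.primeCompl)) k' s) ⊗ₜ[A] a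
      rw [← IsScalarTower.algebraMap_apply (Localization (Algebra.algebraMapSubmonoid S p.primeCompl)) (Localization.AtPrime q) k']
    intro d
    rw [← h2]
    rfl
  have hIY : 𝔓.comap ψY.toRingHom ≤ n' := by
    rw [← IsLocalization.map_under (Algebra.algebraMapSubmonoid ((Localization (Algebra.algebraMapSubmonoid S p.primeCompl)) ⊗[A] (EGA4.Cpl A))
      (q.primeCompl.map (algebraMap S (Localization (Algebra.algebraMapSubmonoid S p.primeCompl))))) ((Localization.AtPrime q) ⊗[A] (EGA4.Cpl A)) (𝔓.comap ψY.toRingHom), hn']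
    apply Ideal.map_mono
    intro d hd
    refine hn𝔔 ?_
    show ψ d ∈ 𝔓
    rw [← hψψ d]
    exact hd
  exact regularLocal_of_tensor_localization (Localization.AtPrime q) ((Localization.AtPrime q) ⊗[A] (EGA4.Cpl A)) k' (k' ⊗[A] (EGA4.Cpl A)) n' hregW
    eX.toRingEquiv 𝔓 (fun y hy => hIY (by
      show ψY y ∈ 𝔓
      rw [← hψY y]
      exact hy))

end Groth.Agent.H20.GRingFF
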