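import Mathlib
import Groth.Agent.H20.GRingLocal
import Groth.Agent.H20.GRingFF2
import Groth.Agent.H63.SmoothRegular2
import Groth.Agent.S9294
import Groth.Agent.Lead.GeomRegBC

/-!
# Regularity of a ring map is local on the target (helper20)

* `isRegularHom_self`, `isRegularHom_of_isLocalization`: identity / localization maps are regular.
* `isRegularHom_comp_localization`: `R' = M⁻¹R → Λ'` regular (`Λ'` Noetherian) ⇒ `R → Λ'` regular.
* `isRegularHom_atPrime'`: `R → Λ` regular, `Λ` Noetherian (no hypothesis on `R`) ⇒ `R_r → Λ_q` regular.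
* `isRegularHom_of_forall_maximal`: `R → Λ_n` regular for all maximal `n` ⇒ `R → Λ` regular.
-/

set_option autoImplicit false
set_option linter.style.haveILetI false
set_option linter.unusedSectionVars false
set_option linter.unusedVariables false

universe u
open IsLocalRing TensorProduct

namespace Groth.Agent.H20.RegHomLocal

theorem isRegularHom_self (R : Type u) [CommRing R] : CAlg.IsRegularHom R R := by
  haveI : Algebra.Smooth R R := {}
  exact Groth.Agent.H63.SmoothRegular.isRegularHom_of_smooth R R

theorem isRegularHom_of_isLocalization (R R' : Type u) [CommRing R] [CommRing R'] [Algebra R R']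
    (M : Submonoid R) [IsLocalization M R'] : CAlg.IsRegularHom R R' :=
  Groth.Agent.H20.GRingLocal.isRegularHom_target_localization R R R' M (isRegularHom_self R)

theorem isRegularHom_comp_localization (R R' Λ' : Type u) [CommRing R] [CommRing R'] [CommRing Λ']
    [Algebra R R'] [Algebra R' Λ'] [Algebra R Λ'] [IsScalarTower R R' Λ'] [IsNoetherianRing Λ']
    (M : Submonoid R) [IsLocalization M R'] (h : CAlg.IsRegularHom R' Λ') :
    CAlg.IsRegularHom R Λ' :=
  Groth.Agent.S9294.result R R' Λ' (isRegularHom_of_isLocalization R R' M) h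
    (fun p _ => Groth.Agent.H34.FibLoc.isNoetherianRing_fiber R Λ' p)

section AtPrime

variable (R Λ : Type u) [CommRing R] [CommRing Λ] [Algebra R Λ]
  (q : Ideal Λ) [q.IsPrime] (r : Ideal R) [r.IsPrime] (hr : q.comap (algebraMap R Λ) = r)
  (R' : Type u) [CommRing R'] [Algebra R R'] [IsLocalization.AtPrime R' r]
  [Algebra R' (Localization.AtPrime q)] [IsScalarTower R R' (Localization.AtPrime q)]

include hr in
/-- `R_r → Λ_q` is regular when `R → Λ` is (only `Λ` Noetherian). -/
theorem isRegularHom_atPrime' [IsNoetherianRing Λ] (h : CAlg.IsRegularHom R Λ) :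
    CAlg.IsRegularHom R' (Localization.AtPrime q) := by
  have h1 : CAlg.IsRegularHom R (Localization.AtPrime q) :=
    Groth.Agent.H20.GRingLocal.isRegularHom_target_localization R Λ (Localization.AtPrime q)
      q.primeCompl h
  haveI : IsNoetherianRing (Localization.AtPrime q) :=
    IsLocalization.isNoetherianRing q.primeCompl _ inferInstance
  haveI : IsLocalization (Algebra.algebraMapSubmonoid (Localization.AtPrime q) r.primeCompl)
      (Localization.AtPrime q) := by
    apply IsLocalization.of_le_isUnit
    rintro _ ⟨a, ha, rfl⟩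
    exact Groth.Agent.H20.GRingLocal.isUnit_algebraMap_of_notMem R Λ q r hr a ha
  exact Groth.Agent.H34.FibLoc.isRegularHom_localization R (Localization.AtPrime q) r.primeCompl R'
    (Localization.AtPrime q) h1

end AtPrime

/-- Regularity can be checked on the local rings of the (Noetherian) target at maximal ideals. -/
theorem isRegularHom_of_forall_maximal (R Λ : Type u) [CommRing R] [CommRing Λ] [Algebra R Λ]
    [IsNoetherianRing Λ]
    (h : ∀ (n : Ideal Λ) [n.IsMaximal], CAlg.IsRegularHom R (Localization.AtPrime n)) :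
    CAlg.IsRegularHom R Λ := by
  have hflat : Module.Flat R Λ := by
    apply Module.flat_of_isLocalized_maximal Λ Λ (fun n _ => Localization.AtPrime n)
      (fun n _ => Algebra.linearMap Λ (Localization.AtPrime n))
    intro n hn
    exact (h n).1
  refine ⟨hflat, fun P hP => ?_⟩
  haveI hN : IsNoetherianRing (P.Fiber Λ) := Groth.Agent.H34.FibLoc.isNoetherianRing_fiber R Λ P
  refine ⟨hN, fun k' _ _ hfin => ?_⟩
  haveI := hfin
  haveI hNT : IsNoetherianRing (k' ⊗[P.ResidueField] P.Fiber Λ) :=
    Groth.Agent.Lead.GeomRegBC.noeth_tensor P.ResidueField (P.Fiber Λ) k'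
  rw [isRegularRing_iff]
  intro 𝔓 h𝔓
  letI algRk : Algebra R k' :=
    ((algebraMap P.ResidueField k').comp (algebraMap R P.ResidueField)).toAlgebra
  haveI towRk : IsScalarTower R P.ResidueField k' := IsScalarTower.of_algebraMap_eq (fun _ => rfl)
  let eX : k' ⊗[R] Λ ≃+* k' ⊗[P.ResidueField] P.Fiber Λ :=
    (Algebra.TensorProduct.cancelBaseChange R P.ResidueField P.ResidueField k' Λ).symm.toRingEquiv
  have h𝔯 : 𝔓.comap ((eX : k' ⊗[R] Λ →+* k' ⊗[P.ResidueField] P.Fiber Λ).comp
      (Algebra.TensorProduct.includeRight : Λ →ₐ[R] k' ⊗[R] Λ).toRingHom) ≠ ⊤ :=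
    Ideal.comap_ne_top _ h𝔓.ne_top
  obtain ⟨n, hn, hrn⟩ := Ideal.exists_le_maximal _ h𝔯
  haveI := hn
  have hreg : IsRegularRing (k' ⊗[R] Localization.AtPrime n) := by
    haveI h2 : IsRegularRing (k' ⊗[P.ResidueField] P.Fiber (Localization.AtPrime n)) :=
      ((h n).2 P).2 k' hfin
    exact IsRegularRing.of_ringEquiv
      (Algebra.TensorProduct.cancelBaseChange R P.ResidueField P.ResidueField k'
        (Localization.AtPrime n)).toRingEquiv
  exact Groth.Agent.H20.GRingFF.regularLocal_of_tensor_localization R Λ k' _ n hreg eX 𝔓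
    (fun y hy => hrn hy)

end Groth.Agent.H20.RegHomLocal
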