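import Mathlib
import Groth.Agent.H20.RegHomLocal
import Groth.Agent.H34.DerivExt
import Groth.Agent.S9225
import Groth.Agent.Lead.GeomRegBC

/-!
# Polynomial rings over G-rings, I (helper20)

* `tensorMap`, `nonempty_quotient_equiv`: `M ⊗[C] N` as a quotient of `M ⊗[A] N`.
* `delta_mem`: if `C` is a localization of an `A`-algebra generated by one element `x`, the relations
  `c ⊗ 1 - 1 ⊗ c` all lie in the ideal generated by `x ⊗ 1 - 1 ⊗ x`.
* `regular_of_derivation`: the abstract key step (Stacks 07PV, derivation trick).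
-/

set_option autoImplicit false
set_option linter.style.haveILetI false
set_option linter.unusedSectionVars false
set_option linter.unusedVariables false

universe u
open IsLocalRing TensorProduct

namespace Groth.Agent.H20.PolyGRing

section TQ

variable (A C M N : Type u) [CommRing A] [CommRing C] [CommRing M] [CommRing N]
  [Algebra A C] [Algebra A M] [Algebra A N] [Algebra C M] [Algebra C N]
  [IsScalarTower A C M] [IsScalarTower A C N]

/-- the canonical map `M ⊗[A] N → M ⊗[C] N`. -/
noncomputable def tensorMap : M ⊗[A] N →ₐ[A] M ⊗[C] N :=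
  Algebra.TensorProduct.lift
    ((Algebra.TensorProduct.includeLeft : M →ₐ[C] M ⊗[C] N).restrictScalars A)
    ((Algebra.TensorProduct.includeRight : N →ₐ[C] M ⊗[C] N).restrictScalars A)
    (fun _ _ => Commute.all _ _)

theorem tensorMap_tmul (m : M) (n : N) : tensorMap A C M N (m ⊗ₜ[A] n) = m ⊗ₜ[C] n := by
  simp [tensorMap]

/-- the relation element attached to `c : C`. -/
noncomputable def delta (c : C) : M ⊗[A] N :=
  algebraMap C M c ⊗ₜ[A] (1 : N) - (1 : M) ⊗ₜ[A] algebraMap C N c

theorem tensorMap_delta (c : C) : tensorMap A C M N (delta A C M N c) = 0 := by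
  rw [delta, map_sub, tensorMap_tmul, tensorMap_tmul, Algebra.algebraMap_eq_smul_one,
    Algebra.algebraMap_eq_smul_one, TensorProduct.smul_tmul, sub_self]

theorem delta_add (c d : C) : delta A C M N (c + d) = delta A C M N c + delta A C M N d := by
  simp only [delta, map_add, TensorProduct.add_tmul, TensorProduct.tmul_add]
  abel

theorem delta_mul (c d : C) : delta A C M N (c * d) =
    (algebraMap C M c ⊗ₜ[A] (1 : N)) * delta A C M N d +
      delta A C M N c * ((1 : M) ⊗ₜ[A] algebraMap C N d) := by
  simp only [delta, map_mul, mul_sub, sub_mul, Algebra.TensorProduct.tmul_mul_tmul, mul_one,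
    one_mul]
  abel

theorem delta_algebraMap (a : A) : delta A C M N (algebraMap A C a) = 0 := by
  rw [delta, ← IsScalarTower.algebraMap_apply A C M, ← IsScalarTower.algebraMap_apply A C N,
    Algebra.algebraMap_eq_smul_one, Algebra.algebraMap_eq_smul_one (A := N),
    TensorProduct.smul_tmul, sub_self]

/-- `(M ⊗[A] N) ⧸ I ≃ M ⊗[C] N` when `I` is generated by the relations. -/
theorem nonempty_quotient_equiv (I : Ideal (M ⊗[A] N))
    (hI : ∀ c : C, delta A C M N c ∈ I)
    (hI' : ∀ x ∈ I, tensorMap A C M N x = 0) :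
    Nonempty ((M ⊗[A] N) ⧸ I ≃+* M ⊗[C] N) := by
  let φ : (M ⊗[A] N) ⧸ I →+* M ⊗[C] N :=
    Ideal.Quotient.lift I (tensorMap A C M N).toRingHom hI'
  let ιN : N →+* (M ⊗[A] N) ⧸ I :=
    (Ideal.Quotient.mk I).comp (Algebra.TensorProduct.includeRight : N →ₐ[A] M ⊗[A] N).toRingHom
  let ιM : M →+* (M ⊗[A] N) ⧸ I :=
    (Ideal.Quotient.mk I).comp (Algebra.TensorProduct.includeLeft : M →ₐ[A] M ⊗[A] N).toRingHom
  have hM : ∀ c : C, ιM (algebraMap C M c) = ιN (algebraMap C N c) := by
    intro c
    exact Ideal.Quotient.eq.mpr (hI c)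
  let fM : M →ₐ[C] (M ⊗[A] N) ⧸ I := { ιM with commutes' := fun c => rfl }
  let fN : N →ₐ[C] (M ⊗[A] N) ⧸ I := { ιN with commutes' := fun c => (hM c).symm }
  let ψ : M ⊗[C] N →ₐ[C] (M ⊗[A] N) ⧸ I :=
    Algebra.TensorProduct.lift fM fN (fun _ _ => Commute.all _ _)
  have hψ : ∀ (m : M) (n : N), ψ (m ⊗ₜ[C] n) = Ideal.Quotient.mk I (m ⊗ₜ[A] n) := by
    intro m n
    show ψ (m ⊗ₜ[C] n) = _
    rw [Algebra.TensorProduct.lift_tmul]
    show Ideal.Quotient.mk I (m ⊗ₜ[A] (1 : N)) * Ideal.Quotient.mk I ((1 : M) ⊗ₜ[A] n) = _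
    rw [← map_mul, Algebra.TensorProduct.tmul_mul_tmul, mul_one, one_mul]
  have hφ : ∀ x : M ⊗[A] N, φ (Ideal.Quotient.mk I x) = tensorMap A C M N x := fun x => rfl
  have h1 : ∀ x : (M ⊗[A] N) ⧸ I, ψ (φ x) = x := by
    intro x
    obtain ⟨x, rfl⟩ := Ideal.Quotient.mk_surjective x
    rw [hφ]
    induction x using TensorProduct.induction_on with
    | zero => simp
    | tmul m n => rw [tensorMap_tmul, hψ]
    | add x y hx hy => rw [map_add, map_add, hx, hy, map_add]
  have h2 : ∀ y : M ⊗[C] N, φ (ψ y) = y := by
    intro y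
    induction y using TensorProduct.induction_on with
    | zero => simp
    | tmul m n => rw [hψ, hφ, tensorMap_tmul]
    | add x y hx hy => rw [map_add, map_add, hx, hy]
  exact ⟨{ toFun := φ, invFun := ψ, left_inv := h1, right_inv := h2,
           map_mul' := map_mul φ, map_add' := map_add φ }⟩

end TQ

section GEN

variable (A Pl C M N : Type u) [CommRing A] [CommRing Pl] [CommRing C] [CommRing M] [CommRing N]
  [Algebra A Pl] [Algebra Pl C] [Algebra A C] [IsScalarTower A Pl C]
  [Algebra A M] [Algebra A N] [Algebra C M] [Algebra C N]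
  [IsScalarTower A C M] [IsScalarTower A C N]
  (S : Submonoid Pl) [IsLocalization S C] (x : Pl) (hx : Algebra.adjoin A ({x} : Set Pl) = ⊤)

include S hx in
/-- If `C` is a localization of an `A`-algebra generated by `x`, all relations lie in the ideal generated by
the relation of `x`. -/
theorem delta_mem (c : C) :
    delta A C M N c ∈ Ideal.span ({delta A C M N (algebraMap Pl C x)} : Set (M ⊗[A] N)) := by
  obtain ⟨I, hIdef⟩ : ∃ I : Ideal (M ⊗[A] N),
      I = Ideal.span ({delta A C M N (algebraMap Pl C x)} : Set (M ⊗[A] N)) := ⟨_, rfl⟩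
  rw [← hIdef]
  have hpoly : ∀ f : Pl, delta A C M N (algebraMap Pl C f) ∈ I := by
    intro f
    have hf : f ∈ Algebra.adjoin A ({x} : Set Pl) := by rw [hx]; exact Algebra.mem_top
    induction hf using Algebra.adjoin_induction with
    | mem y hy =>
      rw [Set.mem_singleton_iff.mp hy, hIdef]
      exact Ideal.subset_span (Set.mem_singleton _)
    | algebraMap a =>
      rw [← IsScalarTower.algebraMap_apply A Pl C, delta_algebraMap]
      exact I.zero_mem
    | add y z _ _ hy hz =>
      rw [map_add, delta_add]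
      exact I.add_mem hy hz
    | mul y z _ _ hy hz =>
      rw [map_mul, delta_mul]
      exact I.add_mem (I.mul_mem_left _ hz) (I.mul_mem_right _ hy)
  obtain ⟨f, s, rfl⟩ := IsLocalization.exists_mk'_eq S c
  have h1 : delta A C M N (IsLocalization.mk' C f s * algebraMap Pl C s) ∈ I := by
    rw [IsLocalization.mk'_spec]
    exact hpoly f
  rw [delta_mul] at h1
  have h2 : delta A C M N (IsLocalization.mk' C f s) *
      ((1 : M) ⊗ₜ[A] algebraMap C N (algebraMap Pl C s)) ∈ I :=
    (Ideal.add_mem_iff_right I (I.mul_mem_left _ (hpoly s))).mp h1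
  have hu : IsUnit ((1 : M) ⊗ₜ[A] algebraMap C N (algebraMap Pl C s)) :=
    ((IsLocalization.map_units C s).map (algebraMap C N)).map
      (Algebra.TensorProduct.includeRight : N →ₐ[A] M ⊗[A] N)
  exact (Ideal.mul_unit_mem_iff_mem I hu).mp h2

end GEN

section KA

variable (A Pl C N : Type u) [CommRing A] [CommRing Pl] [CommRing C] [CommRing N]
  [Algebra A Pl] [Algebra Pl C] [Algebra A C] [IsScalarTower A Pl C]
  [Algebra A N] [Algebra C N] [IsScalarTower A C N]
  (S : Submonoid Pl) [IsLocalization S C] (x : Pl) (hx : Algebra.adjoin A ({x} : Set Pl) = ⊤)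
  [Algebra.EssFiniteType A C]

include S hx in
/-- **Key step** (derivation trick of Stacks 07PV): `A → N` regular, `C` a localization of `A[x]`,
`N` a `C`-algebra with an `A`-derivation `D` with `D x = 1`.  Then the geometric fibres of `C → N`
are regular. -/
theorem regular_of_derivation (hA : CAlg.IsRegularHom A N)
    (D : Derivation A N N) (hD : D (algebraMap C N (algebraMap Pl C x)) = 1)
    (𝔯 : Ideal C) [𝔯.IsPrime] (k' : Type u) [Field k'] [Algebra 𝔯.ResidueField k']
    [Module.Finite 𝔯.ResidueField k'] :
    IsRegularRing (k' ⊗[𝔯.ResidueField] 𝔯.Fiber N) := by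
  letI algCk : Algebra C k' :=
    ((algebraMap 𝔯.ResidueField k').comp (algebraMap C 𝔯.ResidueField)).toAlgebra
  haveI towCk : IsScalarTower C 𝔯.ResidueField k' := IsScalarTower.of_algebraMap_eq (fun _ => rfl)
  letI algAk : Algebra A k' := ((algebraMap C k').comp (algebraMap A C)).toAlgebra
  haveI towACk : IsScalarTower A C k' := IsScalarTower.of_algebraMap_eq (fun _ => rfl)
  obtain ⟨p, hp⟩ : ∃ p : Ideal A, p = 𝔯.comap (algebraMap A C) := ⟨_, rfl⟩
  haveI hpprime : p.IsPrime := by rw [hp]; exact Ideal.comap_isPrime _ _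
  have hAk : ∀ a : A, algebraMap A k' a =
      algebraMap 𝔯.ResidueField k' (algebraMap C 𝔯.ResidueField (algebraMap A C a)) := fun _ => rfl
  have h1 : p ≤ RingHom.ker (algebraMap A k') := by
    intro a ha
    rw [RingHom.mem_ker, hAk]
    have : algebraMap C 𝔯.ResidueField (algebraMap A C a) = 0 := by
      rw [Ideal.algebraMap_residueField_eq_zero]
      rw [hp] at ha
      exact ha
    rw [this, map_zero]
  have h2 : p.primeCompl ≤ (IsUnit.submonoid k').comap (algebraMap A k') := by
    intro a ha
    show IsUnit (algebraMap A k' a)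
    rw [isUnit_iff_ne_zero, hAk]
    intro h0
    have h3 : algebraMap C 𝔯.ResidueField (algebraMap A C a) = 0 :=
      (algebraMap 𝔯.ResidueField k').injective (by rw [h0, map_zero])
    rw [Ideal.algebraMap_residueField_eq_zero] at h3
    apply ha
    rw [hp]
    exact h3
  letI algκk : Algebra p.ResidueField k' :=
    (Ideal.ResidueField.lift p (algebraMap A k') h1 h2).toAlgebra
  haveI towAκk : IsScalarTower A p.ResidueField k' :=
    IsScalarTower.of_algebraMap_eq (fun a => by
      show algebraMap A k' a = Ideal.ResidueField.lift p (algebraMap A k') h1 h2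
        (algebraMap A p.ResidueField a)
      rw [Ideal.ResidueField.lift_algebraMap])
  haveI e1 : Algebra.EssFiniteType C k' := Algebra.EssFiniteType.comp C 𝔯.ResidueField k'
  haveI e2 : Algebra.EssFiniteType A k' := Algebra.EssFiniteType.comp A C k'
  haveI e3 : Algebra.EssFiniteType p.ResidueField k' :=
    Algebra.EssFiniteType.of_comp A p.ResidueField k'
  haveI hNf : IsNoetherianRing (p.Fiber N) := (hA.2 p).1
  haveI hW : IsRegularRing (k' ⊗[p.ResidueField] p.Fiber N) :=
    Groth.Agent.Lead.GeomRegBC.regular_tensor_of_geomRegular (hA.2 p).2 k'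
  haveI hW' : IsRegularRing (k' ⊗[A] N) :=
    IsRegularRing.of_ringEquiv
      (Algebra.TensorProduct.cancelBaseChange A p.ResidueField p.ResidueField k' N).toRingEquiv
  let L : k' ⊗[A] N →ₗ[A] k' ⊗[A] N := LinearMap.lTensor k' D.toLinearMap
  have hL : ∀ (a : k') (n : N), L (a ⊗ₜ[A] n) = a ⊗ₜ[A] D n := fun a n => rfl
  have hmul : ∀ y z : k' ⊗[A] N, L (y * z) = y * L z + z * L y := by
    intro y z
    induction y using TensorProduct.induction_on with
    | zero => simp
    | tmul a c =>
      induction z using TensorProduct.induction_on with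
      | zero => simp
      | tmul b d =>
        rw [Algebra.TensorProduct.tmul_mul_tmul, hL, hL, hL, D.leibniz, TensorProduct.tmul_add,
          Algebra.TensorProduct.tmul_mul_tmul, Algebra.TensorProduct.tmul_mul_tmul, smul_eq_mul,
          smul_eq_mul, mul_comm b a]
      | add z w hz hw => rw [mul_add, map_add, hz, hw, map_add]; ring
    | add y w hy hw => rw [add_mul, map_add, hy, hw, map_add]; ring
  have hLt : L (delta A C k' N (algebraMap Pl C x)) = -1 := by
    rw [delta, map_sub, hL, hL, D.map_one_eq_zero, hD, TensorProduct.tmul_zero, zero_sub,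
      Algebra.TensorProduct.one_def]
  haveI hreg : IsRegularRing ((k' ⊗[A] N) ⧸
      Ideal.span ({delta A C k' N (algebraMap Pl C x)} : Set (k' ⊗[A] N))) :=
    Groth.Agent.S9225.main_of_leibniz (k' ⊗[A] N) _ L (map_add L) hmul
      (by rw [hLt]; exact (isUnit_one.neg).map _)
  obtain ⟨e⟩ := nonempty_quotient_equiv A C k' N
    (Ideal.span ({delta A C k' N (algebraMap Pl C x)} : Set (k' ⊗[A] N)))
    (fun c => delta_mem A Pl C k' N S x hx c)
    (fun y hy => by
      obtain ⟨z, rfl⟩ := Ideal.mem_span_singleton'.mp hy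
      rw [map_mul, tensorMap_delta, mul_zero])
  haveI hT : IsRegularRing (k' ⊗[C] N) := IsRegularRing.of_ringEquiv e
  exact IsRegularRing.of_ringEquiv
    (Algebra.TensorProduct.cancelBaseChange C 𝔯.ResidueField 𝔯.ResidueField k' N).symm.toRingEquiv

end KA

section DerivLoc

/-- A `k`-derivation of `R` extends to any localization `S` of `R` (general base ring; adapted from
helper34's `H34.DerivExt.exists_derivation_localization`). -/
theorem exists_derivation_localization' {k R S : Type*} [CommRing k] [CommRing R] [CommRing S]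
    [Algebra k R] [Algebra R S] [Algebra k S] [IsScalarTower k R S]
    (M : Submonoid R) [IsLocalization M S] (D : Derivation k R R) :
    ∃ D' : Derivation k S S, ∀ r, D' (algebraMap R S r) = algebraMap R S (D r) := by
  let φ : R →+* TrivSqZeroExt S S :=
    { toFun := fun r =>
        TrivSqZeroExt.inl (algebraMap R S r) + TrivSqZeroExt.inr (algebraMap R S (D r))
      map_one' := by
        ext
        · simp
        · simp
      map_mul' := fun a b => by
        ext
        · simp
        · simp [Derivation.leibniz]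
          rw [Algebra.smul_def, Algebra.smul_def]
          ring
      map_zero' := by
        ext <;> simp
      map_add' := fun a b => by
        ext
        · simp
        · simp
          rw [Algebra.smul_def, Algebra.smul_def, mul_one, mul_one] }
  have hφfst : ∀ r, (φ r).fst = algebraMap R S r := fun r => by simp [φ]
  have hφsnd : ∀ r, (φ r).snd = algebraMap R S (D r) := fun r => by
    simp [φ]
    rw [Algebra.smul_def, mul_one]
  have hu : ∀ y : M, IsUnit (φ y) := by
    intro y
    rw [TrivSqZeroExt.isUnit_iff_isUnit_fst, hφfst]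
    exact IsLocalization.map_units S y
  let Φ : S →+* TrivSqZeroExt S S := IsLocalization.lift hu
  have hΦ : ∀ a, Φ (algebraMap R S a) = φ a := IsLocalization.lift_eq hu
  have hfst : ∀ z, (Φ z).fst = z := by
    have h : (TrivSqZeroExt.fstHom S S S).toRingHom.comp Φ = RingHom.id S := by
      apply IsLocalization.ringHom_ext M
      ext a
      simp [hΦ, hφfst]
    intro z
    have := congrArg (fun f => f z) h
    simpa using this
  have hleib : ∀ x y : S, (Φ (x * y)).snd = x • (Φ y).snd + y • (Φ x).snd := by
    intro x y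
    simp only [map_mul, TrivSqZeroExt.snd_mul, hfst]
    simp [mul_comm]
  let d : S →ₗ[k] S :=
    { toFun := fun z => (Φ z).snd
      map_add' := fun x y => by simp [map_add]
      map_smul' := fun a z => by
        have h1 : a • z = algebraMap R S (algebraMap k R a) * z := by
          rw [← IsScalarTower.algebraMap_apply k R S, Algebra.smul_def]
        have h2 : (Φ (algebraMap R S (algebraMap k R a))).snd = 0 := by
          rw [hΦ, hφsnd, D.map_algebraMap, map_zero]
        show (Φ (a • z)).snd = a • (Φ z).snd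
        rw [h1, hleib, h2, smul_zero, add_zero, smul_eq_mul,
          ← IsScalarTower.algebraMap_apply k R S, ← Algebra.smul_def] }
  refine ⟨Derivation.mk' d (fun x y => hleib x y), fun r => ?_⟩
  show (Φ (algebraMap R S r)).snd = _
  rw [hΦ, hφsnd]

end DerivLoc

section Concrete

open Polynomial

variable (A : Type u) [CommRing A] (P : Ideal A[X]) [P.IsPrime]

/-- the `A`-derivation `d/dX` on the completion of `A[X]_P`. -/
theorem exists_derivation_cpl :
    ∃ D : Derivation A (EGA4.Cpl (Localization.AtPrime P)) (EGA4.Cpl (Localization.AtPrime P)),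
      D (algebraMap (Localization.AtPrime P) (EGA4.Cpl (Localization.AtPrime P))
        (algebraMap A[X] (Localization.AtPrime P) X)) = 1 := by
  obtain ⟨D₁, hD₁⟩ := exists_derivation_localization' (k := A) (S := Localization.AtPrime P)
    P.primeCompl (Polynomial.derivative' (R := A))
  obtain ⟨D₂, hD₂⟩ := Groth.Agent.H34.DerivExt.exists_derivation_adicCompletion D₁
    (maximalIdeal (Localization.AtPrime P))
  refine ⟨D₂, ?_⟩
  rw [hD₂, hD₁]
  show algebraMap _ _ (algebraMap A[X] _ (derivative (X : A[X]))) = 1
  rw [derivative_X, map_one, map_one]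

/-- **Key lemma**: if `A → (A[X]_P)^` is regular then so is `A[X]_P → (A[X]_P)^`. -/
theorem isRegularHom_cpl_of_base [IsNoetherianRing A]
    (hA : CAlg.IsRegularHom A (EGA4.Cpl (Localization.AtPrime P))) :
    CAlg.IsRegularHom (Localization.AtPrime P) (EGA4.Cpl (Localization.AtPrime P)) := by
  haveI : IsNoetherianRing (Localization.AtPrime P) :=
    IsLocalization.isNoetherianRing P.primeCompl _ inferInstance
  haveI : IsNoetherianRing (EGA4.Cpl (Localization.AtPrime P)) :=
    Groth.Agent.Lead.isNoetherianRing_adicCompletion _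
      (maximalIdeal (Localization.AtPrime P)).fg_of_isNoetherianRing
  obtain ⟨D, hD⟩ := exists_derivation_cpl A P
  haveI : Algebra.EssFiniteType A[X] (Localization.AtPrime P) :=
    Algebra.EssFiniteType.of_isLocalization _ P.primeCompl
  haveI : Algebra.EssFiniteType A (Localization.AtPrime P) :=
    Algebra.EssFiniteType.comp A A[X] _
  refine ⟨AdicCompletion.flat_of_isNoetherian (maximalIdeal (Localization.AtPrime P)), fun 𝔯 _ =>
    ⟨Groth.Agent.H34.FibLoc.isNoetherianRing_fiber _ _ 𝔯, fun k' _ _ hfin => ?_⟩⟩
  haveI := hfin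
  exact regular_of_derivation A A[X] (Localization.AtPrime P)
    (EGA4.Cpl (Localization.AtPrime P)) P.primeCompl X Polynomial.adjoin_X hA D hD 𝔯 k'

end Concrete

end Groth.Agent.H20.PolyGRing
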