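import Mathlib
import Groth.Agent.H20.PolyGRing1
import Groth.Agent.H20.GRingLocal
import Groth.Agent.H34.FSRegularHom
import Groth.Agent.H34.GRingLoc
import Groth.Agent.H34.GRingQuot
import Groth.Agent.H14.AdicSmooth
import Groth.Agent.H87.ComplFlat
import Groth.Agent.S9318
import Groth.Agent.S9293
import Groth.Agent.S9294
import Groth.Agent.S9295

/-!
# Polynomial rings over G-rings, II (helper20)

* `isRegularHom_cpl_polynomial_of_complete`: for a complete Noetherian local ring `A` and a prime `P`
  of `A[X]` over the maximal ideal, `A[X]_P → (A[X]_P)^` is regular.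
* `isRegularHom_cpl_descent`: descent of regularity of the completion map along a regular map.
* `isGRing_polynomial`, `isGRing_mvPolynomial_fin`, `isGRing_of_finiteType`,
  `isGRing_of_ringEquiv`: finite type algebras over G-rings are G-rings.
-/

set_option autoImplicit false
set_option linter.style.haveILetI false
set_option linter.unusedSectionVars false
set_option linter.unusedVariables false

universe u
open IsLocalRing TensorProduct Polynomial

namespace Groth.Agent.H20.PolyGRing

/-- For a complete Noetherian local ring `A` and a prime `P` of `A[X]` lying over the maximal ideal,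
the completion map of `A[X]_P` is regular. -/
theorem isRegularHom_cpl_polynomial_of_complete (A : Type u) [CommRing A] [IsLocalRing A]
    [IsNoetherianRing A] [IsAdicComplete (maximalIdeal A) A] (P : Ideal A[X]) [P.IsPrime]
    (hP : P.comap (C : A →+* A[X]) = maximalIdeal A) :
    CAlg.IsRegularHom (Localization.AtPrime P) (EGA4.Cpl (Localization.AtPrime P)) := by
  apply isRegularHom_cpl_of_base A P
  haveI noethC : IsNoetherianRing (Localization.AtPrime P) :=
    IsLocalization.isNoetherianRing P.primeCompl _ inferInstance
  have fg : (maximalIdeal (Localization.AtPrime P)).FG :=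
    (maximalIdeal (Localization.AtPrime P)).fg_of_isNoetherianRing
  haveI noethCh : IsNoetherianRing (EGA4.Cpl (Localization.AtPrime P)) :=
    Groth.Agent.Lead.isNoetherianRing_adicCompletion _ fg
  haveI fs1 : Algebra.FormallySmooth A[X] (Localization.AtPrime P) :=
    Algebra.FormallySmooth.of_isLocalization P.primeCompl
  haveI fs2 : Algebra.FormallySmooth A (Localization.AtPrime P) :=
    Algebra.FormallySmooth.comp A A[X] (Localization.AtPrime P)
  have h1 : CAlgX.IsAdicFormallySmooth A (Localization.AtPrime P)
      (maximalIdeal (Localization.AtPrime P)) :=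
    Groth.Agent.H14.isAdicFormallySmooth_of_formallySmooth _
  have h2 : CAlgX.IsAdicFormallySmooth A (EGA4.Cpl (Localization.AtPrime P))
      (maximalIdeal (EGA4.Cpl (Localization.AtPrime P))) := by
    rw [AdicCompletion.maximalIdeal_eq_map]
    exact (Groth.Agent.S9318.result (maximalIdeal (Localization.AtPrime P)) fg).mp h1
  haveI loc1 : IsLocalHom (algebraMap A (Localization.AtPrime P)) := by
    constructor
    intro a ha
    by_contra hna
    have ham : a ∈ maximalIdeal A := (IsLocalRing.mem_maximalIdeal a).mpr hna
    rw [← hP] at ham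
    have ham' : (C a : A[X]) ∈ P := ham
    have h3 : algebraMap A[X] (Localization.AtPrime P) (C a) ∈
        maximalIdeal (Localization.AtPrime P) :=
      (IsLocalization.AtPrime.to_map_mem_maximal_iff (Localization.AtPrime P) P _).mpr ham'
    rw [IsScalarTower.algebraMap_apply A A[X] (Localization.AtPrime P),
      Polynomial.algebraMap_eq] at ha
    exact (IsLocalRing.mem_maximalIdeal _).mp h3 ha
  haveI loc2 : IsLocalHom (algebraMap A (EGA4.Cpl (Localization.AtPrime P))) := by
    rw [IsScalarTower.algebraMap_eq A (Localization.AtPrime P) (EGA4.Cpl (Localization.AtPrime P))]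
    exact RingHom.isLocalHom_comp _ _
  exact Groth.Agent.H34.FSRegularHom.isRegularHom_of_fs A (EGA4.Cpl (Localization.AtPrime P)) h2

set_option maxHeartbeats 2000000 in
/-- Descent: if `A → B` is regular, `P` a prime of `B` over `p'` and the completion map of `B_P` is
regular, then so is the completion map of `A_{p'}`. -/
theorem isRegularHom_cpl_descent (A B : Type u) [CommRing A] [CommRing B] [Algebra A B]
    [IsNoetherianRing A] [IsNoetherianRing B] (hAB : CAlg.IsRegularHom A B)
    (P : Ideal B) [P.IsPrime] (p' : Ideal A) [p'.IsPrime]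
    (hP : P.comap (algebraMap A B) = p')
    (h23 : CAlg.IsRegularHom (Localization.AtPrime P) (EGA4.Cpl (Localization.AtPrime P))) :
    CAlg.IsRegularHom (Localization.AtPrime p') (EGA4.Cpl (Localization.AtPrime p')) := by
  letI algAB : Algebra (Localization.AtPrime p') (Localization.AtPrime P) :=
    (Localization.localRingHom p' P (algebraMap A B) hP.symm).toAlgebra
  haveI tow : IsScalarTower A (Localization.AtPrime p') (Localization.AtPrime P) :=
    IsScalarTower.of_algebraMap_eq (R := A) (S := Localization.AtPrime p')
      (A := Localization.AtPrime P) (fun a => by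
        show algebraMap A (Localization.AtPrime P) a =
          Localization.localRingHom p' P (algebraMap A B) hP.symm (algebraMap A _ a)
        rw [Localization.localRingHom_to_map,
          IsScalarTower.algebraMap_apply A B (Localization.AtPrime P)])
  have h12 : CAlg.IsRegularHom (Localization.AtPrime p') (Localization.AtPrime P) :=
    Groth.Agent.H20.GRingLocal.isRegularHom_atPrime A B P p' hP (Localization.AtPrime p') hAB
  haveI loc12 : IsLocalHom (algebraMap (Localization.AtPrime p') (Localization.AtPrime P)) :=
    Groth.Agent.H20.GRingLocal.isLocalHom_atPrime A B P p' hP (Localization.AtPrime p')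
  haveI noethA1 : IsNoetherianRing (Localization.AtPrime p') :=
    IsLocalization.isNoetherianRing p'.primeCompl _ inferInstance
  haveI noethB1 : IsNoetherianRing (Localization.AtPrime P) :=
    IsLocalization.isNoetherianRing P.primeCompl _ inferInstance
  haveI noethCA1 : IsNoetherianRing (EGA4.Cpl (Localization.AtPrime p')) :=
    Groth.Agent.Lead.isNoetherianRing_adicCompletion _
      (maximalIdeal (Localization.AtPrime p')).fg_of_isNoetherianRing
  haveI noethCB1 : IsNoetherianRing (EGA4.Cpl (Localization.AtPrime P)) :=
    Groth.Agent.Lead.isNoetherianRing_adicCompletion _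
      (maximalIdeal (Localization.AtPrime P)).fg_of_isNoetherianRing
  have h13 : CAlg.IsRegularHom (Localization.AtPrime p') (EGA4.Cpl (Localization.AtPrime P)) :=
    Groth.Agent.S9294.result (Localization.AtPrime p') (Localization.AtPrime P)
      (EGA4.Cpl (Localization.AtPrime P)) h12 h23 (fun p _ =>
      Groth.Agent.H34.FibLoc.isNoetherianRing_fiber (Localization.AtPrime p')
        (EGA4.Cpl (Localization.AtPrime P)) p)
  have hle : (maximalIdeal (Localization.AtPrime p')).map
      (algebraMap (Localization.AtPrime p') (Localization.AtPrime P)) ≤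
      maximalIdeal (Localization.AtPrime P) :=
    ((IsLocalRing.local_hom_TFAE
      (algebraMap (Localization.AtPrime p') (Localization.AtPrime P))).out 0 2).mp loc12
  letI algCC : Algebra (EGA4.Cpl (Localization.AtPrime p')) (EGA4.Cpl (Localization.AtPrime P)) :=
    (FSch.complMap (maximalIdeal (Localization.AtPrime p')) (maximalIdeal (Localization.AtPrime P))
      (algebraMap (Localization.AtPrime p') (Localization.AtPrime P)) hle).toAlgebra
  have hcm : ∀ a : Localization.AtPrime p',
      algebraMap (EGA4.Cpl (Localization.AtPrime p')) (EGA4.Cpl (Localization.AtPrime P))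
        (algebraMap (Localization.AtPrime p') (EGA4.Cpl (Localization.AtPrime p')) a) =
      algebraMap (Localization.AtPrime P) (EGA4.Cpl (Localization.AtPrime P))
        (algebraMap (Localization.AtPrime p') (Localization.AtPrime P) a) := fun a =>
    Groth.Agent.H87.ComplFlat.complMap_algebraMap _ _ _ hle a
  haveI towCC : IsScalarTower (Localization.AtPrime p') (EGA4.Cpl (Localization.AtPrime p'))
      (EGA4.Cpl (Localization.AtPrime P)) :=
    IsScalarTower.of_algebraMap_eq (fun a => by
      rw [hcm a, ← IsScalarTower.algebraMap_apply (Localization.AtPrime p')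
        (Localization.AtPrime P) (EGA4.Cpl (Localization.AtPrime P))])
  haveI flatCC : Module.Flat (EGA4.Cpl (Localization.AtPrime p'))
      (EGA4.Cpl (Localization.AtPrime P)) :=
    Groth.Agent.H87.ComplFlat.complMap_flat _ _ _
      (RingHom.flat_algebraMap_iff.mpr h12.1) hle
  haveI locCC : IsLocalHom (algebraMap (EGA4.Cpl (Localization.AtPrime p'))
      (EGA4.Cpl (Localization.AtPrime P))) := by
    refine ((IsLocalRing.local_hom_TFAE _).out 0 2).mpr ?_
    rw [AdicCompletion.maximalIdeal_eq_map (R := Localization.AtPrime p'), Ideal.map_map,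
      Ideal.map_le_iff_le_comap]
    intro a ha
    rw [Ideal.mem_comap, RingHom.comp_apply, hcm a,
      AdicCompletion.maximalIdeal_eq_map (R := Localization.AtPrime P)]
    exact Ideal.mem_map_of_mem _ (hle (Ideal.mem_map_of_mem _ ha))
  haveI ffCC : Module.FaithfullyFlat (EGA4.Cpl (Localization.AtPrime p'))
      (EGA4.Cpl (Localization.AtPrime P)) := Module.FaithfullyFlat.of_flat_of_isLocalHom
  exact Groth.Agent.S9295.result (Localization.AtPrime p') (EGA4.Cpl (Localization.AtPrime p'))
    (EGA4.Cpl (Localization.AtPrime P)) h13 PrimeSpectrum.comap_surjective_of_faithfullyFlat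

set_option maxHeartbeats 2000000 in
/-- Abstract polynomial step: `Ah` plays the role of the completion of `R_p`, `p = q ∩ R`. -/
theorem isRegularHom_cpl_of_regular_complete (R : Type u) [CommRing R] [IsNoetherianRing R]
    (q : Ideal R[X]) [q.IsPrime]
    (Ah : Type u) [CommRing Ah] [Algebra R Ah] [IsLocalRing Ah] [IsNoetherianRing Ah]
    [IsAdicComplete (maximalIdeal Ah) Ah] (hRAh : CAlg.IsRegularHom R Ah)
    (hm : maximalIdeal Ah = (q.comap (C : R →+* R[X])).map (algebraMap R Ah))
    (g₀ : Ah →+* q.ResidueField)
    (hg₀ : ∀ r : R, g₀ (algebraMap R Ah r) = algebraMap R[X] q.ResidueField (C r)) :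
    CAlg.IsRegularHom (Localization.AtPrime q) (EGA4.Cpl (Localization.AtPrime q)) := by
  letI algPP : Algebra R[X] Ah[X] := Polynomial.algebra R Ah
  have hBC : CAlg.IsRegularHom R[X] (R[X] ⊗[R] Ah) := Groth.Agent.S9293.result R Ah R[X] hRAh
  have hAB : CAlg.IsRegularHom R[X] Ah[X] :=
    Groth.Agent.H34.GRingLoc.isRegularHom_of_algEquiv (Algebra.IsPushout.equiv R R[X] Ah Ah[X]) hBC
  -- the prime `P` of `Ah[X]`
  let g : Ah[X] →+* q.ResidueField :=
    Polynomial.eval₂RingHom g₀ (algebraMap R[X] q.ResidueField X)
  have hgC : ∀ a : Ah, g (C a) = g₀ a := fun a => Polynomial.eval₂_C _ _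
  have hgX : g X = algebraMap R[X] q.ResidueField X := Polynomial.eval₂_X _ _
  have hcomp : g.comp (algebraMap R[X] Ah[X]) = algebraMap R[X] q.ResidueField := by
    apply Polynomial.ringHom_ext
    · intro r
      rw [RingHom.comp_apply, Polynomial.algebraMap_def, Polynomial.coe_mapRingHom,
        Polynomial.map_C, hgC, hg₀]
    · rw [RingHom.comp_apply, Polynomial.algebraMap_def, Polynomial.coe_mapRingHom,
        Polynomial.map_X, hgX]
  haveI hPprime : (RingHom.ker g).IsPrime := RingHom.ker_isPrime g
  have hPq : (RingHom.ker g).comap (algebraMap R[X] Ah[X]) = q := by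
    ext f
    rw [Ideal.mem_comap, RingHom.mem_ker, ← RingHom.comp_apply, hcomp,
      Ideal.algebraMap_residueField_eq_zero]
  have hPm : (RingHom.ker g).comap (C : Ah →+* Ah[X]) = maximalIdeal Ah := by
    apply le_antisymm
    · exact IsLocalRing.le_maximalIdeal (Ideal.comap_ne_top _ hPprime.ne_top)
    · rw [hm, Ideal.map_le_iff_le_comap]
      intro r hr
      rw [Ideal.mem_comap, Ideal.mem_comap, RingHom.mem_ker, hgC, hg₀,
        Ideal.algebraMap_residueField_eq_zero]
      exact hr
  have h23 := isRegularHom_cpl_polynomial_of_complete Ah (RingHom.ker g) hPm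
  exact isRegularHom_cpl_descent R[X] Ah[X] hAB (RingHom.ker g) q hPq h23

set_option maxHeartbeats 2000000 in
/-- Polynomial step: if the completion map of `R_p` (`p = q ∩ R`) is regular, so is the completion map of
`R[X]_q`. -/
theorem isRegularHom_cpl_polynomial (R : Type u) [CommRing R] [IsNoetherianRing R]
    (q : Ideal R[X]) [q.IsPrime]
    (hreg : CAlg.IsRegularHom (Localization.AtPrime (q.comap (C : R →+* R[X])))
      (EGA4.Cpl (Localization.AtPrime (q.comap (C : R →+* R[X]))))) :
    CAlg.IsRegularHom (Localization.AtPrime q) (EGA4.Cpl (Localization.AtPrime q)) := by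
  obtain ⟨p, hp⟩ : ∃ p : Ideal R, p = q.comap (C : R →+* R[X]) := ⟨_, rfl⟩
  haveI hpprime : p.IsPrime := by rw [hp]; infer_instance
  have hreg' : CAlg.IsRegularHom (Localization.AtPrime p) (EGA4.Cpl (Localization.AtPrime p)) := by
    subst hp; exact hreg
  haveI noethAp : IsNoetherianRing (Localization.AtPrime p) :=
    IsLocalization.isNoetherianRing p.primeCompl _ inferInstance
  haveI noethAh : IsNoetherianRing (EGA4.Cpl (Localization.AtPrime p)) :=
    Groth.Agent.Lead.isNoetherianRing_adicCompletion _
      (maximalIdeal (Localization.AtPrime p)).fg_of_isNoetherianRing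
  have hRAp : CAlg.IsRegularHom R (Localization.AtPrime p) :=
    Groth.Agent.H20.RegHomLocal.isRegularHom_of_isLocalization R (Localization.AtPrime p)
      p.primeCompl
  have hRAh : CAlg.IsRegularHom R (EGA4.Cpl (Localization.AtPrime p)) :=
    Groth.Agent.S9294.result R (Localization.AtPrime p) (EGA4.Cpl (Localization.AtPrime p))
      hRAp hreg' (fun 𝔯 _ =>
        Groth.Agent.H34.FibLoc.isNoetherianRing_fiber R (EGA4.Cpl (Localization.AtPrime p)) 𝔯)
  have hm : maximalIdeal (EGA4.Cpl (Localization.AtPrime p)) =
      (q.comap (C : R →+* R[X])).map (algebraMap R (EGA4.Cpl (Localization.AtPrime p))) := by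
    rw [← hp, AdicCompletion.maximalIdeal_eq_map (R := Localization.AtPrime p)]
    have h1 : maximalIdeal (Localization.AtPrime p) =
        p.map (algebraMap R (Localization.AtPrime p)) :=
      (Localization.AtPrime.map_eq_maximalIdeal).symm
    calc (maximalIdeal (Localization.AtPrime p)).map
          (algebraMap (Localization.AtPrime p) (EGA4.Cpl (Localization.AtPrime p)))
        = (p.map (algebraMap R (Localization.AtPrime p))).map
          (algebraMap (Localization.AtPrime p) (EGA4.Cpl (Localization.AtPrime p))) :=
          congrArg (Ideal.map (algebraMap (Localization.AtPrime p)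
            (EGA4.Cpl (Localization.AtPrime p)))) h1
      _ = p.map (algebraMap R (EGA4.Cpl (Localization.AtPrime p))) := by
          rw [Ideal.map_map, ← IsScalarTower.algebraMap_eq R (Localization.AtPrime p)
            (EGA4.Cpl (Localization.AtPrime p))]
  let ev : EGA4.Cpl (Localization.AtPrime p) →+* p.ResidueField :=
    (AdicCompletion.evalOneₐ (maximalIdeal (Localization.AtPrime p))).toRingHom
  let g₀ : EGA4.Cpl (Localization.AtPrime p) →+* q.ResidueField :=
    (Ideal.ResidueField.map p q (C : R →+* R[X]) hp).comp ev
  have hg₀ : ∀ r : R, g₀ (algebraMap R (EGA4.Cpl (Localization.AtPrime p)) r) =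
      algebraMap R[X] q.ResidueField (C r) := by
    intro r
    have h1 : ev (algebraMap R (EGA4.Cpl (Localization.AtPrime p)) r) =
        algebraMap R p.ResidueField r := by
      rw [IsScalarTower.algebraMap_apply R (Localization.AtPrime p) p.ResidueField]
      rfl
    show Ideal.ResidueField.map p q (C : R →+* R[X]) hp
      (ev (algebraMap R (EGA4.Cpl (Localization.AtPrime p)) r)) = _
    rw [h1, Ideal.ResidueField.map_algebraMap]
  exact isRegularHom_cpl_of_regular_complete R q (EGA4.Cpl (Localization.AtPrime p)) hRAh hm g₀ hg₀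

/-- **Polynomial rings over G-rings are G-rings.** -/
theorem isGRing_polynomial (R : Type u) [CommRing R] (hR : CAlg.IsGRing R) : CAlg.IsGRing R[X] := by
  obtain ⟨hN, hR⟩ := hR
  haveI := hN
  refine ⟨inferInstance, fun q _ => ?_⟩
  exact isRegularHom_cpl_polynomial R q (hR (q.comap (C : R →+* R[X])))

/-- Being a G-ring is invariant under ring isomorphisms. -/
theorem isGRing_of_ringEquiv {R R' : Type u} [CommRing R] [CommRing R'] (e : R ≃+* R')
    (h : CAlg.IsGRing R) : CAlg.IsGRing R' := by
  obtain ⟨hN, hR⟩ := h
  haveI := hN
  refine ⟨isNoetherianRing_of_ringEquiv R e, fun p' _ => ?_⟩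
  haveI : (p'.comap (e : R →+* R')).IsPrime := Ideal.comap_isPrime _ p'
  have hmap : Submonoid.map e.toMonoidHom (p'.comap (e : R →+* R')).primeCompl = p'.primeCompl := by
    ext x
    constructor
    · rintro ⟨y, hy, rfl⟩
      exact hy
    · intro hx
      refine ⟨e.symm x, ?_, by simp⟩
      intro hmem
      apply hx
      have h3 : (e : R →+* R') (e.symm x) ∈ p' := hmem
      rwa [RingEquiv.coe_toRingHom, RingEquiv.apply_symm_apply] at h3
  have E : Localization.AtPrime (p'.comap (e : R →+* R')) ≃+* Localization.AtPrime p' :=
    IsLocalization.ringEquivOfRingEquiv (Localization.AtPrime (p'.comap (e : R →+* R')))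
      (Localization.AtPrime p') e hmap
  haveI : IsNoetherianRing (Localization.AtPrime (p'.comap (e : R →+* R'))) :=
    IsLocalization.isNoetherianRing (p'.comap (e : R →+* R')).primeCompl _ inferInstance
  exact Groth.Agent.H34.GRingLoc.isRegularHom_cpl_of_ringEquiv E (hR (p'.comap (e : R →+* R')))

/-- Polynomial rings in finitely many variables over a G-ring are G-rings. -/
theorem isGRing_mvPolynomial_fin : ∀ (n : ℕ) (R : Type u) [CommRing R], CAlg.IsGRing R →
    CAlg.IsGRing (MvPolynomial (Fin n) R) := by
  intro n
  induction n with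
  | zero =>
    intro R _ hR
    exact isGRing_of_ringEquiv (MvPolynomial.isEmptyAlgEquiv R (Fin 0)).symm.toRingEquiv hR
  | succ n ih =>
    intro R _ hR
    have h1 : CAlg.IsGRing (MvPolynomial (Fin n) R) := ih R hR
    have h2 : CAlg.IsGRing (MvPolynomial (Fin n) R)[X] := isGRing_polynomial _ h1
    exact isGRing_of_ringEquiv (MvPolynomial.finSuccEquiv R n).symm.toRingEquiv h2

/-- **An algebra of finite type over a G-ring is a G-ring.** -/
theorem isGRing_of_finiteType (R : Type u) [CommRing R] (hR : CAlg.IsGRing R) (S : Type u)
    [CommRing S] [Algebra R S] [Algebra.FiniteType R S] : CAlg.IsGRing S := by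
  obtain ⟨n, f, hf⟩ := Algebra.FiniteType.iff_quotient_mvPolynomial''.mp
    (inferInstance : Algebra.FiniteType R S)
  have h1 := isGRing_mvPolynomial_fin n R hR
  exact isGRing_of_ringEquiv (Ideal.quotientKerAlgEquivOfSurjective hf).toRingEquiv
    (Groth.Agent.H34.GRingQuot.isGRing_quotient _ h1 _)

end Groth.Agent.H20.PolyGRing
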