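import Mathlib
import Groth.Prelude.Def_EtModW
import Groth.Prelude.Def_ARSys
import Groth.Prelude.Def_EtModD2
import Groth.Agent.H38.Adic_B
import Groth.Agent.H77.CM_AR

/-!
# Piece (D) of S13613: the stalk functor preserves "constructible adic up to translation" systems,
given finiteness of stalks of constructible sheaves (clone of `Groth.Agent.H77.CM_AR.s13614_of`
with the skyscraper adjunction `Point.skyscraperSheafAdjunction`).
-/

set_option autoImplicit false
set_option linter.style.haveILetI false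
universe u
open CategoryTheory CategoryTheory.Limits AlgebraicGeometry Opposite GrothendieckTopology

namespace Groth.Agent.H20.StalkAR_D

theorem hasColimits_moduleCat (Λ : Type (u + 1)) [CommRing Λ] :
    HasColimitsOfSize.{u, u} (ModuleCat.{u + 1} Λ) :=
  hasColimitsOfSizeShrink.{u, u, u + 1, u + 1} (ModuleCat.{u + 1} Λ)

theorem hasProducts_moduleCat (Λ : Type (u + 1)) [CommRing Λ] :
    HasProducts.{u} (ModuleCat.{u + 1} Λ) := by
  haveI : HasLimitsOfSize.{u, u} (ModuleCat.{u + 1} Λ) :=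
    hasLimitsOfSizeShrink.{u, u, u + 1, u + 1} (ModuleCat.{u + 1} Λ)
  infer_instance

theorem ab5_moduleCat (Λ : Type (u + 1)) [CommRing Λ] :
    AB5OfSize.{u, u} (ModuleCat.{u + 1} Λ) :=
  AB5OfSize_of_univLE.{u, u, u + 1, u + 1} (ModuleCat.{u + 1} Λ)

attribute [local instance] hasColimits_moduleCat hasProducts_moduleCat ab5_moduleCat

section
variable (Λ : Type (u + 1)) [CommRing Λ] {X : Scheme.{u}} {Ω : Type u} [Field Ω] [IsSepClosed Ω]
  (s : Spec (CommRingCat.of Ω) ⟶ X)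

/-- The skyscraper adjunction for the stalk functor. -/
noncomputable def adj : EtModW.stalk Λ s ⊣ (Scheme.pointSmallEtale s).skyscraperSheafFunctor :=
  (Scheme.pointSmallEtale s).skyscraperSheafAdjunction (A := ModuleCat.{u + 1} Λ)

theorem pfl : PreservesFiniteLimits (EtModW.stalk Λ s) := inferInstance

theorem pfc : PreservesFiniteColimits (EtModW.stalk Λ s) := inferInstance

theorem hR {P Q : ModuleCat.{u + 1} Λ} (a : Λ) (g : P ⟶ Q) :
    ((Scheme.pointSmallEtale s).skyscraperSheafFunctor).map (a • g) =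
      a • ((Scheme.pointSmallEtale s).skyscraperSheafFunctor).map g := by
  ext U : 3
  have h1 : ((Scheme.pointSmallEtale s).skyscraperSheafFunctor.map (a • g)).hom.app U =
      Limits.Pi.map (fun _ : (Scheme.pointSmallEtale s).fiber.obj U.unop => a • g) := rfl
  have h2 : (a • (Scheme.pointSmallEtale s).skyscraperSheafFunctor.map g).hom.app U =
      a • Limits.Pi.map (fun _ : (Scheme.pointSmallEtale s).fiber.obj U.unop => g) := rfl
  rw [h1, h2]
  apply Limits.Pi.hom_ext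
  intro j
  rw [Limits.Pi.map_π, Linear.smul_comp, Limits.Pi.map_π, Linear.comp_smul]

theorem pzm : (EtModW.stalk Λ s).PreservesZeroMorphisms := by
  haveI : (EtModW.stalk Λ s).IsLeftAdjoint := (adj Λ s).isLeftAdjoint
  infer_instance

theorem killedBy_stalk (J : Ideal Λ) {Q : EtModW.Mod Λ X} (hQ : ARSys.KilledBy J Q) :
    ARSys.KilledBy J ((EtModW.stalk Λ s).obj Q) :=
  Groth.Agent.H38.Adic_B.killedBy_L (adj Λ s) (hR Λ s) J hQ

theorem isQuot_stalk (J : Ideal Λ) {P Q : EtModW.Mod Λ X} (p : P ⟶ Q) (hp : ARSys.IsQuot J p) :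
    ARSys.IsQuot J ((EtModW.stalk Λ s).map p) :=
  Groth.Agent.H38.Adic_B.isQuot_L (adj Λ s) (hR Λ s) J p hp

theorem isARIso_stalk {Y F : ARSys.PS (EtModW.Mod Λ X)} (v : Y ⟶ F) (hv : ARSys.IsARIso v) :
    ARSys.IsARIso (Functor.whiskerRight v (EtModW.stalk Λ s)) := by
  haveI := pzm Λ s
  haveI := pfl Λ s
  haveI := pfc Λ s
  exact Groth.Agent.H77.CM_AR.isARIso_whiskerRight (EtModW.stalk Λ s) v hv

end

/-- **(D)** -/
theorem s13613_of (Λ : Type (u + 1)) [CommRing Λ] [IsNoetherianRing Λ] (I : Ideal Λ) (X : Scheme.{u})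
    (hfin : ∀ E : EtModW.Mod Λ X, EtModW.IsConstructible Λ E →
      ∀ {Ω : Type u} [Field Ω] [IsSepClosed Ω] (ξ : Spec (CommRingCat.of Ω) ⟶ X),
        Module.Finite Λ ((EtModW.stalk Λ ξ).obj E))
    (F : ARSys.PS (EtModW.Mod Λ X))
    (hF : (ARSys.TermKilled I F ∧ ∃ (Y : ARSys.PS (EtModW.Mod Λ X)) (v : Y ⟶ F), ARSys.IsAdic I Y ∧ (∀ n : ℕ, EtModW.IsConstructible Λ (Y.obj (op n))) ∧ ARSys.IsARIso v))
    {Ω : Type u} [Field Ω] [IsSepClosed Ω] (s : Spec (CommRingCat.of Ω) ⟶ X) :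
    (ARSys.TermKilled I (F ⋙ EtModW.stalk Λ s) ∧ ∃ (Y : ARSys.PS (ModuleCat.{u + 1} Λ)) (v : Y ⟶ F ⋙ EtModW.stalk Λ s), ARSys.IsAdic I Y ∧ (∀ n : ℕ, Module.Finite Λ (Y.obj (op n))) ∧ ARSys.IsARIso v) := by
  obtain ⟨hFk, Y, v, hY, hYc, hv⟩ := hF
  refine ⟨fun n => killedBy_stalk Λ s _ (hFk n), Y ⋙ EtModW.stalk Λ s,
    Functor.whiskerRight v (EtModW.stalk Λ s), ⟨fun n => ?_, fun n m h => ?_⟩,
    fun n => hfin _ (hYc n) s, isARIso_stalk Λ s v hv⟩
  · exact killedBy_stalk Λ s _ (hY.1 n)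
  · exact isQuot_stalk Λ s _ _ (hY.2 n m h)

end Groth.Agent.H20.StalkAR_D
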