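import Mathlib
import Groth.Prelude.Def_EtModW
import Groth.Prelude.Def_ARSys
import Groth.Prelude.Def_EtModD2
import Groth.Agent.H16.ARQuot
import Groth.Agent.H20.StalkAR_D

/-!
# Assembly for S13620: an AR-adic system is AR-null iff the limits of its stalk systems vanish
(hypothesis-style: the three squad pieces (Z), (S), (L) are hypotheses).
-/

set_option autoImplicit false
set_option linter.style.haveILetI false
universe u v₁ u₁
open CategoryTheory CategoryTheory.Limits AlgebraicGeometry Opposite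

namespace Groth.Agent.H20.ARNullAsm

/-- (N) the limit of a system that is null up to translation is zero -/
theorem isZero_limit_of_isARNull {C : Type u₁} [Category.{v₁} C] [HasZeroMorphisms C]
    (K : ARSys.PS C) [HasLimit K] (h : ARSys.IsARNull K) : IsZero (limit K) := by
  obtain ⟨r, hr⟩ := h
  rw [IsZero.iff_id_eq_zero]
  apply limit.hom_ext
  intro j
  obtain ⟨n⟩ := j
  have h1 : K.map (homOfLE (Nat.le_add_right n r)).op = 0 := hr n
  rw [Category.id_comp, zero_comp, ← limit.w K (homOfLE (Nat.le_add_right n r)).op, h1, comp_zero]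

/-- (P5) if `v : Y ⟶ F` is an isomorphism up to translation and all `Y_n` vanish, then `F` is null
up to translation -/
theorem isARNull_of_isZero_source {C : Type u₁} [Category.{v₁} C] [Abelian C]
    {Y F : ARSys.PS C} (v : Y ⟶ F) (hv : ARSys.IsARIso v)
    (hY : ∀ n : ℕ, IsZero (Y.obj (op n))) : ARSys.IsARNull F := by
  have hv0 : v = 0 := by
    ext j
    obtain ⟨n⟩ := j
    exact (hY n).eq_of_src _ _
  subst hv0
  exact Groth.Agent.H77.CM_AR.isARNull_of_iso (cokernelZeroIsoTarget (X := Y) (Y := F)) hv.2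

/-- Assembly of S13620 from the pieces (Z), (S), (L). -/
theorem s13620_of (Λ : Type (u + 1)) [CommRing Λ] [IsNoetherianRing Λ] (I : Ideal Λ)
    {X : Scheme.{u}}
    (hZ : ∀ (E : EtModW.Mod Λ X),
      (∀ (Ω : Type u) [Field Ω] [IsSepClosed Ω] (ξ : Spec (CommRingCat.of Ω) ⟶ X),
        IsZero ((EtModW.stalk Λ ξ).obj E)) → IsZero E)
    (hS : ∀ (Y : ℕᵒᵖ ⥤ ModuleCat.{u + 1} Λ),
      (∀ (n m : ℕ) (h : n ≤ m), Epi (ARSys.tr Y h)) → IsZero (limit Y) →
        ∀ n : ℕ, IsZero (Y.obj (op n)))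
    (hL : ∀ {Y F : ARSys.PS (ModuleCat.{u + 1} Λ)} (v : Y ⟶ F),
      ARSys.IsARNull (kernel v) → IsZero (limit F) → IsZero (limit Y))
    (F : ARSys.PS (EtModW.Mod Λ X))
    (hF : (ARSys.TermKilled I F ∧ ∃ (Y : ARSys.PS (EtModW.Mod Λ X)) (v : Y ⟶ F), ARSys.IsAdic I Y ∧ (∀ n : ℕ, EtModW.IsConstructible Λ (Y.obj (op n))) ∧ ARSys.IsARIso v)) :
    ARSys.IsARNull F ↔
      ∀ (Ω : Type u) [Field Ω] [IsSepClosed Ω] (x : Spec (CommRingCat.of Ω) ⟶ X),
        IsZero (limit (F ⋙ EtModW.stalk Λ x)) := by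
  constructor
  · intro hnull Ω _ _ x
    haveI := Groth.Agent.H20.StalkAR_D.pzm Λ x
    exact isZero_limit_of_isARNull _ (Groth.Agent.H77.CM_AR.isARNull_comp (EtModW.stalk Λ x) hnull)
  · intro h
    obtain ⟨-, Y, v, hY, -, hv⟩ := hF
    refine isARNull_of_isZero_source v hv (fun n => hZ _ (fun Ω _ _ ξ => ?_))
    have hv' := Groth.Agent.H20.StalkAR_D.isARIso_stalk Λ ξ v hv
    have h0 : IsZero (limit (Y ⋙ EtModW.stalk Λ ξ)) :=
      hL (Functor.whiskerRight v (EtModW.stalk Λ ξ)) hv'.1 (h Ω ξ)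
    refine hS (Y ⋙ EtModW.stalk Λ ξ) (fun n m hnm => ?_) h0 n
    exact Groth.Agent.H16.IsQuot.epi
      (Groth.Agent.H20.StalkAR_D.isQuot_stalk Λ ξ _ _ (hY.2 n m hnm))

end Groth.Agent.H20.ARNullAsm
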