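import Mathlib
import Groth.Prelude.Def_DefoConn
import Groth.Prelude.Def_DefoSh2

/-!
# Piece (T3) for helper16's S17436: a morphism of abelian sheaves that is linear on sections is a
morphism of modules.
-/

set_option autoImplicit false
universe u
open CategoryTheory CategoryTheory.Limits AlgebraicGeometry TopologicalSpace Opposite

namespace Groth.Agent.H20.DefoConnT3

theorem exists_lin_lift {X : Scheme.{u}} (M N : X.Modules) (ψ : Coh.toAb M ⟶ Coh.toAb N)
    (h : ∀ (U : X.Opens) (t : Γ(X, U)) (e : M.val.obj (op U)),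
      ConnSh.secApp ψ U (t • e) = t • ConnSh.secApp ψ U e) :
    ∃ ψ' : M ⟶ N, (SheafOfModules.toSheaf X.ringCatSheaf).map ψ' = ψ := by
  refine ⟨⟨PresheafOfModules.homMk ψ.hom (by
    intro U s m
    exact h (unop U) s m)⟩, ?_⟩
  apply Sheaf.hom_ext
  rfl

end Groth.Agent.H20.DefoConnT3
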