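import Mathlib

/-!
Helper library (helper20): flat algebras over `D = k[X]/(X^(n+1))` with smooth special fibre.
-/

set_option autoImplicit false
set_option linter.style.haveILetI false
set_option linter.unusedSectionVars false
set_option linter.unusedVariables false
universe u
open Polynomial TensorProduct

namespace Groth.Agent.H20.DeformD

section Dstruct
variable {k : Type u} [Field k] {n : ℕ} {D : Type u} [CommRing D] [Algebra k D] {τ : D}
  (e : (k[X] ⧸ Ideal.span {(X : k[X]) ^ (n + 1)}) ≃ₐ[k] D)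
  (he : e (Ideal.Quotient.mk (Ideal.span {(X : k[X]) ^ (n + 1)}) X) = τ)
include he

theorem e_mk (p : k[X]) :
    e (Ideal.Quotient.mk (Ideal.span {(X : k[X]) ^ (n + 1)}) p) = aeval τ p := by
  have h : (e : _ →ₐ[k] D).comp (Ideal.Quotient.mkₐ k (Ideal.span {(X : k[X]) ^ (n + 1)}))
      = aeval τ := by
    apply Polynomial.algHom_ext
    rw [aeval_X]
    exact he
  exact DFunLike.congr_fun h p

theorem exists_aeval (x : D) : ∃ p : k[X], aeval τ p = x := by
  obtain ⟨y, rfl⟩ := e.surjective x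
  obtain ⟨p, rfl⟩ := Ideal.Quotient.mk_surjective y
  exact ⟨p, (e_mk e he p).symm⟩

theorem aeval_eq_zero_iff (p : k[X]) : aeval τ p = 0 ↔ (X : k[X]) ^ (n + 1) ∣ p := by
  rw [← e_mk e he p, EmbeddingLike.map_eq_zero_iff, Ideal.Quotient.eq_zero_iff_mem,
    Ideal.mem_span_singleton]

theorem τ_pow : τ ^ (n + 1) = 0 := by
  have := (aeval_eq_zero_iff e he ((X : k[X]) ^ (n + 1))).mpr dvd_rfl
  rwa [map_pow, aeval_X] at this

theorem decomp (x : D) : ∃ (c : k) (y : D), x = algebraMap k D c + τ * y := by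
  obtain ⟨p, rfl⟩ := exists_aeval e he x
  refine ⟨p.coeff 0, aeval τ p.divX, ?_⟩
  have h := congrArg (aeval τ) (Polynomial.divX_mul_X_add p)
  rw [map_add, map_mul, aeval_X, aeval_C] at h
  rw [← h]
  ring

theorem τ_mem_of_prime (I : Ideal D) [hI : I.IsPrime] : τ ∈ I :=
  hI.mem_of_pow_mem (n + 1) (by rw [τ_pow e he]; exact I.zero_mem)

theorem prime_eq (I : Ideal D) [hI : I.IsPrime] : I = Ideal.span {τ} := by
  have hτ : τ ∈ I := τ_mem_of_prime e he I
  apply le_antisymm
  · intro x hx
    obtain ⟨c, y, rfl⟩ := decomp e he x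
    have hc : algebraMap k D c ∈ I := by
      have := I.sub_mem hx (I.mul_mem_right y hτ)
      simpa using this
    by_cases h0 : c = 0
    · rw [h0, map_zero, zero_add]
      exact Ideal.mul_mem_right _ _ (Ideal.mem_span_singleton_self τ)
    · exact absurd (I.eq_top_of_isUnit_mem hc
        ((isUnit_iff_ne_zero.mpr h0).map (algebraMap k D))) hI.ne_top
  · rw [Ideal.span_singleton_le_iff_mem]
    exact hτ

theorem algebraMap_quot_surjective (I : Ideal D) [hI : I.IsPrime] :
    Function.Surjective (algebraMap k (D ⧸ I)) := by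
  intro z
  obtain ⟨x, rfl⟩ := Ideal.Quotient.mk_surjective z
  obtain ⟨c, y, rfl⟩ := decomp e he x
  refine ⟨c, ?_⟩
  have hτ : τ ∈ I := τ_mem_of_prime e he I
  rw [IsScalarTower.algebraMap_apply k D (D ⧸ I), Ideal.Quotient.algebraMap_eq, map_add,
    Ideal.Quotient.eq_zero_iff_mem.mpr (I.mul_mem_right y hτ), add_zero]

/-- every Kähler differential of `D` over `k` is a multiple of `dτ` -/
theorem exists_smul_Dτ (ω : Ω[D⁄k]) : ∃ d : D, ω = d • KaehlerDifferential.D k D τ := by
  have hω : ω ∈ Submodule.span D (Set.range (KaehlerDifferential.D k D)) := by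
    rw [KaehlerDifferential.span_range_derivation]; exact Submodule.mem_top
  refine Submodule.span_induction
    (p := fun x _ => ∃ d : D, x = d • KaehlerDifferential.D k D τ) ?_ ?_ ?_ ?_ hω
  · rintro _ ⟨x, rfl⟩
    obtain ⟨p, rfl⟩ := exists_aeval e he x
    exact ⟨aeval τ (derivative p), Derivation.comp_aeval_eq τ (KaehlerDifferential.D k D) p⟩
  · exact ⟨0, (zero_smul _ _).symm⟩
  · rintro x y _ _ ⟨d₁, rfl⟩ ⟨d₂, rfl⟩
    exact ⟨d₁ + d₂, (add_smul _ _ _).symm⟩
  · rintro c x _ ⟨d, rfl⟩
    exact ⟨c * d, (mul_smul _ _ _).symm⟩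

end Dstruct

section flat
variable {k : Type u} [Field k] {n : ℕ} {D : Type u} [CommRing D] [Algebra k D] {τ : D}
  (e : (k[X] ⧸ Ideal.span {(X : k[X]) ^ (n + 1)}) ≃ₐ[k] D)
  (he : e (Ideal.Quotient.mk (Ideal.span {(X : k[X]) ^ (n + 1)}) X) = τ)
  {B : Type u} [CommRing B] [Algebra k B] [Algebra D B] [IsScalarTower k D B]
  {t : B} (ht : t = algebraMap D B τ)
include he ht

theorem t_pow : t ^ (n + 1) = 0 := by
  rw [ht, ← map_pow, τ_pow e he, map_zero]

/-- flatness: the annihilator of `t^a` is generated by `t^c` when `a + c = n + 1`. -/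
theorem exists_mul_of_pow_mul_eq_zero [Module.Flat D B] {a c : ℕ} (hac : a + c = n + 1) {b : B}
    (hb : t ^ a * b = 0) : ∃ b', b = t ^ c * b' := by
  let f : D →ₗ[D] D := LinearMap.toSpanSingleton D D (τ ^ c)
  let g : D →ₗ[D] D := LinearMap.toSpanSingleton D D (τ ^ a)
  have hf : ∀ x, f x = x * τ ^ c := fun x => rfl
  have hg : ∀ x, g x = x * τ ^ a := fun x => rfl
  have hex : Function.Exact f g := by
    intro x
    constructor
    · intro hx
      rw [hg] at hx
      obtain ⟨p, rfl⟩ := exists_aeval e he x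
      have h1 : aeval τ (p * X ^ a) = 0 := by
        rw [map_mul, map_pow, aeval_X]; exact hx
      rw [aeval_eq_zero_iff e he] at h1
      have h2 : (X : k[X]) ^ c ∣ p := by
        have h3 : (X : k[X]) ^ c * X ^ a ∣ p * X ^ a := by
          rw [← pow_add, add_comm c a, hac]; exact h1
        exact (mul_dvd_mul_iff_right (pow_ne_zero a Polynomial.X_ne_zero)).mp h3
      obtain ⟨q, rfl⟩ := h2
      exact ⟨aeval τ q, by rw [hf, map_mul, map_pow, aeval_X, mul_comm]⟩
    · rintro ⟨y, rfl⟩
      rw [hg, hf, mul_assoc, ← pow_add, add_comm c a, hac, τ_pow e he, mul_zero]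
  have hex' := Module.Flat.lTensor_exact B hex
  have h1 : (g.lTensor B) (b ⊗ₜ[D] (1 : D)) = 0 := by
    rw [LinearMap.lTensor_tmul, hg, one_mul]
    have h2 : b ⊗ₜ[D] (τ ^ a) = ((τ ^ a) • b) ⊗ₜ[D] (1 : D) := by
      rw [TensorProduct.smul_tmul, smul_eq_mul, mul_one]
    rw [h2, Algebra.smul_def, map_pow, ← ht, hb, TensorProduct.zero_tmul]
  obtain ⟨y, hy⟩ := (hex' _).mp h1
  have h2 : ∀ y : B ⊗[D] D, ∃ b', TensorProduct.rid D B ((f.lTensor B) y) = t ^ c * b' := by
    intro y
    induction y using TensorProduct.induction_on with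
    | zero => exact ⟨0, by rw [map_zero, map_zero, mul_zero]⟩
    | tmul b₀ d =>
      refine ⟨algebraMap D B d * b₀, ?_⟩
      rw [LinearMap.lTensor_tmul, TensorProduct.rid_tmul, hf, Algebra.smul_def, map_mul, map_pow,
        ← ht]
      ring
    | add y₁ y₂ h₁ h₂ =>
      obtain ⟨b₁, h₁⟩ := h₁
      obtain ⟨b₂, h₂⟩ := h₂
      exact ⟨b₁ + b₂, by rw [map_add, map_add, h₁, h₂, mul_add]⟩
  obtain ⟨b', hb'⟩ := h2 y
  refine ⟨b', ?_⟩
  rw [← hb', hy, TensorProduct.rid_tmul, one_smul]

/-- `t^n dt = 0` in `Ω[B⁄k]` -/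
theorem pow_smul_D_eq_zero [CharZero k] : t ^ n • KaehlerDifferential.D k B t = 0 := by
  have h0 : t ^ (n + 1) = 0 := t_pow e he ht
  have h1 := (KaehlerDifferential.D k B).leibniz_pow t (n + 1)
  rw [h0, map_zero, Nat.add_sub_cancel] at h1
  have h2 : ((n + 1 : ℕ) : k) • (t ^ n • KaehlerDifferential.D k B t) = 0 := by
    rw [Nat.cast_smul_eq_nsmul]; exact h1.symm
  exact (smul_eq_zero.mp h2).resolve_left (Nat.cast_ne_zero.mpr (Nat.succ_ne_zero n))

theorem mapBaseChange_eq_smul (z : B ⊗[D] Ω[D⁄k]) :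
    ∃ b : B, KaehlerDifferential.mapBaseChange k D B z = b • KaehlerDifferential.D k B t := by
  induction z using TensorProduct.induction_on with
  | zero => exact ⟨0, by rw [map_zero, zero_smul]⟩
  | tmul b ω =>
    obtain ⟨d, rfl⟩ := exists_smul_Dτ e he ω
    refine ⟨b * algebraMap D B d, ?_⟩
    rw [KaehlerDifferential.mapBaseChange_tmul, map_smul, KaehlerDifferential.map_D, ← ht,
      ← algebraMap_smul B d, smul_smul]
  | add z₁ z₂ h₁ h₂ =>
    obtain ⟨b₁, h₁⟩ := h₁
    obtain ⟨b₂, h₂⟩ := h₂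
    exact ⟨b₁ + b₂, by rw [map_add, h₁, h₂, add_smul]⟩

/-- the kernel of `Ω[B⁄k] → Ω[B⁄D]` is generated by `dt` -/
theorem exists_smul_D_of_map_eq_zero {η : Ω[B⁄k]}
    (hη : KaehlerDifferential.map k D B B η = 0) :
    ∃ b : B, η = b • KaehlerDifferential.D k B t := by
  obtain ⟨z, rfl⟩ := (KaehlerDifferential.exact_mapBaseChange_map k D B η).mp hη
  exact mapBaseChange_eq_smul e he ht z

theorem map_D_t_eq_zero : KaehlerDifferential.map k D B B (KaehlerDifferential.D k B t) = 0 := by
  rw [KaehlerDifferential.map_D, Algebra.algebraMap_self, RingHom.id_apply, ht,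
    Derivation.map_algebraMap]

end flat

section smooth
variable {k : Type u} [Field k] {n : ℕ} {D : Type u} [CommRing D] [Algebra k D] {τ : D}
  (e : (k[X] ⧸ Ideal.span {(X : k[X]) ^ (n + 1)}) ≃ₐ[k] D)
  (he : e (Ideal.Quotient.mk (Ideal.span {(X : k[X]) ^ (n + 1)}) X) = τ)
  {B : Type u} [CommRing B] [Algebra k B] [Algebra D B] [IsScalarTower k D B]
  [Algebra.FiniteType k B] [Module.Flat D B]
  {t : B} (ht : t = algebraMap D B τ) (hsm : Algebra.Smooth k (B ⧸ Ideal.span {t}))
include he ht hsm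

theorem smooth : Algebra.Smooth D B := by
  haveI : IsNoetherianRing D := isNoetherianRing_of_ringEquiv _ e.toRingEquiv
  haveI : Algebra.FiniteType D B := Algebra.FiniteType.of_restrictScalars_finiteType k D B
  haveI : Algebra.FinitePresentation D B :=
    Algebra.FinitePresentation.of_finiteType.mp inferInstance
  refine Algebra.Smooth.of_formallySmooth_fiber (fun I hI => ?_)
  have hIeq : I = Ideal.span {τ} := prime_eq e he I
  have hmap : Ideal.span {t} = I.map (algebraMap D B) := by
    rw [hIeq, Ideal.map_span, Set.image_singleton, ht]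
  haveI : Algebra.FormallySmooth k (B ⧸ Ideal.span {t}) := hsm.formallySmooth
  haveI h1 : Algebra.FormallySmooth k (B ⧸ I.map (algebraMap D B)) :=
    Algebra.FormallySmooth.of_equiv (Ideal.quotientEquivAlgOfEq k hmap)
  haveI h2 : Algebra.FormallyUnramified k (D ⧸ I) :=
    Algebra.FormallyUnramified.of_surjective (Algebra.ofId k (D ⧸ I))
      (algebraMap_quot_surjective e he I)
  haveI : IsScalarTower k (D ⧸ I) (B ⧸ I.map (algebraMap D B)) :=
    IsScalarTower.of_algebraMap_eq (fun c => by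
      rw [IsScalarTower.algebraMap_apply k B (B ⧸ I.map (algebraMap D B)),
        IsScalarTower.algebraMap_apply k D (D ⧸ I), IsScalarTower.algebraMap_apply k D B]
      rfl)
  haveI h3 : Algebra.FormallySmooth (D ⧸ I) (B ⧸ I.map (algebraMap D B)) :=
    Algebra.FormallySmooth.of_restrictScalars k (D ⧸ I) _
  haveI h4 : Algebra.FormallySmooth (D ⧸ I) ((D ⧸ I) ⊗[D] B) :=
    Algebra.FormallySmooth.of_equiv (Algebra.TensorProduct.quotIdealMapEquivQuotTensor B I)
  haveI h5 : Algebra.FormallySmooth I.ResidueField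
      (I.ResidueField ⊗[D ⧸ I] ((D ⧸ I) ⊗[D] B)) := inferInstance
  exact Algebra.FormallySmooth.of_equiv
    (Algebra.TensorProduct.cancelBaseChange D (D ⧸ I) I.ResidueField I.ResidueField B)

end smooth

section deriv
variable {k : Type u} [Field k] {n : ℕ} {D : Type u} [CommRing D] [Algebra k D] {τ : D}
  (e : (k[X] ⧸ Ideal.span {(X : k[X]) ^ (n + 1)}) ≃ₐ[k] D)
  (he : e (Ideal.Quotient.mk (Ideal.span {(X : k[X]) ^ (n + 1)}) X) = τ)
  {B : Type u} [CommRing B] [Algebra k B] [Algebra D B] [IsScalarTower k D B]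
  {t : B} (ht : t = algebraMap D B τ)
include he ht

/-- a `k`-derivation `B → B/t^n` with `t ↦ 1` (lift of `d/dτ`), from formal smoothness over `D`. -/
theorem exists_derivation [Algebra.FormallySmooth D B] :
    ∃ δ : Derivation k B (B ⧸ Ideal.span {t ^ n}), δ t = 1 := by
  classical
  let I : Ideal B := Ideal.span {t ^ n}
  let z : TrivSqZeroExt (B ⧸ I) (B ⧸ I) :=
    TrivSqZeroExt.inl (Ideal.Quotient.mk I t) + TrivSqZeroExt.inr 1
  have htn : (Ideal.Quotient.mk I t) ^ n = 0 := by
    rw [← map_pow]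
    exact Ideal.Quotient.eq_zero_iff_mem.mpr (Ideal.mem_span_singleton_self _)
  have hzfst : z.fst = Ideal.Quotient.mk I t := by
    simp only [z, TrivSqZeroExt.fst_add, TrivSqZeroExt.fst_inl, TrivSqZeroExt.fst_inr, add_zero]
  have hzsnd : z.snd = 1 := by
    simp only [z, TrivSqZeroExt.snd_add, TrivSqZeroExt.snd_inl, TrivSqZeroExt.snd_inr, zero_add]
  have hz : z ^ (n + 1) = 0 := by
    apply TrivSqZeroExt.ext
    · rw [TrivSqZeroExt.fst_pow, TrivSqZeroExt.fst_zero, hzfst, pow_succ, htn, zero_mul]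
    · have hp : (n + 1).pred = n := rfl
      rw [TrivSqZeroExt.snd_pow, hp, hzfst, htn, zero_smul, smul_zero, TrivSqZeroExt.snd_zero]
  let φ₀ : k[X] →ₐ[k] TrivSqZeroExt (B ⧸ I) (B ⧸ I) := aeval z
  let φ₁ : (k[X] ⧸ Ideal.span {(X : k[X]) ^ (n + 1)}) →ₐ[k] TrivSqZeroExt (B ⧸ I) (B ⧸ I) :=
    Ideal.Quotient.liftₐ _ φ₀ (by
      intro a ha
      obtain ⟨q, rfl⟩ := Ideal.mem_span_singleton.mp ha
      show aeval z (X ^ (n + 1) * q) = 0
      rw [map_mul, map_pow, aeval_X, hz, zero_mul])
  let φ : D →ₐ[k] TrivSqZeroExt (B ⧸ I) (B ⧸ I) := φ₁.comp (e.symm : D →ₐ[k] _)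
  have hφ : ∀ p : k[X], φ (aeval τ p) = aeval z p := by
    intro p
    rw [← e_mk e he p]
    show φ₁ (e.symm (e (Ideal.Quotient.mk _ p))) = _
    rw [e.symm_apply_apply]
    rfl
  have hτ' : algebraMap D (B ⧸ I) τ = Ideal.Quotient.mk I t := by
    rw [IsScalarTower.algebraMap_apply D B (B ⧸ I), Ideal.Quotient.algebraMap_eq, ← ht]
  have hfst : ∀ x : D, (φ x).fst = algebraMap D (B ⧸ I) x := by
    intro x
    obtain ⟨p, rfl⟩ := exists_aeval e he x
    rw [hφ]
    have h1 : (TrivSqZeroExt.fstHom k (B ⧸ I) (B ⧸ I)) (aeval z p)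
        = aeval ((TrivSqZeroExt.fstHom k (B ⧸ I) (B ⧸ I)) z) p :=
      (Polynomial.aeval_algHom_apply _ z p).symm
    have h2 : (IsScalarTower.toAlgHom k D (B ⧸ I)) (aeval τ p)
        = aeval ((IsScalarTower.toAlgHom k D (B ⧸ I)) τ) p :=
      (Polynomial.aeval_algHom_apply _ τ p).symm
    have h3 : (TrivSqZeroExt.fstHom k (B ⧸ I) (B ⧸ I)) z = Ideal.Quotient.mk I t := hzfst
    have h4 : (IsScalarTower.toAlgHom k D (B ⧸ I)) τ = Ideal.Quotient.mk I t := hτ'
    rw [h3] at h1
    rw [h4] at h2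
    exact h1.trans h2.symm
  letI algDC : Algebra D (TrivSqZeroExt (B ⧸ I) (B ⧸ I)) := φ.toRingHom.toAlgebra
  let gD : TrivSqZeroExt (B ⧸ I) (B ⧸ I) →ₐ[D] (B ⧸ I) :=
    { toRingHom := (TrivSqZeroExt.fstHom k (B ⧸ I) (B ⧸ I)).toRingHom
      commutes' := fun d => hfst d }
  have hgD : ∀ x, gD x = x.fst := fun x => rfl
  have hg : Function.Surjective gD := fun b => ⟨TrivSqZeroExt.inl b, rfl⟩
  have hg' : IsNilpotent (RingHom.ker (gD : TrivSqZeroExt (B ⧸ I) (B ⧸ I) →+* (B ⧸ I))) := by
    refine ⟨2, ?_⟩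
    have hk : RingHom.ker (gD : TrivSqZeroExt (B ⧸ I) (B ⧸ I) →+* (B ⧸ I)) ^ 2
        = RingHom.ker (gD : TrivSqZeroExt (B ⧸ I) (B ⧸ I) →+* (B ⧸ I))
          * RingHom.ker (gD : TrivSqZeroExt (B ⧸ I) (B ⧸ I) →+* (B ⧸ I)) := pow_two _
    rw [hk, Ideal.zero_eq_bot, eq_bot_iff, Ideal.mul_le]
    intro x hx y hy
    have hx' : x.fst = 0 := RingHom.mem_ker.mp hx
    have hy' : y.fst = 0 := RingHom.mem_ker.mp hy
    rw [Ideal.mem_bot]
    apply TrivSqZeroExt.ext
    · rw [TrivSqZeroExt.fst_mul, hx', zero_mul, TrivSqZeroExt.fst_zero]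
    · rw [TrivSqZeroExt.snd_mul, hx', hy', zero_smul, MulOpposite.op_zero, zero_smul, add_zero,
        TrivSqZeroExt.snd_zero]
  let fB : B →ₐ[D] (B ⧸ I) := IsScalarTower.toAlgHom D B (B ⧸ I)
  let Φ : B →ₐ[D] TrivSqZeroExt (B ⧸ I) (B ⧸ I) :=
    Algebra.FormallySmooth.liftOfSurjective fB gD hg hg'
  have hΦ : ∀ b, (Φ b).fst = Ideal.Quotient.mk I b := fun b =>
    Algebra.FormallySmooth.liftOfSurjective_apply fB gD hg hg' b
  have hΦD : ∀ d : D, Φ (algebraMap D B d) = φ d := fun d => Φ.commutes d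
  have hΦk : ∀ (c : k) (b : B), Φ (c • b) = c • Φ b := by
    intro c b
    rw [Algebra.smul_def, map_mul, IsScalarTower.algebraMap_apply k D B, hΦD, φ.commutes,
      ← Algebra.smul_def]
  have e1 : ∀ (a : B) (m : B ⧸ I), a • m = Ideal.Quotient.mk I a * m :=
    fun a m => Algebra.smul_def a m
  let δ : Derivation k B (B ⧸ I) :=
    { toLinearMap :=
        { toFun := fun b => (Φ b).snd
          map_add' := fun a b => by rw [map_add, TrivSqZeroExt.snd_add]
          map_smul' := fun c b => by rw [hΦk, TrivSqZeroExt.snd_smul]; rfl }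
      map_one_eq_zero' := by
        show (Φ 1).snd = 0
        rw [map_one, TrivSqZeroExt.snd_one]
      leibniz' := fun a b => by
        show (Φ (a * b)).snd = a • (Φ b).snd + b • (Φ a).snd
        rw [map_mul, TrivSqZeroExt.snd_mul, op_smul_eq_smul, hΦ a, hΦ b, smul_eq_mul, smul_eq_mul,
          e1, e1] }
  refine ⟨δ, ?_⟩
  show (Φ t).snd = 1
  have hφτ : φ τ = z := by
    have := hφ X
    rwa [aeval_X, aeval_X] at this
  rw [ht, hΦD, hφτ, hzsnd]

end deriv

section assembly
variable {k : Type u} [Field k] [CharZero k] {n : ℕ} {D : Type u} [CommRing D] [Algebra k D] {τ : D}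
  (e : (k[X] ⧸ Ideal.span {(X : k[X]) ^ (n + 1)}) ≃ₐ[k] D)
  (he : e (Ideal.Quotient.mk (Ideal.span {(X : k[X]) ^ (n + 1)}) X) = τ)
  {B : Type u} [CommRing B] [Algebra k B] [Algebra D B] [IsScalarTower k D B]
  {t : B} (ht : t = algebraMap D B τ)

local notation "B'" => B ⧸ Ideal.span {t ^ n}
local notation "jj" => LinearMap.toSpanSingleton (B ⧸ Ideal.span {t ^ n})
  ((B ⧸ Ideal.span {t ^ n}) ⊗[B] Ω[B⁄k])
  ((1 : (B ⧸ Ideal.span {t ^ n})) ⊗ₜ[B] KaehlerDifferential.D k B t)
local notation "qq" => LinearMap.baseChange (B ⧸ Ideal.span {t ^ n}) (KaehlerDifferential.map k D B B)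

omit [CharZero k] in
theorem pow_smul_one_eq_zero : (t ^ n) • (1 : B') = 0 := by
  rw [Algebra.smul_def, mul_one, Ideal.Quotient.algebraMap_eq]
  exact Ideal.Quotient.eq_zero_iff_mem.mpr (Ideal.mem_span_singleton_self _)

omit [CharZero k] in
theorem toSpanSingleton_mk (c : B) :
    jj (Ideal.Quotient.mk (Ideal.span {t ^ n}) c) =
      (1 : B') ⊗ₜ[B] (c • KaehlerDifferential.D k B t) := by
  have h1 : jj (Ideal.Quotient.mk (Ideal.span {t ^ n}) c) =
      (Ideal.Quotient.mk (Ideal.span {t ^ n}) c) ⊗ₜ[B] KaehlerDifferential.D k B t := by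
    rw [LinearMap.toSpanSingleton_apply, TensorProduct.smul_tmul', smul_eq_mul, mul_one]
  have h2 : (1 : B') ⊗ₜ[B] (c • KaehlerDifferential.D k B t) =
      (Ideal.Quotient.mk (Ideal.span {t ^ n}) c) ⊗ₜ[B] KaehlerDifferential.D k B t := by
    rw [← TensorProduct.smul_tmul, Algebra.smul_def, mul_one, Ideal.Quotient.algebraMap_eq]
  rw [h1, h2]

omit [CharZero k] in
theorem baseChange_surjective : Function.Surjective qq := by
  rw [LinearMap.baseChange_eq_ltensor]
  exact LinearMap.lTensor_surjective _ (KaehlerDifferential.map_surjective k D B)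

include he ht

omit [CharZero k] in
theorem exact_toSpanSingleton_baseChange : Function.Exact jj qq := by
  intro x
  constructor
  · intro hx
    have hex := lTensor_exact (B ⧸ Ideal.span {t ^ n})
      (KaehlerDifferential.exact_mapBaseChange_map k D B)
      (KaehlerDifferential.map_surjective k D B)
    have hx' : (LinearMap.lTensor (B ⧸ Ideal.span {t ^ n}) (KaehlerDifferential.map k D B B)) x
        = 0 := hx
    obtain ⟨y, hy⟩ := (hex x).mp hx'
    have key : ∀ y : (B ⧸ Ideal.span {t ^ n}) ⊗[B] (B ⊗[D] Ω[D⁄k]),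
        (LinearMap.lTensor (B ⧸ Ideal.span {t ^ n}) (KaehlerDifferential.mapBaseChange k D B)) y ∈
          LinearMap.range jj := by
      intro y
      induction y using TensorProduct.induction_on with
      | zero => rw [map_zero]; exact Submodule.zero_mem _
      | tmul b' z =>
        obtain ⟨b, hb⟩ := mapBaseChange_eq_smul e he ht z
        obtain ⟨b₀, rfl⟩ := Ideal.Quotient.mk_surjective b'
        refine ⟨Ideal.Quotient.mk _ (b₀ * b), ?_⟩
        rw [toSpanSingleton_mk, LinearMap.lTensor_tmul, hb, mul_smul]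
        have h3 : (Ideal.Quotient.mk (Ideal.span {t ^ n}) b₀) = b₀ • (1 : B') := by
          rw [Algebra.smul_def, mul_one, Ideal.Quotient.algebraMap_eq]
        rw [h3, TensorProduct.smul_tmul]
      | add y₁ y₂ h₁ h₂ => rw [map_add]; exact Submodule.add_mem _ h₁ h₂
    rw [← hy]
    exact key y
  · rintro ⟨b', rfl⟩
    rw [LinearMap.toSpanSingleton_apply, map_smul, LinearMap.baseChange_tmul,
      map_D_t_eq_zero e he ht, TensorProduct.tmul_zero, smul_zero]

section withsmooth
variable [Algebra.FiniteType k B] [Module.Flat D B] (hsm : Algebra.Smooth k (B ⧸ Ideal.span {t}))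
include hsm

omit [CharZero k] in
theorem toSpanSingleton_injective : Function.Injective jj := by
  haveI := (smooth e he ht hsm).formallySmooth
  obtain ⟨δ, hδ⟩ := exists_derivation (n := n) e he ht
  let ρ : Ω[B⁄k] →ₗ[B] (B ⧸ Ideal.span {t ^ n}) := δ.liftKaehlerDifferential
  let ρ' := ρ.liftBaseChange (B ⧸ Ideal.span {t ^ n})
  have hρ' : ∀ b', ρ' (jj b') = b' := by
    intro b'
    rw [LinearMap.toSpanSingleton_apply, map_smul, LinearMap.liftBaseChange_tmul, one_smul]
    show b' • δ.liftKaehlerDifferential (KaehlerDifferential.D k B t) = b'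
    rw [Derivation.liftKaehlerDifferential_comp_D, hδ, smul_eq_mul, mul_one]
  exact Function.LeftInverse.injective hρ'

omit [CharZero k] in
theorem projective_kaehler : Module.Projective B (Ω[B⁄D]) := by
  haveI := (smooth e he ht hsm).formallySmooth
  infer_instance

omit [CharZero k] in
theorem projective_baseChange_kaehler :
    Module.Projective (B ⧸ Ideal.span {t ^ n}) ((B ⧸ Ideal.span {t ^ n}) ⊗[B] Ω[B⁄k]) := by
  haveI := (smooth e he ht hsm).formallySmooth
  have hj : Function.Injective jj := toSpanSingleton_injective e he ht hsm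
  have hex : Function.Exact jj qq := exact_toSpanSingleton_baseChange e he ht
  have hq : Function.Surjective qq := baseChange_surjective
  obtain ⟨σ, hσ⟩ := Module.projective_lifting_property qq LinearMap.id hq
  exact Module.Projective.of_equiv (hex.splitSurjectiveEquiv hj ⟨σ, hσ⟩).1.symm

/-- the five claims of S18837 -/
theorem main37 :
    Module.Projective B (Ω[B⁄D]) ∧
    Module.Projective (B ⧸ Ideal.span {t ^ n}) ((B ⧸ Ideal.span {t ^ n}) ⊗[B] Ω[B⁄k]) ∧
    Function.Injective
      (LinearMap.toSpanSingleton (B ⧸ Ideal.span {t ^ n}) ((B ⧸ Ideal.span {t ^ n}) ⊗[B] Ω[B⁄k])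
        ((1 : (B ⧸ Ideal.span {t ^ n})) ⊗ₜ[B] KaehlerDifferential.D k B t)) ∧
    Function.Exact
      (LinearMap.toSpanSingleton (B ⧸ Ideal.span {t ^ n}) ((B ⧸ Ideal.span {t ^ n}) ⊗[B] Ω[B⁄k])
        ((1 : (B ⧸ Ideal.span {t ^ n})) ⊗ₜ[B] KaehlerDifferential.D k B t))
      (LinearMap.baseChange (B ⧸ Ideal.span {t ^ n}) (KaehlerDifferential.map k D B B)) ∧
    Function.Surjective
      (LinearMap.baseChange (B ⧸ Ideal.span {t ^ n}) (KaehlerDifferential.map k D B B)) :=
  ⟨projective_kaehler e he ht hsm, projective_baseChange_kaehler e he ht hsm,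
    toSpanSingleton_injective e he ht hsm, exact_toSpanSingleton_baseChange e he ht,
    baseChange_surjective⟩

/-- injectivity claim of S18838 -/
theorem inj38 (hn : 1 ≤ n) :
    Function.Injective (fun f : B =>
      ((Ideal.Quotient.mk (Ideal.span {t ^ n}) f,
        (1 : (B ⧸ Ideal.span {t ^ n})) ⊗ₜ[B] KaehlerDifferential.D k B f) :
        (B ⧸ Ideal.span {t ^ n}) × ((B ⧸ Ideal.span {t ^ n}) ⊗[B] Ω[B⁄k]))) := by
  have hinj : Function.Injective jj := toSpanSingleton_injective e he ht hsm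
  have key : ∀ g : B, Ideal.Quotient.mk (Ideal.span {t ^ n}) g = 0 →
      (1 : (B ⧸ Ideal.span {t ^ n})) ⊗ₜ[B] KaehlerDifferential.D k B g = 0 → g = 0 := by
    intro g hg1 hg2
    obtain ⟨h, rfl⟩ := Ideal.mem_span_singleton'.mp (Ideal.Quotient.eq_zero_iff_mem.mp hg1)
    have hD : KaehlerDifferential.D k B (h * t ^ n) =
        (h * (n : B) * t ^ (n - 1)) • KaehlerDifferential.D k B t
          + t ^ n • KaehlerDifferential.D k B h := by
      rw [Derivation.leibniz, Derivation.leibniz_pow, ← Nat.cast_smul_eq_nsmul B, smul_smul,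
        smul_smul]
    rw [hD, TensorProduct.tmul_add, ← toSpanSingleton_mk, ← TensorProduct.smul_tmul,
      pow_smul_one_eq_zero, TensorProduct.zero_tmul, add_zero] at hg2
    have hc0 : Ideal.Quotient.mk (Ideal.span {t ^ n}) (h * (n : B) * t ^ (n - 1)) = 0 :=
      hinj (by rw [hg2, map_zero])
    have hmem : (n : B) * (h * t ^ (n - 1)) ∈ Ideal.span {t ^ n} := by
      have := Ideal.Quotient.eq_zero_iff_mem.mp hc0
      have h5 : (n : B) * (h * t ^ (n - 1)) = h * (n : B) * t ^ (n - 1) := by ring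
      rw [h5]; exact this
    have hu : IsUnit (n : B) := by
      have : (n : B) = algebraMap k B (n : k) := (map_natCast (algebraMap k B) n).symm
      rw [this]
      exact (isUnit_iff_ne_zero.mpr (Nat.cast_ne_zero.mpr (by omega))).map (algebraMap k B)
    have hmem' : h * t ^ (n - 1) ∈ Ideal.span {t ^ n} :=
      (Ideal.unit_mul_mem_iff_mem _ hu).mp hmem
    obtain ⟨h', hh'⟩ := Ideal.mem_span_singleton'.mp hmem'
    have htt : t ^ (n - 1) * t = t ^ n := by rw [← pow_succ, Nat.sub_add_cancel hn]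
    have h3 : t ^ (n - 1) * (h - t * h') = 0 := by
      have : t ^ (n - 1) * (h - t * h') = h * t ^ (n - 1) - h' * (t ^ (n - 1) * t) := by ring
      rw [this, htt, hh', sub_self]
    obtain ⟨h'', hh''⟩ := exists_mul_of_pow_mul_eq_zero e he ht (a := n - 1) (c := 2)
      (by omega) h3
    have h4 : h = t * (h' + t * h'') := by
      have : h = (h - t * h') + t * h' := by ring
      rw [this, hh'']; ring
    rw [h4]
    have : t * (h' + t * h'') * t ^ n = (h' + t * h'') * t ^ (n + 1) := by ring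
    rw [this, t_pow e he ht, mul_zero]
  intro f f' hff
  have h1 := congrArg Prod.fst hff
  have h2 := congrArg Prod.snd hff
  dsimp only at h1 h2
  have := key (f - f') (by rw [map_sub, h1, sub_self])
    (by rw [map_sub, TensorProduct.tmul_sub, h2, sub_self])
  exact sub_eq_zero.mp this

/-- injectivity claim of S18839 -/
theorem inj39 :
    Function.Injective (fun η : Ω[B⁄k] =>
      ((KaehlerDifferential.map k D B B η, (1 : (B ⧸ Ideal.span {t ^ n})) ⊗ₜ[B] η) :
        Ω[B⁄D] × ((B ⧸ Ideal.span {t ^ n}) ⊗[B] Ω[B⁄k]))) := by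
  have hinj : Function.Injective jj := toSpanSingleton_injective e he ht hsm
  have key : ∀ η : Ω[B⁄k], KaehlerDifferential.map k D B B η = 0 →
      (1 : (B ⧸ Ideal.span {t ^ n})) ⊗ₜ[B] η = 0 → η = 0 := by
    intro η h1 h2
    obtain ⟨b, rfl⟩ := exists_smul_D_of_map_eq_zero e he ht h1
    rw [← toSpanSingleton_mk] at h2
    have hb0 : Ideal.Quotient.mk (Ideal.span {t ^ n}) b = 0 := hinj (by rw [h2, map_zero])
    obtain ⟨c, rfl⟩ := Ideal.mem_span_singleton'.mp (Ideal.Quotient.eq_zero_iff_mem.mp hb0)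
    rw [mul_smul, pow_smul_D_eq_zero e he ht, smul_zero]
  intro η η' hff
  have h1 := congrArg Prod.fst hff
  have h2 := congrArg Prod.snd hff
  dsimp only at h1 h2
  have := key (η - η') (by rw [map_sub, h1, sub_self])
    (by rw [TensorProduct.tmul_sub, h2, sub_self])
  exact sub_eq_zero.mp this

end withsmooth

omit [CharZero k] he ht in
/-- range claim of S18838 -/
theorem range38 :
    Set.range (fun f : B =>
      ((Ideal.Quotient.mk (Ideal.span {t ^ n}) f,
        (1 : (B ⧸ Ideal.span {t ^ n})) ⊗ₜ[B] KaehlerDifferential.D k B f) :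
        (B ⧸ Ideal.span {t ^ n}) × ((B ⧸ Ideal.span {t ^ n}) ⊗[B] Ω[B⁄k]))) =
      {p | KaehlerDifferential.D k (B ⧸ Ideal.span {t ^ n}) p.1 =
        KaehlerDifferential.mapBaseChange k B (B ⧸ Ideal.span {t ^ n}) p.2} := by
  ext ⟨g, α⟩
  constructor
  · rintro ⟨f, hf⟩
    have h1 := congrArg Prod.fst hf
    have h2 := congrArg Prod.snd hf
    dsimp only at h1 h2
    show KaehlerDifferential.D k B' g = KaehlerDifferential.mapBaseChange k B B' α
    rw [← h1, ← h2, KaehlerDifferential.mapBaseChange_tmul, one_smul, KaehlerDifferential.map_D]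
    rfl
  · intro hp
    have hp' : KaehlerDifferential.D k B' g = KaehlerDifferential.mapBaseChange k B B' α := hp
    obtain ⟨f₀, rfl⟩ := Ideal.Quotient.mk_surjective g
    have hsurj : Function.Surjective (algebraMap B B') := Ideal.Quotient.mk_surjective
    have hex := KaehlerDifferential.exact_kerCotangentToTensor_mapBaseChange k B B' hsurj
    have hker : KaehlerDifferential.mapBaseChange k B B'
        (α - (1 : B') ⊗ₜ[B] KaehlerDifferential.D k B f₀) = 0 := by
      rw [map_sub, ← hp', KaehlerDifferential.mapBaseChange_tmul, one_smul,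
        KaehlerDifferential.map_D]
      exact sub_self _
    obtain ⟨y, hy⟩ := (hex _).mp hker
    obtain ⟨x, rfl⟩ := Ideal.toCotangent_surjective _ y
    rw [KaehlerDifferential.kerCotangentToTensor_toCotangent] at hy
    refine ⟨f₀ + x.1, ?_⟩
    have hx : Ideal.Quotient.mk (Ideal.span {t ^ n}) x.1 = 0 := RingHom.mem_ker.mp x.2
    show ((Ideal.Quotient.mk (Ideal.span {t ^ n}) (f₀ + x.1),
        (1 : B') ⊗ₜ[B] KaehlerDifferential.D k B (f₀ + x.1)) : B' × (B' ⊗[B] Ω[B⁄k]))
      = (Ideal.Quotient.mk (Ideal.span {t ^ n}) f₀, α)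
    rw [map_add, map_add, hx, add_zero, TensorProduct.tmul_add, hy]
    congr 1
    abel

omit [CharZero k] he ht in
theorem map_map_eq (η : Ω[B⁄k]) :
    KaehlerDifferential.map D D B B' (KaehlerDifferential.map k D B B η) =
    KaehlerDifferential.map k D B' B' (KaehlerDifferential.map k k B B' η) := by
  have hη : η ∈ Submodule.span B (Set.range (KaehlerDifferential.D k B)) := by
    rw [KaehlerDifferential.span_range_derivation]; exact Submodule.mem_top
  refine Submodule.span_induction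
    (p := fun x _ => KaehlerDifferential.map D D B B' (KaehlerDifferential.map k D B B x) =
      KaehlerDifferential.map k D B' B' (KaehlerDifferential.map k k B B' x)) ?_ ?_ ?_ ?_ hη
  · rintro _ ⟨x, rfl⟩
    simp only [KaehlerDifferential.map_D, Algebra.algebraMap_self, RingHom.id_apply]
  · simp only [map_zero]
  · intro x y _ _ hx hy
    simp only [map_add, hx, hy]
  · intro b x _ hx
    have e1 : KaehlerDifferential.map k D B' B' (b • KaehlerDifferential.map k k B B' x) =
        b • KaehlerDifferential.map k D B' B' (KaehlerDifferential.map k k B B' x) := by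
      rw [← algebraMap_smul B' b (KaehlerDifferential.map k k B B' x), map_smul, algebraMap_smul]
    calc KaehlerDifferential.map D D B B' (KaehlerDifferential.map k D B B (b • x))
        = b • KaehlerDifferential.map D D B B' (KaehlerDifferential.map k D B B x) := by
          rw [LinearMap.map_smul (KaehlerDifferential.map k D B B) b x, LinearMap.map_smul]
      _ = b • KaehlerDifferential.map k D B' B' (KaehlerDifferential.map k k B B' x) := by rw [hx]
      _ = KaehlerDifferential.map k D B' B' (b • KaehlerDifferential.map k k B B' x) := e1.symm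
      _ = KaehlerDifferential.map k D B' B' (KaehlerDifferential.map k k B B' (b • x)) := by
          rw [LinearMap.map_smul (KaehlerDifferential.map k k B B') b x]

omit [CharZero k] he ht in
theorem mapBaseChange_baseChange (β : B' ⊗[B] Ω[B⁄k]) :
    KaehlerDifferential.mapBaseChange D B B' (qq β) =
    KaehlerDifferential.map k D B' B' (KaehlerDifferential.mapBaseChange k B B' β) := by
  induction β using TensorProduct.induction_on with
  | zero => simp only [map_zero]
  | tmul b' η =>
    rw [LinearMap.baseChange_tmul, KaehlerDifferential.mapBaseChange_tmul,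
      KaehlerDifferential.mapBaseChange_tmul, map_smul, map_map_eq]
  | add x y hx hy => simp only [map_add, hx, hy]

omit [CharZero k] he in
theorem mapBaseChange_D_injective :
    Function.Injective (KaehlerDifferential.mapBaseChange D B B') := by
  rw [injective_iff_map_eq_zero]
  intro x hx
  have hsurj : Function.Surjective (algebraMap B B') := Ideal.Quotient.mk_surjective
  obtain ⟨y, rfl⟩ :=
    (KaehlerDifferential.exact_kerCotangentToTensor_mapBaseChange D B B' hsurj x).mp hx
  obtain ⟨x₀, rfl⟩ := Ideal.toCotangent_surjective _ y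
  rw [KaehlerDifferential.kerCotangentToTensor_toCotangent]
  have hx₀ : Ideal.Quotient.mk (Ideal.span {t ^ n}) x₀.1 = 0 := RingHom.mem_ker.mp x₀.2
  obtain ⟨c, hc⟩ := Ideal.mem_span_singleton'.mp (Ideal.Quotient.eq_zero_iff_mem.mp hx₀)
  have h1 : KaehlerDifferential.D D B (t ^ n) = 0 := by
    rw [ht, ← map_pow, Derivation.map_algebraMap]
  rw [← hc, Derivation.leibniz, TensorProduct.tmul_add, h1, smul_zero, TensorProduct.tmul_zero,
    zero_add, ← TensorProduct.smul_tmul, pow_smul_one_eq_zero, TensorProduct.zero_tmul]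

omit [CharZero k] in
/-- range claim of S18839 -/
theorem range39 :
    Set.range (fun η : Ω[B⁄k] =>
      ((KaehlerDifferential.map k D B B η, (1 : (B ⧸ Ideal.span {t ^ n})) ⊗ₜ[B] η) :
        Ω[B⁄D] × ((B ⧸ Ideal.span {t ^ n}) ⊗[B] Ω[B⁄k]))) =
      {p | KaehlerDifferential.map D D B (B ⧸ Ideal.span {t ^ n}) p.1 =
        KaehlerDifferential.map k D (B ⧸ Ideal.span {t ^ n}) (B ⧸ Ideal.span {t ^ n})
          (KaehlerDifferential.mapBaseChange k B (B ⧸ Ideal.span {t ^ n}) p.2)} := by
  ext ⟨α, β⟩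
  constructor
  · rintro ⟨η, hη⟩
    have h1 := congrArg Prod.fst hη
    have h2 := congrArg Prod.snd hη
    dsimp only at h1 h2
    show KaehlerDifferential.map D D B B' α =
      KaehlerDifferential.map k D B' B' (KaehlerDifferential.mapBaseChange k B B' β)
    rw [← h1, ← h2, KaehlerDifferential.mapBaseChange_tmul, one_smul]
    exact map_map_eq η
  · intro hp
    have hp' : KaehlerDifferential.map D D B B' α =
      KaehlerDifferential.map k D B' B' (KaehlerDifferential.mapBaseChange k B B' β) := hp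
    obtain ⟨η₀, rfl⟩ := KaehlerDifferential.map_surjective k D B α
    have hq : qq (β - (1 : B') ⊗ₜ[B] η₀) = 0 := by
      apply mapBaseChange_D_injective (n := n) ht
      rw [map_zero, mapBaseChange_baseChange, map_sub, map_sub, ← hp',
        KaehlerDifferential.mapBaseChange_tmul, one_smul, ← map_map_eq, sub_self]
    obtain ⟨b', hb'⟩ := (exact_toSpanSingleton_baseChange e he ht _).mp hq
    obtain ⟨b, rfl⟩ := Ideal.Quotient.mk_surjective b'
    refine ⟨η₀ + b • KaehlerDifferential.D k B t, ?_⟩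
    show ((KaehlerDifferential.map k D B B (η₀ + b • KaehlerDifferential.D k B t),
        (1 : B') ⊗ₜ[B] (η₀ + b • KaehlerDifferential.D k B t)) : Ω[B⁄D] × (B' ⊗[B] Ω[B⁄k]))
      = (KaehlerDifferential.map k D B B η₀, β)
    rw [map_add, map_smul, map_D_t_eq_zero e he ht, smul_zero, add_zero, TensorProduct.tmul_add,
      ← toSpanSingleton_mk, hb']
    congr 1
    abel

end assembly

end Groth.Agent.H20.DeformD
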