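import Mathlib
import Groth.Prelude.Def_FlatCA

/-!
# `H20.DevPt`: base change `R → R'` with `κ(p) ≅ κ(p')` — fibre rings, primes, residue fields

Setting: `p' ⊆ R'` a prime over `p ⊆ R` with `κ(p) → κ(p')` bijective, `T' = T ⊗_R R'` a pushout.

* `θ p R' p' T T' : p.Fiber T →ₐ[R] p'.Fiber T'`, `θ_tmul`, `θ_bijective`.
* `eq_of_liesOver`: a prime of `T'` is determined by its contractions to `T` and to `R'`.
* `residueField_map_bijective`: `κ(y) → κ(y')` is bijective for `y'` over `y` and `p'`.
* `ptrans_transport`: transport of "generated by a transcendence basis" along compatible ring isos.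
* `purelyTranscendental_baseChange`: `FlatCA.PurelyTranscendental p y → FlatCA.PurelyTranscendental p' y'`.
-/

set_option autoImplicit false
universe u
open TensorProduct

namespace Groth.Agent.H20.DevPt

section Theta

variable {R : Type u} [CommRing R] (p : Ideal R) [p.IsPrime]
  (R' : Type u) [CommRing R'] [Algebra R R'] (p' : Ideal R') [p'.IsPrime] [hp' : p'.LiesOver p]
  (T : Type u) [CommRing T] [Algebra R T]
  (T' : Type u) [CommRing T'] [Algebra R' T'] [Algebra R T'] [Algebra T T'] [IsScalarTower R R' T']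
  [IsScalarTower R T T']

/-- the comparison map of fibre rings `κ(p) ⊗_R T → κ(p') ⊗_{R'} T'`. -/
noncomputable def θ : p.Fiber T →ₐ[R] p'.Fiber T' :=
  Algebra.TensorProduct.lift
    (((Algebra.TensorProduct.includeLeft :
        p'.ResidueField →ₐ[R'] p'.ResidueField ⊗[R'] T').restrictScalars R).comp
      (Ideal.ResidueField.mapₐ p p' (Algebra.ofId R R') hp'.over))
    (((Algebra.TensorProduct.includeRight :
        T' →ₐ[R'] p'.ResidueField ⊗[R'] T').restrictScalars R).comp
      (IsScalarTower.toAlgHom R T T'))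
    (fun _ _ => Commute.all _ _)

theorem θ_tmul (a : p.ResidueField) (t : T) :
    θ p R' p' T T' (a ⊗ₜ[R] t) =
      (Ideal.ResidueField.mapₐ p p' (Algebra.ofId R R') hp'.over a) ⊗ₜ[R'] (algebraMap T T' t) := by
  unfold θ
  rw [Algebra.TensorProduct.lift_tmul]
  simp only [AlgHom.coe_comp, AlgHom.coe_restrictScalars', Function.comp_apply,
    Algebra.TensorProduct.includeLeft_apply, Algebra.TensorProduct.includeRight_apply,
    IsScalarTower.coe_toAlgHom', Algebra.TensorProduct.tmul_mul_tmul, mul_one, one_mul]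

theorem θ_comp_includeRight :
    (θ p R' p' T T' : p.Fiber T →+* p'.Fiber T').comp
        (Algebra.TensorProduct.includeRight : T →ₐ[R] p.ResidueField ⊗[R] T).toRingHom =
      (Algebra.TensorProduct.includeRight : T' →ₐ[R'] p'.ResidueField ⊗[R'] T').toRingHom.comp
        (algebraMap T T') := by
  ext t
  show θ p R' p' T T' ((1 : p.ResidueField) ⊗ₜ[R] t) = (1 : p'.ResidueField) ⊗ₜ[R'] algebraMap T T' t
  rw [θ_tmul, map_one]

theorem θ_bijective [Algebra.IsPushout R R' T T']
    (hκ : Function.Bijective (Ideal.ResidueField.mapₐ p p' (Algebra.ofId R R') hp'.over)) :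
    Function.Bijective (θ p R' p' T T') := by
  let σ : p.ResidueField ≃ₗ[R] p'.ResidueField :=
    LinearEquiv.ofBijective
      (Ideal.ResidueField.mapₐ p p' (Algebra.ofId R R') hp'.over).toLinearMap hκ
  let e₁ : p.ResidueField ⊗[R] T ≃ₗ[R] p'.ResidueField ⊗[R] T :=
    TensorProduct.congr σ (LinearEquiv.refl R T)
  let e₂ : p'.ResidueField ⊗[R] T ≃ₗ[R'] p'.ResidueField ⊗[R'] (R' ⊗[R] T) :=
    (TensorProduct.AlgebraTensorModule.cancelBaseChange R R' R' p'.ResidueField T).symm
  let e₃ : p'.ResidueField ⊗[R'] (R' ⊗[R] T) ≃ₗ[R'] p'.ResidueField ⊗[R'] T' :=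
    TensorProduct.congr (LinearEquiv.refl R' p'.ResidueField)
      (Algebra.IsPushout.equiv R R' T T').toLinearEquiv
  have key : ∀ x, θ p R' p' T T' x = e₃ (e₂ (e₁ x)) := by
    intro x
    induction x using TensorProduct.induction_on with
    | zero => simp
    | tmul a t =>
      rw [θ_tmul]
      have h1 : e₁ (a ⊗ₜ[R] t) = (σ a) ⊗ₜ[R] t := by
        simp only [e₁, TensorProduct.congr_tmul, LinearEquiv.refl_apply]
      have h2 : e₂ ((σ a) ⊗ₜ[R] t) = (σ a) ⊗ₜ[R'] ((1 : R') ⊗ₜ[R] t) := rfl
      have h3 : e₃ ((σ a) ⊗ₜ[R'] ((1 : R') ⊗ₜ[R] t)) = (σ a) ⊗ₜ[R'] (algebraMap T T' t) := by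
        simp only [e₃, TensorProduct.congr_tmul, LinearEquiv.refl_apply,
          AlgEquiv.toLinearEquiv_apply, Algebra.IsPushout.equiv_tmul, map_one, one_mul]
      rw [h1, h2, h3]
      rfl
    | add x y hx hy => rw [map_add, hx, hy, map_add, map_add, map_add]
  have hfun : (θ p R' p' T T' : p.Fiber T → p'.Fiber T') = e₃ ∘ e₂ ∘ e₁ := funext key
  rw [hfun]
  exact e₃.bijective.comp (e₂.bijective.comp e₁.bijective)

/-- A prime of `T'` is determined by its contractions to `T` and to `R'` when `κ(p) ≅ κ(p')`. -/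
theorem eq_of_liesOver [Algebra.IsPushout R R' T T']
    (hκ : Function.Bijective (Ideal.ResidueField.mapₐ p p' (Algebra.ofId R R') hp'.over))
    (P : Ideal T) (P₁ P₂ : Ideal T') [hP₁ : P₁.IsPrime] [hP₂ : P₂.IsPrime]
    [h1 : P₁.LiesOver P] [h1' : P₁.LiesOver p'] [h2 : P₂.LiesOver P] [h2' : P₂.LiesOver p'] :
    P₁ = P₂ := by
  let x₁ : p'.primesOver T' := ⟨P₁, hP₁, h1'⟩
  let x₂ : p'.primesOver T' := ⟨P₂, hP₂, h2'⟩
  let Q₁ : PrimeSpectrum (p'.Fiber T') := PrimeSpectrum.primesOverOrderIsoFiber R' T' p' x₁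
  let Q₂ : PrimeSpectrum (p'.Fiber T') := PrimeSpectrum.primesOverOrderIsoFiber R' T' p' x₂
  have hQ₁ : Q₁.asIdeal.comap
      (Algebra.TensorProduct.includeRight : T' →ₐ[R'] p'.ResidueField ⊗[R'] T').toRingHom = P₁ := by
    have h := congrArg Subtype.val
      ((PrimeSpectrum.primesOverOrderIsoFiber R' T' p').symm_apply_apply x₁)
    exact h
  have hQ₂ : Q₂.asIdeal.comap
      (Algebra.TensorProduct.includeRight : T' →ₐ[R'] p'.ResidueField ⊗[R'] T').toRingHom = P₂ := by
    have h := congrArg Subtype.val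
      ((PrimeSpectrum.primesOverOrderIsoFiber R' T' p').symm_apply_apply x₂)
    exact h
  suffices hQ : Q₁ = Q₂ by rw [← hQ₁, ← hQ₂, hQ]
  have hθ := θ_bijective p R' p' T T' hκ
  have hinj : Function.Injective
      (PrimeSpectrum.comap (θ p R' p' T T' : p.Fiber T →+* p'.Fiber T')) :=
    PrimeSpectrum.comap_injective_of_surjective _ hθ.2
  apply hinj
  apply (PrimeSpectrum.primesOverOrderIsoFiber R T p).symm.injective
  apply Subtype.ext
  show ((PrimeSpectrum.comap (θ p R' p' T T' : p.Fiber T →+* p'.Fiber T') Q₁).asIdeal).comap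
      (Algebra.TensorProduct.includeRight : T →ₐ[R] p.ResidueField ⊗[R] T).toRingHom =
    ((PrimeSpectrum.comap (θ p R' p' T T' : p.Fiber T →+* p'.Fiber T') Q₂).asIdeal).comap
      (Algebra.TensorProduct.includeRight : T →ₐ[R] p.ResidueField ⊗[R] T).toRingHom
  rw [PrimeSpectrum.comap_asIdeal, PrimeSpectrum.comap_asIdeal, Ideal.comap_comap,
    Ideal.comap_comap, θ_comp_includeRight, ← Ideal.comap_comap, ← Ideal.comap_comap, hQ₁, hQ₂]
  show P₁.under T = P₂.under T
  rw [← h1.over, ← h2.over]

end Theta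

section Transport

/-- transport of "purely transcendental, generated by a transcendence basis" along compatible
ring isomorphisms of base and top fields. -/
theorem ptrans_transport {k k' E E' : Type u} [Field k] [Field k'] [Field E] [Field E']
    [Algebra k E] [Algebra k' E'] (σ : k ≃+* k') (τ : E ≃+* E')
    (hcomm : ∀ a : k, algebraMap k' E' (σ a) = τ (algebraMap k E a))
    {ι : Type u} (x : ι → E) (hx : IsTranscendenceBasis k x)
    (hgen : IntermediateField.adjoin k (Set.range x) = ⊤) :
    IsTranscendenceBasis k' (τ ∘ x) ∧ IntermediateField.adjoin k' (Set.range (τ ∘ x)) = ⊤ := by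
  have h : (algebraMap k' E').comp σ.toRingHom = τ.toRingHom.comp (algebraMap k E) :=
    RingHom.ext hcomm
  constructor
  · refine ⟨?_, ?_⟩
    · exact AlgebraicIndependent.ringHom_of_comp_eq (f := σ.toRingHom) (g := τ.toRingHom) hx.1
        σ.surjective τ.injective h
    · intro s hs hsub
      let s₀ : Set E := τ ⁻¹' s
      have hs₀ : AlgebraicIndependent k ((↑) : s₀ → E) := by
        refine AlgebraicIndependent.of_ringHom_of_comp_eq (f := σ.toRingHom) (g := τ.toRingHom)
          ?_ σ.injective h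
        let φ : s₀ → s := fun a => ⟨τ a.1, a.2⟩
        have hφ : Function.Injective φ := fun a b hab =>
          Subtype.ext (τ.injective (congrArg Subtype.val hab))
        exact hs.comp φ hφ
      have hsub₀ : Set.range x ≤ s₀ := by
        rintro _ ⟨i, rfl⟩
        exact hsub ⟨i, rfl⟩
      have h0 := hx.2 s₀ hs₀ hsub₀
      rw [Set.range_comp, h0]
      exact Set.image_preimage_eq s τ.surjective
  · rw [eq_top_iff]
    intro e' _
    obtain ⟨e, rfl⟩ := τ.surjective e'
    have he : e ∈ IntermediateField.adjoin k (Set.range x) := by rw [hgen]; trivial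
    refine IntermediateField.adjoin_induction k
      (p := fun e _ => τ e ∈ IntermediateField.adjoin k' (Set.range (τ ∘ x))) ?_ ?_ ?_ ?_ ?_ he
    · rintro a ⟨i, rfl⟩
      exact IntermediateField.subset_adjoin _ _ ⟨i, rfl⟩
    · intro a
      rw [← hcomm]
      exact (IntermediateField.adjoin k' (Set.range (τ ∘ x))).algebraMap_mem (σ a)
    · intro a b _ _ ha hb
      rw [map_add]
      exact add_mem ha hb
    · intro a _ ha
      rw [map_inv₀]
      exact inv_mem ha
    · intro a b _ _ ha hb
      rw [map_mul]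
      exact mul_mem ha hb

end Transport

section PTrans

variable {R D : Type u} [CommRing R] [CommRing D] [Algebra R D] (p : Ideal R) [p.IsPrime]
  (y : Ideal D) [y.IsPrime] [hy : y.LiesOver p]
  (R' : Type u) [CommRing R'] [Algebra R R'] (p' : Ideal R') [p'.IsPrime] [hp' : p'.LiesOver p]
  (D' : Type u) [CommRing D'] [Algebra R' D'] [Algebra R D'] [Algebra D D'] [IsScalarTower R R' D']
  [IsScalarTower R D D']
  (y' : Ideal D') [y'.IsPrime] [hyy' : y'.LiesOver y] [hy' : y'.LiesOver p']

/-- the square of residue fields commutes. -/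
theorem residueField_square (a : p.ResidueField) :
    Ideal.ResidueField.mapₐ p' y' (Algebra.ofId R' D') hy'.over
        (Ideal.ResidueField.mapₐ p p' (Algebra.ofId R R') hp'.over a) =
      Ideal.ResidueField.mapₐ y y' (Algebra.ofId D D') hyy'.over
        (Ideal.ResidueField.mapₐ p y (Algebra.ofId R D) hy.over a) := by
  have h : ((Ideal.ResidueField.mapₐ p' y' (Algebra.ofId R' D') hy'.over).toRingHom.comp
        (Ideal.ResidueField.mapₐ p p' (Algebra.ofId R R') hp'.over).toRingHom) =
      ((Ideal.ResidueField.mapₐ y y' (Algebra.ofId D D') hyy'.over).toRingHom.comp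
        (Ideal.ResidueField.mapₐ p y (Algebra.ofId R D) hy.over).toRingHom) := by
    apply Ideal.ResidueField.ringHom_ext
    ext r
    simp only [RingHom.coe_comp, Function.comp_apply, AlgHom.toRingHom_eq_coe, RingHom.coe_coe,
      Ideal.ResidueField.mapₐ_apply, Ideal.ResidueField.map_algebraMap]
    congr 1
    show algebraMap R' D' (algebraMap R R' r) = algebraMap D D' (algebraMap R D r)
    rw [← IsScalarTower.algebraMap_apply R R' D', ← IsScalarTower.algebraMap_apply R D D']
  exact RingHom.congr_fun h a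

theorem residueField_map_bijective [Algebra.IsPushout R R' D D']
    (hκ : Function.Bijective (Ideal.ResidueField.mapₐ p p' (Algebra.ofId R R') hp'.over)) :
    Function.Bijective (Ideal.ResidueField.mapₐ y y' (Algebra.ofId D D') hyy'.over) := by
  refine ⟨(Ideal.ResidueField.mapₐ y y' (Algebra.ofId D D') hyy'.over).toRingHom.injective, ?_⟩
  set τ₀ := Ideal.ResidueField.mapₐ y y' (Algebra.ofId D D') hyy'.over with hτ₀
  let K : Subfield y'.ResidueField := τ₀.toRingHom.fieldRange
  have hD : ∀ d' : D', algebraMap D' y'.ResidueField d' ∈ K := by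
    intro d'
    refine (Algebra.IsPushout.out (R := R) (S := R') (R' := D) (S' := D')).inductionOn d'
      (fun d' => algebraMap D' y'.ResidueField d' ∈ K) ?_ ?_ ?_ ?_
    · rw [map_zero]; exact zero_mem K
    · intro d
      refine ⟨algebraMap D y.ResidueField d, ?_⟩
      show τ₀ (algebraMap D y.ResidueField d) = algebraMap D' y'.ResidueField (algebraMap D D' d)
      rw [hτ₀, Ideal.ResidueField.mapₐ_apply, Ideal.ResidueField.map_algebraMap]
      rfl
    · intro r' x hx
      rw [Algebra.smul_def, map_mul]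
      refine mul_mem ?_ hx
      obtain ⟨c, hc⟩ := hκ.2 (algebraMap R' p'.ResidueField r')
      refine ⟨Ideal.ResidueField.mapₐ p y (Algebra.ofId R D) hy.over c, ?_⟩
      show τ₀ (Ideal.ResidueField.mapₐ p y (Algebra.ofId R D) hy.over c) = _
      rw [hτ₀, ← residueField_square p y R' p' D' y' c, hc, Ideal.ResidueField.mapₐ_apply,
        Ideal.ResidueField.map_algebraMap]
      rfl
    · intro a b ha hb
      rw [map_add]; exact add_mem ha hb
  intro e'
  obtain ⟨u, v, _, rfl⟩ := IsFractionRing.div_surjective (A := D' ⧸ y') e'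
  obtain ⟨u, rfl⟩ := Ideal.Quotient.mk_surjective u
  obtain ⟨v, rfl⟩ := Ideal.Quotient.mk_surjective v
  rw [Ideal.algebraMap_quotient_residueField_mk, Ideal.algebraMap_quotient_residueField_mk]
  obtain ⟨b₁, hb₁⟩ := hD u
  obtain ⟨b₂, hb₂⟩ := hD v
  refine ⟨b₁ / b₂, ?_⟩
  rw [map_div₀]
  show τ₀.toRingHom b₁ / τ₀.toRingHom b₂ = _
  rw [hb₁, hb₂]

theorem purelyTranscendental_baseChange [Algebra.IsPushout R R' D D']
    (h4 : FlatCA.PurelyTranscendental p y)
    (hκ : Function.Bijective (Ideal.ResidueField.mapₐ p p' (Algebra.ofId R R') hp'.over)) :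
    FlatCA.PurelyTranscendental p' y' := by
  let alg1 : Algebra p.ResidueField y.ResidueField :=
    (Ideal.ResidueField.mapₐ p y (Algebra.ofId R D) hy.over).toRingHom.toAlgebra
  let alg2 : Algebra p'.ResidueField y'.ResidueField :=
    (Ideal.ResidueField.mapₐ p' y' (Algebra.ofId R' D') hy'.over).toRingHom.toAlgebra
  obtain ⟨ι, x, hx, hgen⟩ := h4
  let σ : p.ResidueField ≃+* p'.ResidueField :=
    RingEquiv.ofBijective (Ideal.ResidueField.mapₐ p p' (Algebra.ofId R R') hp'.over).toRingHom hκ
  let τ : y.ResidueField ≃+* y'.ResidueField :=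
    RingEquiv.ofBijective (Ideal.ResidueField.mapₐ y y' (Algebra.ofId D D') hyy'.over).toRingHom
      (residueField_map_bijective p y R' p' D' y' hκ)
  have hcomm : ∀ a : p.ResidueField,
      algebraMap p'.ResidueField y'.ResidueField (σ a) =
        τ (algebraMap p.ResidueField y.ResidueField a) :=
    fun a => residueField_square p y R' p' D' y' a
  have := ptrans_transport σ τ hcomm x hx hgen
  exact ⟨ι, τ ∘ x, this.1, this.2⟩

end PTrans

end Groth.Agent.H20.DevPt
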