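import Mathlib

/-!
# `H20.ShrinkAlg`: algebra / module / prime bookkeeping for `Localization.Away`

Generic lemmas used for standard shrinkings of dévissages (S12241, S12242).
-/

set_option autoImplicit false
universe u

namespace Groth.Agent.H20.ShrinkAlg

open Localization

/-- An `A`-algebra `B` in which `a` becomes a unit is an `A[1/a]`-algebra, compatibly. -/
theorem exists_algebra_away {A : Type u} [CommRing A] (a : A) (B : Type u) [CommRing B]
    [Algebra A B] (h : IsUnit (algebraMap A B a)) :
    ∃ (_ : Algebra (Localization.Away a) B), IsScalarTower A (Localization.Away a) B := by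
  let φ : Localization.Away a →+* B := IsLocalization.Away.lift a h
  refine ⟨φ.toAlgebra, ?_⟩
  letI := φ.toAlgebra
  refine IsScalarTower.of_algebraMap_eq fun r => ?_
  show algebraMap A B r = φ (algebraMap A (Localization.Away a) r)
  exact (IsLocalization.Away.lift_eq a h r).symm

/-- compatibility of `A[1/a]`-algebra structures along `B → C`. -/
theorem isScalarTower_away {A : Type u} [CommRing A] (a : A) (B C : Type u) [CommRing B]
    [CommRing C] [Algebra A B] [Algebra A C] [Algebra B C] [IsScalarTower A B C]
    [Algebra (Localization.Away a) B] [Algebra (Localization.Away a) C]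
    [IsScalarTower A (Localization.Away a) B] [IsScalarTower A (Localization.Away a) C] :
    IsScalarTower (Localization.Away a) B C := by
  refine IsScalarTower.of_algebraMap_eq' ?_
  refine IsLocalization.ringHom_ext (Submonoid.powers a) ?_
  ext r
  simp only [RingHom.coe_comp, Function.comp_apply]
  rw [← IsScalarTower.algebraMap_apply A (Localization.Away a) C,
    ← IsScalarTower.algebraMap_apply A (Localization.Away a) B,
    ← IsScalarTower.algebraMap_apply A B C]

/-- restriction of scalars along an algebra map, as an existential. -/
theorem exists_module_compHom (A B M : Type u) [CommRing A] [CommRing B] [Algebra A B]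
    [AddCommGroup M] [Module B M] : ∃ (_ : Module A M), IsScalarTower A B M :=
  ⟨Module.compHom M (algebraMap A B),
    letI := Module.compHom M (algebraMap A B)
    IsScalarTower.of_algebraMap_smul fun _ _ => rfl⟩

section Primes

variable {B : Type u} [CommRing B] (b : B) (P : Ideal B) [hP : P.IsPrime]

theorem disjoint_powers (hb : b ∉ P) : Disjoint (Submonoid.powers b : Set B) (P : Set B) := by
  rw [Set.disjoint_left]
  rintro _ ⟨k, rfl⟩ hk
  exact hb (hP.mem_of_pow_mem k hk)

theorem isPrime_map_away (hb : b ∉ P) : (P.map (algebraMap B (Localization.Away b))).IsPrime :=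
  IsLocalization.isPrime_of_isPrime_disjoint (Submonoid.powers b) _ P hP (disjoint_powers b P hb)

theorem under_map_away (hb : b ∉ P) :
    (P.map (algebraMap B (Localization.Away b))).comap (algebraMap B (Localization.Away b)) = P :=
  IsLocalization.under_map_of_isPrime_disjoint (Submonoid.powers b) _ hP (disjoint_powers b P hb)

theorem map_under_away (J : Ideal (Localization.Away b)) :
    (J.comap (algebraMap B (Localization.Away b))).map (algebraMap B (Localization.Away b)) = J :=
  IsLocalization.map_under (Submonoid.powers b) _ J

end Primes

/-- extended primes lie over extended primes. -/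
theorem liesOver_map_away {A B : Type u} [CommRing A] [CommRing B] [Algebra A B] (a : A) (b : B)
    [Algebra (Localization.Away a) (Localization.Away b)]
    [IsScalarTower A (Localization.Away a) (Localization.Away b)]
    (P : Ideal A) (Q : Ideal B) [hQ : Q.IsPrime] [hQP : Q.LiesOver P] (hb : b ∉ Q) :
    (Q.map (algebraMap B (Localization.Away b))).LiesOver
      (P.map (algebraMap A (Localization.Away a))) := by
  constructor
  -- `J := (Q B_b) ∩ A_a`; `J = (J ∩ A) A_a` and `J ∩ A = Q ∩ A = P`.
  set J : Ideal (Localization.Away a) :=
    (Q.map (algebraMap B (Localization.Away b))).comap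
      (algebraMap (Localization.Away a) (Localization.Away b)) with hJ
  have h1 : J.comap (algebraMap A (Localization.Away a)) = P := by
    rw [hJ, Ideal.comap_comap, ← IsScalarTower.algebraMap_eq,
      IsScalarTower.algebraMap_eq A B (Localization.Away b), ← Ideal.comap_comap,
      under_map_away b Q hb]
    exact hQP.over.symm
  show _ = J
  rw [← map_under_away a J, h1]

/-- a prime of `C[1/c]` is determined by its contraction to `C`. -/
theorem eq_map_of_under_eq {C : Type u} [CommRing C] (c : C) (z : Ideal C)
    (z₂ : Ideal (Localization.Away c))
    (h : z₂.comap (algebraMap C (Localization.Away c)) = z) :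
    z₂ = z.map (algebraMap C (Localization.Away c)) := by
  rw [← h, map_under_away]

end Groth.Agent.H20.ShrinkAlg
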