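import Mathlib
import Groth.Prelude.Def_FlatCA
import Groth.Prelude.Def_Flat
import Groth.Agent.S6284
import Groth.Agent.S10825
import Groth.Agent.H9.FibDimTop
import Groth.Agent.H20.DevPt
import Groth.Agent.H20.ShrinkAlg

/-!
# `H20.ShrinkFib`: fibre rings, supports and local dimension under a standard shrinking

`R → S`, `p ⊆ R` prime, `g ∉ p`, `hX : S`, with `R[1/g] → S[1/hX]` compatible.  The fibre ring of
`S[1/hX]` over `pR[1/g]` is an open piece of the fibre ring of `S` over `p`; the support of the fibre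
module of `N[1/hX]` is the corresponding open piece of the support of the fibre module of `N`.
-/

set_option autoImplicit false
set_option linter.style.haveILetI false
set_option linter.unusedSectionVars false
universe u
open TensorProduct

namespace Groth.Agent.H20.ShrinkFib

open Groth.Agent.H20

attribute [local instance] Algebra.TensorProduct.rightAlgebra

section General

variable {R : Type u} [CommRing R] (p : Ideal R) [p.IsPrime] (S : Type u) [CommRing S] [Algebra R S]

/-- every prime of the fibre ring is the extension of its contraction. -/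
theorem eq_fiberIdeal_comap (Q : Ideal (p.Fiber S)) [hQ : Q.IsPrime] :
    Q = FlatCA.fiberIdeal p
      (Q.comap (Algebra.TensorProduct.includeRight : S →ₐ[R] p.ResidueField ⊗[R] S).toRingHom) := by
  apply le_antisymm
  · intro x hx
    obtain ⟨r, hr, s, e⟩ := Ideal.Fiber.exists_smul_eq_one_tmul p x
    have hs : s ∈ Q.comap
        (Algebra.TensorProduct.includeRight : S →ₐ[R] p.ResidueField ⊗[R] S).toRingHom := by
      rw [Ideal.mem_comap]
      show (1 : p.ResidueField) ⊗ₜ[R] s ∈ Q
      rw [← e, Algebra.smul_def]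
      exact Q.mul_mem_left _ hx
    have h1 : (1 : p.ResidueField) ⊗ₜ[R] s ∈ FlatCA.fiberIdeal p
        (Q.comap (Algebra.TensorProduct.includeRight : S →ₐ[R] p.ResidueField ⊗[R] S).toRingHom) :=
      Ideal.mem_map_of_mem _ hs
    rw [← e] at h1
    -- `r` is a unit in the fibre ring
    have hu : IsUnit (algebraMap R (p.Fiber S) r) := by
      have h0 : algebraMap R p.ResidueField r ≠ 0 := by
        rw [Ne, Ideal.algebraMap_residueField_eq_zero]; exact hr
      have := (IsUnit.mk0 _ h0).map (algebraMap p.ResidueField (p.Fiber S))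
      rwa [← IsScalarTower.algebraMap_apply R p.ResidueField (p.Fiber S)] at this
    rw [Algebra.smul_def] at h1
    exact (Ideal.unit_mul_mem_iff_mem _ hu).mp h1
  · unfold FlatCA.fiberIdeal
    rw [Ideal.map_le_iff_le_comap]

/-- the prime of the fibre ring attached to a prime of `S` over `p`. -/
theorem exists_fiber_prime (q : Ideal S) [hq : q.IsPrime] [hqp : q.LiesOver p] :
    ∃ Q : PrimeSpectrum (p.Fiber S), Q.asIdeal = FlatCA.fiberIdeal p q ∧
      Q.asIdeal.comap
        (Algebra.TensorProduct.includeRight : S →ₐ[R] p.ResidueField ⊗[R] S).toRingHom = q := by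
  let x : p.primesOver S := ⟨q, hq, hqp⟩
  let Q : PrimeSpectrum (p.Fiber S) := PrimeSpectrum.primesOverOrderIsoFiber R S p x
  have hQ : Q.asIdeal.comap
      (Algebra.TensorProduct.includeRight : S →ₐ[R] p.ResidueField ⊗[R] S).toRingHom = q :=
    congrArg Subtype.val ((PrimeSpectrum.primesOverOrderIsoFiber R S p).symm_apply_apply x)
  refine ⟨Q, ?_, hQ⟩
  have := eq_fiberIdeal_comap p S Q.asIdeal
  rw [hQ] at this
  exact this

variable (N : Type u) [AddCommGroup N] [Module S N] [Module.Finite S N]

instance : Module.Finite (p.Fiber S) (FlatCA.fiberMod p S N) :=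
  inferInstanceAs (Module.Finite (p.Fiber S) ((p.Fiber S) ⊗[S] N))

/-- support of the fibre module. -/
theorem support_fiberMod :
    Module.support (p.Fiber S) (FlatCA.fiberMod p S N) =
      PrimeSpectrum.comap (algebraMap S (p.Fiber S)) ⁻¹' Module.support S N :=
  Groth.Agent.S6284.result (R := S) (R' := p.Fiber S) N

/-- support dimension as a topological dimension. -/
theorem supportDim_eq_topologicalKrullDim {F M : Type u} [CommRing F] [AddCommGroup M] [Module F M]
    [Module.Finite F M] :
    Module.supportDim F M = topologicalKrullDim (Module.support F M) := by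
  unfold Module.supportDim
  rw [Module.support_eq_zeroLocus, Groth.Agent.S10825.topologicalKrullDim_zeroLocus]

end General

section Shrink

variable {R : Type u} [CommRing R] (p : Ideal R) [hp : p.IsPrime] (g : R) (hg : g ∉ p)
  (S : Type u) [CommRing S] [Algebra R S] (hX : S)
  [Algebra (Localization.Away g) (Localization.Away hX)]
  [IsScalarTower R (Localization.Away g) (Localization.Away hX)]
  [hpg : (p.map (algebraMap R (Localization.Away g))).IsPrime]

local notation "Rg" => Localization.Away g
local notation "SX" => Localization.Away hX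
local notation "pg" => Ideal.map (algebraMap R (Localization.Away g)) p

include hg in
theorem liesOver_pg : (pg).LiesOver p :=
  ⟨(ShrinkAlg.under_map_away g p hg).symm⟩

include hg in
theorem hκ_pg :
    haveI := liesOver_pg p g hg
    Function.Bijective (Ideal.ResidueField.mapₐ p (pg) (Algebra.ofId R Rg)
      (liesOver_pg p g hg).over) := by
  haveI := liesOver_pg p g hg
  exact RingHom.SurjectiveOnStalks.residueFieldMap_bijective
    (RingHom.surjectiveOnStalks_of_isLocalization (Submonoid.powers g) Rg) p (pg)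
    (liesOver_pg p g hg).over

theorem isPushout_self : Algebra.IsPushout R Rg SX SX := by
  have hu : IsUnit (algebraMap R SX g) := by
    rw [IsScalarTower.algebraMap_apply R Rg SX]
    exact (IsLocalization.Away.algebraMap_isUnit g).map _
  haveI : IsLocalization (Algebra.algebraMapSubmonoid SX (Submonoid.powers g)) SX := by
    refine IsLocalization.of_le_isUnit ?_
    rintro _ ⟨_, ⟨k, rfl⟩, rfl⟩
    show IsUnit (algebraMap R SX (g ^ k))
    rw [map_pow]
    exact hu.pow k
  exact (Algebra.isPushout_of_isLocalization (Submonoid.powers g) Rg SX SX).symm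

/-- first step: `κ(p) ⊗ S → κ(p) ⊗ S[1/hX]`. -/
noncomputable def θ₁ : p.Fiber S →ₐ[p.ResidueField] p.Fiber SX :=
  Algebra.TensorProduct.map (AlgHom.id p.ResidueField p.ResidueField)
    (IsScalarTower.toAlgHom R S SX)

theorem θ₁_comp_includeRight :
    (θ₁ p S hX : p.Fiber S →+* p.Fiber SX).comp
        (Algebra.TensorProduct.includeRight : S →ₐ[R] p.ResidueField ⊗[R] S).toRingHom =
      (Algebra.TensorProduct.includeRight : SX →ₐ[R] p.ResidueField ⊗[R] SX).toRingHom.comp
        (algebraMap S SX) := by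
  ext s
  show θ₁ p S hX ((1 : p.ResidueField) ⊗ₜ[R] s) = (1 : p.ResidueField) ⊗ₜ[R] algebraMap S SX s
  unfold θ₁
  rw [Algebra.TensorProduct.map_tmul]
  rfl

theorem isOpenEmbedding_comap_θ₁ :
    Topology.IsOpenEmbedding (PrimeSpectrum.comap (θ₁ p S hX : p.Fiber S →+* p.Fiber SX)) := by
  letI alg : Algebra (p.ResidueField ⊗[R] S) (p.ResidueField ⊗[R] SX) :=
    (θ₁ p S hX).toRingHom.toAlgebra
  haveI : IsScalarTower p.ResidueField (p.ResidueField ⊗[R] S) (p.ResidueField ⊗[R] SX) :=
    IsScalarTower.of_algebraMap_eq fun a => ((θ₁ p S hX).commutes a).symm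
  have H : (algebraMap (p.ResidueField ⊗[R] S) (p.ResidueField ⊗[R] SX)).comp
      (Algebra.TensorProduct.includeRight : S →ₐ[R] p.ResidueField ⊗[R] S).toRingHom =
      (Algebra.TensorProduct.includeRight : SX →ₐ[R] p.ResidueField ⊗[R] SX).toRingHom.comp
        (algebraMap S SX) := θ₁_comp_includeRight p S hX
  have hloc := IsLocalization.tensorProduct_tensorProduct_right R p.ResidueField
    (Submonoid.powers hX) SX H
  rw [Submonoid.map_powers] at hloc
  haveI : IsLocalization.Away
      ((Algebra.TensorProduct.includeRight : S →ₐ[R] p.ResidueField ⊗[R] S) hX)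
      (p.ResidueField ⊗[R] SX) := hloc
  exact PrimeSpectrum.localization_away_isOpenEmbedding (p.ResidueField ⊗[R] SX)
    ((Algebra.TensorProduct.includeRight : S →ₐ[R] p.ResidueField ⊗[R] S) hX)

/-- the comparison of fibre rings `κ(p) ⊗_R S → κ(pR_g) ⊗_{R_g} S[1/hX]`. -/
noncomputable def Θ : p.Fiber S →+* (pg).Fiber SX :=
  haveI := liesOver_pg p g hg
  ((DevPt.θ p Rg (pg) SX SX : p.Fiber SX →ₐ[R] (pg).Fiber SX) : p.Fiber SX →+* (pg).Fiber SX).comp
    (θ₁ p S hX : p.Fiber S →+* p.Fiber SX)

theorem Θ_comp_includeRight :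
    (Θ p g hg S hX).comp
        (Algebra.TensorProduct.includeRight : S →ₐ[R] p.ResidueField ⊗[R] S).toRingHom =
      (Algebra.TensorProduct.includeRight : SX →ₐ[Rg] (pg).ResidueField ⊗[Rg] SX).toRingHom.comp
        (algebraMap S SX) := by
  haveI := liesOver_pg p g hg
  unfold Θ
  rw [RingHom.comp_assoc, θ₁_comp_includeRight, ← RingHom.comp_assoc,
    DevPt.θ_comp_includeRight p Rg (pg) SX SX]
  rfl

theorem isOpenEmbedding_comap_Θ :
    Topology.IsOpenEmbedding (PrimeSpectrum.comap (Θ p g hg S hX)) := by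
  haveI := liesOver_pg p g hg
  haveI := isPushout_self g S hX
  have hb := DevPt.θ_bijective p Rg (pg) SX SX (hκ_pg p g hg)
  have h2 : Topology.IsOpenEmbedding (PrimeSpectrum.comap
      ((DevPt.θ p Rg (pg) SX SX : p.Fiber SX →ₐ[R] (pg).Fiber SX) :
        p.Fiber SX →+* (pg).Fiber SX)) :=
    (PrimeSpectrum.isHomeomorph_comap_of_bijective hb).isOpenEmbedding
  have h1 := isOpenEmbedding_comap_θ₁ p S hX
  have : PrimeSpectrum.comap (Θ p g hg S hX) =
      PrimeSpectrum.comap (θ₁ p S hX : p.Fiber S →+* p.Fiber SX) ∘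
        PrimeSpectrum.comap ((DevPt.θ p Rg (pg) SX SX : p.Fiber SX →ₐ[R] (pg).Fiber SX) :
          p.Fiber SX →+* (pg).Fiber SX) := by
    unfold Θ
    exact PrimeSpectrum.comap_comp _ _
  rw [this]
  exact h1.comp h2

variable (N : Type u) [AddCommGroup N] [Module S N] [Module.Finite S N]

local notation "NX" => LocalizedModule (Submonoid.powers hX) N

instance finite_NX : Module.Finite SX NX :=
  Module.Finite.of_isLocalizedModule (Submonoid.powers hX)
    (LocalizedModule.mkLinearMap (Submonoid.powers hX) N)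

theorem support_NX :
    Module.support SX NX = PrimeSpectrum.comap (algebraMap S SX) ⁻¹' Module.support S N := by
  have e : SX ⊗[S] N ≃ₗ[SX] NX :=
    (IsLocalizedModule.isBaseChange (Submonoid.powers hX) SX
      (LocalizedModule.mkLinearMap (Submonoid.powers hX) N)).equiv
  rw [← e.support_eq]
  exact Groth.Agent.S6284.result (R := S) (R' := SX) N

/-- the support of the shrunken fibre module is the preimage of the support of the fibre module. -/
theorem support_shrink :
    Module.support ((pg).Fiber SX) (FlatCA.fiberMod (pg) SX NX) =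
      PrimeSpectrum.comap (Θ p g hg S hX) ⁻¹'
        Module.support (p.Fiber S) (FlatCA.fiberMod p S N) := by
  rw [support_fiberMod (pg) SX NX, support_NX S hX N, support_fiberMod p S N,
    ← Set.preimage_comp, ← Set.preimage_comp]
  have h1 : (algebraMap S (p.Fiber S)) =
      (Algebra.TensorProduct.includeRight : S →ₐ[R] p.ResidueField ⊗[R] S).toRingHom := rfl
  have h2 : (algebraMap SX ((pg).Fiber SX)) =
      (Algebra.TensorProduct.includeRight : SX →ₐ[Rg] (pg).ResidueField ⊗[Rg] SX).toRingHom := rfl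
  rw [h1, h2]
  have h3 : (PrimeSpectrum.comap (algebraMap S SX)) ∘ (PrimeSpectrum.comap
      (Algebra.TensorProduct.includeRight : SX →ₐ[Rg] (pg).ResidueField ⊗[Rg] SX).toRingHom) =
      (PrimeSpectrum.comap
        (Algebra.TensorProduct.includeRight : S →ₐ[R] p.ResidueField ⊗[R] S).toRingHom) ∘
        (PrimeSpectrum.comap (Θ p g hg S hX)) := by
    rw [← PrimeSpectrum.comap_comp, ← PrimeSpectrum.comap_comp, Θ_comp_includeRight]
  rw [h3]

include hg in
/-- Main result on fibres: support dimension and local dimension are preserved by the shrinking. -/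
theorem fibre_shrink (q : Ideal S) [hq : q.IsPrime] [hqp : q.LiesOver p] (hXq : hX ∉ q) (n : ℕ)
    [hqX : (q.map (algebraMap S SX)).IsPrime] [hqXp : (q.map (algebraMap S SX)).LiesOver (pg)]
    (hdim : Module.supportDim (p.Fiber S) (FlatCA.fiberMod p S N) = n)
    (h1 : ∃ (ξ : PrimeSpectrum (p.Fiber S))
      (hξ : ξ ∈ Module.support (p.Fiber S) (FlatCA.fiberMod p S N)),
      ξ.asIdeal = FlatCA.fiberIdeal p q ∧
      FlatMor.localDim (Module.support (p.Fiber S) (FlatCA.fiberMod p S N)) ⟨ξ, hξ⟩ = n) :
    Module.supportDim ((pg).Fiber SX) (FlatCA.fiberMod (pg) SX NX) = n ∧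
    ∃ (ξ' : PrimeSpectrum ((pg).Fiber SX))
      (hξ' : ξ' ∈ Module.support ((pg).Fiber SX) (FlatCA.fiberMod (pg) SX NX)),
      ξ'.asIdeal = FlatCA.fiberIdeal (pg) (q.map (algebraMap S SX)) ∧
      FlatMor.localDim (Module.support ((pg).Fiber SX) (FlatCA.fiberMod (pg) SX NX)) ⟨ξ', hξ'⟩
        = n := by
  obtain ⟨ξ, hξ, hξq, hloc⟩ := h1
  -- the point ξ'
  obtain ⟨ξ', hξ'q, hξ'c⟩ := exists_fiber_prime (pg) SX (q.map (algebraMap S SX))
  have hj : PrimeSpectrum.comap (Θ p g hg S hX) ξ' = ξ := by
    apply PrimeSpectrum.ext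
    rw [PrimeSpectrum.comap_asIdeal, hξq]
    haveI : (ξ'.asIdeal.comap (Θ p g hg S hX)).IsPrime := Ideal.comap_isPrime _ _
    rw [eq_fiberIdeal_comap p S (ξ'.asIdeal.comap (Θ p g hg S hX))]
    congr 1
    rw [Ideal.comap_comap, Θ_comp_includeRight, ← Ideal.comap_comap, hξ'c]
    exact ShrinkAlg.under_map_away hX q hXq
  have hS := support_shrink p g hg S hX N
  have hξ' : ξ' ∈ Module.support ((pg).Fiber SX) (FlatCA.fiberMod (pg) SX NX) := by
    rw [hS, Set.mem_preimage, hj]
    exact hξ
  -- the open embedding of supports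
  let j : ↥(Module.support ((pg).Fiber SX) (FlatCA.fiberMod (pg) SX NX)) →
      ↥(Module.support (p.Fiber S) (FlatCA.fiberMod p S N)) :=
    (Set.restrictPreimage (Module.support (p.Fiber S) (FlatCA.fiberMod p S N))
      (PrimeSpectrum.comap (Θ p g hg S hX))) ∘ (Homeomorph.setCongr hS)
  have hjo : Topology.IsOpenEmbedding j :=
    ((isOpenEmbedding_comap_Θ p g hg S hX).restrictPreimage _).comp
      (Homeomorph.setCongr hS).isOpenEmbedding
  have hjξ : j ⟨ξ', hξ'⟩ = ⟨ξ, hξ⟩ := Subtype.ext hj
  have hloc' : FlatMor.localDim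
      (Module.support ((pg).Fiber SX) (FlatCA.fiberMod (pg) SX NX)) ⟨ξ', hξ'⟩ = n := by
    rw [Groth.Agent.H9.FibDim.localDim_of_isOpenEmbedding hjo ⟨ξ', hξ'⟩, hjξ, hloc]
  refine ⟨?_, ξ', hξ', hξ'q, hloc'⟩
  rw [supportDim_eq_topologicalKrullDim] at hdim ⊢
  apply le_antisymm
  · rw [← hdim]
    exact hjo.isInducing.topologicalKrullDim_le
  · rw [← hloc']
    exact Groth.Agent.H9.FibDim.localDim_le_dim _ _

end Shrink

end Groth.Agent.H20.ShrinkFib
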