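import Mathlib
import Groth.Prelude.Def_FlatCA
import Groth.Prelude.Def_Flat
import Groth.Agent.H9.FibDimTop
import Groth.Agent.H70.SmoothFibreDim
import Groth.Agent.H99.FPTr3
import Groth.Agent.H20.ShrinkFib

/-!
# `H20.Dev1285`: one-step dévissage: fibre basis and dimension drop (for S1285)
-/

set_option autoImplicit false
set_option linter.style.haveILetI false
set_option linter.unusedSectionVars false
set_option maxHeartbeats 1600000
universe u
open TensorProduct

namespace Groth.Agent.H20.Dev1285

attribute [local instance] Algebra.TensorProduct.rightAlgebra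

/-- a strictly increasing series all of whose members lie in `s`, as a series in the subtype. -/
def liftSeries {α : Type*} [Preorder α] (s : Set α) (L : LTSeries α) (h : ∀ i, L i ∈ s) :
    LTSeries s :=
  LTSeries.mk L.length (fun i => ⟨L i, h i⟩) (fun _ _ hij => L.strictMono hij)

theorem liftSeries_length {α : Type*} [Preorder α] (s : Set α) (L : LTSeries α)
    (h : ∀ i, L i ∈ s) : (liftSeries s L h).length = L.length := rfl

section SuppOver

variable {R : Type u} [CommRing R] (p : Ideal R) [p.IsPrime]

/-- primes of `T` over `p` in the support of `M`. -/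
def SuppOver (T : Type u) [CommRing T] [Algebra R T] (M : Type u) [AddCommGroup M] [Module T M] :
    Set (PrimeSpectrum T) :=
  {q | q ∈ Module.support T M ∧ q.asIdeal.under R = p}

theorem comap_asIdeal (T : Type u) [CommRing T] [Algebra R T] (Q : PrimeSpectrum (p.Fiber T)) :
    (PrimeSpectrum.comap (algebraMap T (p.Fiber T)) Q).asIdeal =
      ((PrimeSpectrum.primesOverOrderIsoFiber R T p).symm Q : Ideal T) := rfl

/-- the support dimension of a fibre module is the dimension of the primes of the support over
`p`. -/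
theorem supportDim_fiberMod_eq (T : Type u) [CommRing T] [Algebra R T] (M : Type u)
    [AddCommGroup M] [Module T M] [Module.Finite T M] :
    Module.supportDim (p.Fiber T) (FlatCA.fiberMod p T M) = Order.krullDim (SuppOver p T M) := by
  unfold Module.supportDim
  have hsupp := Groth.Agent.H20.ShrinkFib.support_fiberMod p T M
  let e := PrimeSpectrum.primesOverOrderIsoFiber R T p
  apply le_antisymm
  · have hmem : ∀ Q : Module.support (p.Fiber T) (FlatCA.fiberMod p T M),
        PrimeSpectrum.comap (algebraMap T (p.Fiber T)) Q.1 ∈ SuppOver p T M := by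
      intro Q
      refine ⟨?_, ?_⟩
      · exact (Set.ext_iff.mp hsupp Q.1).mp Q.2
      · rw [comap_asIdeal]
        exact ((e.symm Q.1).2.2.over).symm
    refine Order.krullDim_le_of_strictMono (fun Q => ⟨_, hmem Q⟩) ?_
    intro Q Q' hQQ'
    have h1 : e.symm Q.1 < e.symm Q'.1 := e.symm.strictMono hQQ'
    show (PrimeSpectrum.comap (algebraMap T (p.Fiber T)) Q.1) <
      (PrimeSpectrum.comap (algebraMap T (p.Fiber T)) Q'.1)
    rw [← PrimeSpectrum.asIdeal_lt_asIdeal, comap_asIdeal, comap_asIdeal]
    exact h1
  · have hmem : ∀ q : SuppOver p T M, e ⟨q.1.asIdeal, q.1.isPrime, ⟨q.2.2.symm⟩⟩ ∈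
        Module.support (p.Fiber T) (FlatCA.fiberMod p T M) := by
      intro q
      rw [hsupp, Set.mem_preimage]
      have : PrimeSpectrum.comap (algebraMap T (p.Fiber T))
          (e ⟨q.1.asIdeal, q.1.isPrime, ⟨q.2.2.symm⟩⟩) = q.1 := by
        apply PrimeSpectrum.ext
        rw [comap_asIdeal, e.symm_apply_apply]
      rw [this]
      exact q.2.1
    refine Order.krullDim_le_of_strictMono (fun q => ⟨_, hmem q⟩) ?_
    intro q q' hqq'
    have h0 : q.1.asIdeal < q'.1.asIdeal := (PrimeSpectrum.asIdeal_lt_asIdeal _ _).mpr hqq'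
    exact e.strictMono h0

/-- invariance under an integral ring map. -/
theorem krullDim_suppOver_eq (A B : Type u) [CommRing A] [CommRing B] [Algebra R A] [Algebra R B]
    [Algebra A B] [IsScalarTower R A B] [Algebra.IsIntegral A B] (G : Type u) [AddCommGroup G]
    [Module B G] [Module A G] [IsScalarTower A B G] [Module.Finite B G] [Module.Finite A G] :
    Order.krullDim (SuppOver p A G) = Order.krullDim (SuppOver p B G) := by
  have hann : (Module.annihilator B G).comap (algebraMap A B) = Module.annihilator A G := by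
    ext a
    simp only [Ideal.mem_comap, Module.mem_annihilator]
    constructor
    · intro h g
      have := h g
      rwa [algebraMap_smul] at this
    · intro h g
      rw [algebraMap_smul]
      exact h g
  apply le_antisymm
  · rw [Order.krullDim]
    apply iSup_le
    intro l
    let l0 : LTSeries (PrimeSpectrum A) := l.map Subtype.val (fun _ _ h => h)
    have hhead : Module.annihilator A G ≤ l0.head.asIdeal :=
      Module.mem_support_iff_of_finite.mp (l.head.2.1)
    obtain ⟨Q, hQann, hQ, hQl⟩ := Ideal.exists_ideal_over_prime_of_isIntegral (S := B)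
      l0.head.asIdeal (Module.annihilator B G) (by rw [hann]; exact hhead)
    haveI := hQ
    haveI : Q.LiesOver l0.head.asIdeal := ⟨hQl.symm⟩
    obtain ⟨L, hlen, hLhead, hspec⟩ := Ideal.exists_ltSeries_of_hasGoingUp l0 Q
    have hmemL : ∀ i, L i ∈ SuppOver p B G := by
      intro i
      refine ⟨?_, ?_⟩
      · apply Module.mem_support_iff_of_finite.mpr
        have h1 : L.head ≤ L i := LTSeries.head_le L i
        rw [hLhead] at h1
        exact hQann.trans h1
      · have h2 : PrimeSpectrum.comap (algebraMap A B) (L i) ∈ l0.toList := by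
          rw [← hspec]
          exact List.mem_map_of_mem (RelSeries.mem_toList.mpr ⟨i, rfl⟩)
        rw [RelSeries.mem_toList] at h2
        obtain ⟨j, hj⟩ := h2
        have h3 : (l0 j).asIdeal.under R = p := (l j).2.2
        rw [hj] at h3
        rw [← h3]
        ext x
        simp only [Ideal.under, Ideal.mem_comap, PrimeSpectrum.comap_asIdeal]
        rw [IsScalarTower.algebraMap_apply R A B]
    have hlen' : ((liftSeries _ L hmemL).length : WithBot ℕ∞) = (l.length : WithBot ℕ∞) := by
      rw [liftSeries_length, hlen]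
      rfl
    rw [← hlen']
    exact Order.LTSeries.length_le_krullDim (liftSeries _ L hmemL)
  · have hmem : ∀ q' : SuppOver p B G,
        PrimeSpectrum.comap (algebraMap A B) q'.1 ∈ SuppOver p A G := by
      intro q'
      refine ⟨?_, ?_⟩
      · apply Module.mem_support_iff_of_finite.mpr
        rw [← hann]
        exact Ideal.comap_mono (Module.mem_support_iff_of_finite.mp q'.2.1)
      · refine Eq.trans ?_ q'.2.2
        ext x
        simp only [Ideal.under, Ideal.mem_comap, PrimeSpectrum.comap_asIdeal]
        rw [IsScalarTower.algebraMap_apply R A B]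
    refine Order.krullDim_le_of_strictMono (fun q' => ⟨_, hmem q'⟩) ?_
    intro q q' h
    show PrimeSpectrum.comap (algebraMap A B) q.1 < PrimeSpectrum.comap (algebraMap A B) q'.1
    have h1 : q.1.asIdeal < q'.1.asIdeal := (PrimeSpectrum.asIdeal_lt_asIdeal _ _).mpr h
    exact (PrimeSpectrum.asIdeal_lt_asIdeal _ _).mp
      (Ideal.IsIntegral.comap_lt_comap (R := A) h1)

end SuppOver

section Fibre

variable {R : Type u} [CommRing R] (p : Ideal R) [p.IsPrime] (D : Type u) [CommRing D]
  [Algebra R D]

theorem algebraMap_fiber_of_mem {r : R} (hr : r ∈ p) : algebraMap R (p.Fiber D) r = 0 := by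
  rw [IsScalarTower.algebraMap_apply R p.ResidueField (p.Fiber D),
    Ideal.algebraMap_residueField_eq_zero.mpr hr, map_zero]

theorem isUnit_algebraMap_fiber {s : R} (hs : s ∉ p) : IsUnit (algebraMap R (p.Fiber D) s) := by
  have h0 : algebraMap R p.ResidueField s ≠ 0 := by
    rw [Ne, Ideal.algebraMap_residueField_eq_zero]
    exact hs
  have := (IsUnit.mk0 _ h0).map (algebraMap p.ResidueField (p.Fiber D))
  rwa [← IsScalarTower.algebraMap_apply R p.ResidueField (p.Fiber D)] at this

theorem map_le_ker : p.map (algebraMap R D) ≤ RingHom.ker (algebraMap D (p.Fiber D)) := by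
  rw [Ideal.map_le_iff_le_comap]
  intro r hr
  rw [Ideal.mem_comap, RingHom.mem_ker, ← IsScalarTower.algebraMap_apply R D (p.Fiber D)]
  exact algebraMap_fiber_of_mem p D hr

variable [hP : (p.map (algebraMap R D)).IsPrime]

theorem under_map_eq_of_nontrivial [Nontrivial (p.Fiber D)] :
    (p.map (algebraMap R D)).under R = p := by
  apply le_antisymm
  · intro s hs
    by_contra hsp
    have h1 : algebraMap D (p.Fiber D) (algebraMap R D s) = 0 := map_le_ker p D hs
    rw [← IsScalarTower.algebraMap_apply R D (p.Fiber D)] at h1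
    have h2 := isUnit_algebraMap_fiber p D hsp
    rw [h1] at h2
    exact not_isUnit_zero h2
  · exact Ideal.le_comap_map

theorem subsingleton_or_isDomain : Subsingleton (p.Fiber D) ∨ IsDomain (p.Fiber D) := by
  by_cases hnt : Nontrivial (p.Fiber D)
  · right
    have hunder := under_map_eq_of_nontrivial p D
    let e := Ideal.Fiber.algEquivAux₁ (S := D) p
    have hdisj : Disjoint (Algebra.algebraMapSubmonoid D p.primeCompl : Set D)
        (p.map (algebraMap R D) : Set D) := by
      rw [Set.disjoint_left]
      rintro _ ⟨s, hs, rfl⟩ hmem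
      have : s ∈ (p.map (algebraMap R D)).under R := hmem
      rw [hunder] at this
      exact hs this
    haveI : ((p.map (algebraMap R D)).map (algebraMap D
        (Localization (Algebra.algebraMapSubmonoid D p.primeCompl)))).IsPrime :=
      IsLocalization.isPrime_of_isPrime_disjoint (Algebra.algebraMapSubmonoid D p.primeCompl) _ _
        hP hdisj
    exact e.toRingEquiv.toMulEquiv.isDomain _
  · left
    exact not_nontrivial_iff_subsingleton.mp hnt

theorem ringKrullDim_fiber_eq (n : ℕ) (hsm : FlatCA.SmoothRelDim n R D) [IsDomain (p.Fiber D)] :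
    ringKrullDim (p.Fiber D) = n := by
  haveI : AlgebraicGeometry.SmoothOfRelativeDimension n
      (AlgebraicGeometry.Spec.map (CommRingCat.ofHom (algebraMap R D))) := hsm
  haveI : Algebra.FinitePresentation R D :=
    Groth.Agent.H99.FPTr3.finitePresentation_of_smoothRelDim n hsm
  haveI : Algebra.FiniteType R D := Algebra.FiniteType.of_finitePresentation
  let Q : PrimeSpectrum (p.Fiber D) := ⟨⊥, Ideal.isPrime_bot⟩
  let q : PrimeSpectrum D := PrimeSpectrum.comap (algebraMap D (p.Fiber D)) Q
  have hq : q.asIdeal.under R = p := by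
    show (PrimeSpectrum.comap (algebraMap D (p.Fiber D)) Q).asIdeal.under R = p
    rw [comap_asIdeal]
    exact ((PrimeSpectrum.primesOverOrderIsoFiber R D p).symm Q).2.2.over.symm
  have h1 := Groth.Agent.H9.FibDim.localDim_fiber_eq_tfd p q hq Q rfl
  have h2 := Groth.Agent.H9.FibDim.fibreDimAt_eq_tfd
    (AlgebraicGeometry.Spec.map (CommRingCat.ofHom (algebraMap R D))) q
  have h3 := Groth.Agent.H70.SmoothFibreDim.fibreDimAt_eq n
    (AlgebraicGeometry.Spec.map (CommRingCat.ofHom (algebraMap R D))) q
  haveI : Algebra.FiniteType p.ResidueField (p.Fiber D) := inferInstance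
  have h4 := Groth.Agent.H70.SmoothFibreDim.localDim_of_isDomain p.ResidueField (p.Fiber D) Q
  rw [← h4, h1, ← h3, h2]
  rfl

theorem bot_notMem_support_fiberMod [IsDomain (p.Fiber D)] (Q : Type u) [AddCommGroup Q]
    [Module D Q] [Module.Finite D Q]
    (hQ : Subsingleton ((p.map (algebraMap R D)).ResidueField ⊗[D] Q)) :
    (⟨⊥, Ideal.isPrime_bot⟩ : PrimeSpectrum (p.Fiber D)) ∉
      Module.support (p.Fiber D) (FlatCA.fiberMod p D Q) := by
  rw [Groth.Agent.H20.ShrinkFib.support_fiberMod p D Q, Set.mem_preimage]
  intro hmem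
  let e := PrimeSpectrum.primesOverOrderIsoFiber R D p
  have hunder := under_map_eq_of_nontrivial p D
  let xP : p.primesOver D := ⟨p.map (algebraMap R D), hP, ⟨hunder.symm⟩⟩
  have hle : PrimeSpectrum.comap (algebraMap D (p.Fiber D)) ⟨⊥, Ideal.isPrime_bot⟩ ≤
      (⟨p.map (algebraMap R D), hP⟩ : PrimeSpectrum D) := by
    rw [← PrimeSpectrum.asIdeal_le_asIdeal, comap_asIdeal]
    have h0 : (⟨⊥, Ideal.isPrime_bot⟩ : PrimeSpectrum (p.Fiber D)) ≤ e xP :=
      (PrimeSpectrum.asIdeal_le_asIdeal _ _).mp bot_le
    have h1 : e.symm ⟨⊥, Ideal.isPrime_bot⟩ ≤ e.symm (e xP) := e.symm.monotone h0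
    rw [e.symm_apply_apply] at h1
    exact h1
  have hP' := Module.mem_support_mono hle hmem
  rw [Module.mem_support_iff_nontrivial_residueField_tensorProduct] at hP'
  exact (not_subsingleton_iff_nontrivial.mpr hP') hQ

end Fibre

/-- a finite module over a domain of finite dimension `n` whose support misses the generic point has
support dimension `< n`. -/
theorem supportDim_lt_of_bot_notMem (F : Type u) [CommRing F] [IsDomain F] (n : ℕ)
    (hdim : ringKrullDim F = n) (M : Type u) [AddCommGroup M] [Module F M] [Module.Finite F M]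
    (h0 : (⟨⊥, Ideal.isPrime_bot⟩ : PrimeSpectrum F) ∉ Module.support F M) :
    Module.supportDim F M < n := by
  rw [Module.supportDim_eq_ringKrullDim_quotient_annihilator]
  have hann : Module.annihilator F M ≠ ⊥ := by
    intro h
    apply h0
    rw [Module.mem_support_iff_of_finite, h]
  obtain ⟨a, ha, ha0⟩ := Submodule.exists_mem_ne_zero_of_ne_bot hann
  have h1 : ringKrullDim (F ⧸ Module.annihilator F M) + 1 ≤ ringKrullDim F :=
    ringKrullDim_succ_le_of_surjective (Ideal.Quotient.mk (Module.annihilator F M))
      Ideal.Quotient.mk_surjective (mem_nonZeroDivisors_of_ne_zero ha0)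
      (Ideal.Quotient.eq_zero_iff_mem.mpr ha)
  rw [hdim] at h1
  by_contra hlt
  rw [not_lt] at hlt
  have h2 : ((n : ℕ) : WithBot ℕ∞) + 1 ≤ ringKrullDim (F ⧸ Module.annihilator F M) + 1 := by
    gcongr
  have h3 : ((n + 1 : ℕ) : WithBot ℕ∞) ≤ ((n : ℕ) : WithBot ℕ∞) := by
    push_cast
    exact h2.trans h1
  have h4 : n + 1 ≤ n := Nat.cast_le.mp h3
  omega

/-- transfer of the support dimension of the fibre module along `S → C ← D`. -/
theorem supportDim_transfer {R S : Type u} [CommRing R] [CommRing S] [Algebra R S]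
    (N : Type u) [AddCommGroup N] [Module S N] [Module.Finite S N] (p : Ideal R) [p.IsPrime]
    (C D G : Type u) [CommRing C] [CommRing D] [Algebra S C] [Algebra R C] [IsScalarTower R S C]
    [Algebra R D] [Algebra D C] [IsScalarTower R D C] [AddCommGroup G] [Module C G] [Module S G]
    [IsScalarTower S C G] [Module D G] [IsScalarTower D C G]
    (e : N ≃ₗ[S] G) (hsurj : Function.Surjective (algebraMap S C)) [Module.Finite D C]
    [Module.Finite C G] :
    Module.supportDim (p.Fiber D) (FlatCA.fiberMod p D G) =
      Module.supportDim (p.Fiber S) (FlatCA.fiberMod p S N) := by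
  haveI : Module.Finite S G := Module.Finite.equiv e
  haveI : Module.Finite D G := Module.Finite.trans C G
  haveI : Algebra.IsIntegral S C := Algebra.isIntegral_of_surjective hsurj
  haveI : Algebra.IsIntegral D C := Algebra.IsIntegral.of_finite D C
  have h1 : Module.supportDim (p.Fiber S) (FlatCA.fiberMod p S N) =
      Module.supportDim (p.Fiber S) (FlatCA.fiberMod p S G) :=
    Module.supportDim_eq_of_equiv
      (show FlatCA.fiberMod p S N ≃ₗ[p.Fiber S] FlatCA.fiberMod p S G from
        TensorProduct.AlgebraTensorModule.congr (LinearEquiv.refl (p.Fiber S) (p.Fiber S)) e)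
  rw [h1, supportDim_fiberMod_eq p S G, supportDim_fiberMod_eq p D G,
    krullDim_suppOver_eq p S C G, krullDim_suppOver_eq p D C G]

/-- existence of the map `α`. -/
theorem exists_alpha (D G : Type u) [CommRing D] [AddCommGroup G] [Module D G]
    [Module.Finite D G] (κ : Type u) [Field κ] [Algebra D κ] :
    ∃ (r : ℕ) (α : (Fin r → D) →ₗ[D] G), r = Module.finrank κ (κ ⊗[D] G) ∧
      Function.Bijective (α.baseChange κ) := by
  classical
  have hspan : Submodule.span κ (Set.range (TensorProduct.mk D κ G 1)) = ⊤ := by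
    rw [eq_top_iff]
    rintro x -
    induction x using TensorProduct.induction_on with
    | zero => exact Submodule.zero_mem _
    | add x y hx hy => exact Submodule.add_mem _ hx hy
    | tmul a g =>
      have : a ⊗ₜ[D] g = a • ((1 : κ) ⊗ₜ[D] g) := by
        rw [TensorProduct.smul_tmul', smul_eq_mul, mul_one]
      rw [this]
      exact Submodule.smul_mem _ _ (Submodule.subset_span ⟨g, rfl⟩)
  obtain ⟨f, hfmem, hfspan, hfli⟩ := Submodule.exists_fun_fin_finrank_span_eq κ
    (Set.range (TensorProduct.mk D κ G 1))
  have hr : Module.finrank κ (Submodule.span κ (Set.range (TensorProduct.mk D κ G 1))) =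
      Module.finrank κ (κ ⊗[D] G) := by
    rw [hspan]
    exact finrank_top κ (κ ⊗[D] G)
  choose g hg using hfmem
  let α : (Fin (Module.finrank κ (Submodule.span κ (Set.range (TensorProduct.mk D κ G 1)))) → D)
      →ₗ[D] G := (Pi.basisFun D _).constr D g
  refine ⟨_, α, hr, ?_⟩
  have hfspan' : ⊤ ≤ Submodule.span κ (Set.range f) := by rw [hfspan, hspan]
  let bV := Module.Basis.mk hfli hfspan'
  let bD := (Pi.basisFun D (Fin (Module.finrank κ
    (Submodule.span κ (Set.range (TensorProduct.mk D κ G 1)))))).baseChange κ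
  have hα : ∀ i, α.baseChange κ (bD i) = bV i := by
    intro i
    rw [Module.Basis.baseChange_apply, LinearMap.baseChange_tmul, Module.Basis.mk_apply,
      Module.Basis.constr_basis, ← hg i]
    rfl
  have hEq : α.baseChange κ = (bD.equiv bV (Equiv.refl _)).toLinearMap := by
    apply bD.ext
    intro i
    rw [hα i]
    simp
  rw [hEq]
  exact (bD.equiv bV (Equiv.refl _)).bijective

/-- the cokernel of `α` dies over `κ`. -/
theorem subsingleton_coker (D G : Type u) [CommRing D] [AddCommGroup G] [Module D G]
    (κ : Type u) [CommRing κ] [Algebra D κ] {r : ℕ} (α : (Fin r → D) →ₗ[D] G)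
    (hα : Function.Surjective (α.baseChange κ)) :
    Subsingleton (κ ⊗[D] (G ⧸ LinearMap.range α)) := by
  refine ⟨fun x y => ?_⟩
  suffices h : ∀ z : κ ⊗[D] (G ⧸ LinearMap.range α), z = 0 by rw [h x, h y]
  intro z
  obtain ⟨w, rfl⟩ := LinearMap.lTensor_surjective κ (LinearMap.range α).mkQ_surjective z
  obtain ⟨v, rfl⟩ := hα w
  have e1 : α.baseChange κ v = α.lTensor κ v := rfl
  have e2 : (LinearMap.range α).mkQ ∘ₗ α = 0 := by
    ext x
    simp
  rw [e1, ← LinearMap.comp_apply, ← LinearMap.lTensor_comp, e2, LinearMap.lTensor_zero,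
    LinearMap.zero_apply]

/-- the main statement. -/
theorem main {R S : Type u} [CommRing R] [CommRing S] [Algebra R S]
    (N : Type u) [AddCommGroup N] [Module S N] [Module R N] [IsScalarTower R S N]
    [Module.Finite S N] (p : Ideal R) [p.IsPrime]
    (C D G : Type u) [CommRing C] [CommRing D] [Algebra S C] [Algebra R C] [IsScalarTower R S C]
    [Algebra R D] [Algebra D C] [IsScalarTower R D C] [AddCommGroup G] [Module C G] [Module S G]
    [IsScalarTower S C G] [Module D G] [IsScalarTower D C G]
    (n : ℕ) (h : FlatCA.IsOneStepDevissage R S N p C D G n)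
    [(p.map (algebraMap R D)).IsPrime] :
    (∃ (r : ℕ) (α : (Fin r → D) →ₗ[D] G), 0 < r ∧
      Function.Bijective (α.baseChange (p.map (algebraMap R D)).ResidueField)) ∧
    ∀ (r : ℕ) (α : (Fin r → D) →ₗ[D] G),
      Function.Bijective (α.baseChange (p.map (algebraMap R D)).ResidueField) →
      Module.supportDim (p.Fiber D) (FlatCA.fiberMod p D (G ⧸ LinearMap.range α)) <
        (n : WithBot ℕ∞) := by
  obtain ⟨⟨e⟩, hsurj, -, hfinDC, hfinCG, hsm, -, hdim⟩ := h
  haveI := hfinDC
  haveI := hfinCG
  haveI : Module.Finite D G := Module.Finite.trans C G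
  have hD : Module.supportDim (p.Fiber D) (FlatCA.fiberMod p D G) = n := by
    rw [supportDim_transfer N p C D G e hsurj]
    exact hdim
  have hdrop : ∀ (Q : Type u) [AddCommGroup Q] [Module D Q] [Module.Finite D Q],
      Subsingleton ((p.map (algebraMap R D)).ResidueField ⊗[D] Q) →
      Module.supportDim (p.Fiber D) (FlatCA.fiberMod p D Q) < (n : WithBot ℕ∞) := by
    intro Q _ _ _ hQ
    rcases subsingleton_or_isDomain p D with hs | hd
    · haveI := hs
      haveI : Subsingleton (FlatCA.fiberMod p D Q) := Module.subsingleton (p.Fiber D) _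
      rw [Module.supportDim_eq_bot_of_subsingleton]
      exact_mod_cast WithBot.bot_lt_coe (n : ℕ∞)
    · haveI := hd
      exact supportDim_lt_of_bot_notMem (p.Fiber D) n (ringKrullDim_fiber_eq p D n hsm) _
        (bot_notMem_support_fiberMod p D Q hQ)
  refine ⟨?_, ?_⟩
  · obtain ⟨r, α, hr, hbij⟩ := exists_alpha D G (p.map (algebraMap R D)).ResidueField
    refine ⟨r, α, ?_, hbij⟩
    rw [hr]
    haveI : Nontrivial ((p.map (algebraMap R D)).ResidueField ⊗[D] G) := by
      by_contra hnt
      rw [not_nontrivial_iff_subsingleton] at hnt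
      have := hdrop G hnt
      rw [hD] at this
      exact lt_irrefl _ this
    exact Module.finrank_pos
  · intro r α hbij
    exact hdrop (G ⧸ LinearMap.range α) (subsingleton_coker D G _ α hbij.2)

end Groth.Agent.H20.Dev1285
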