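import Mathlib
import Groth.Prelude.Def_FlatCA

/-!
# `H20.DevBC1`: the pieces of the base change of a complete dévissage

Only the smooth algebras get a tail fix (`Tail`): `B' i = (R' ⊗ B i × R') ⧸ (ker fst | ker snd)`.
-/

set_option autoImplicit false
set_option linter.style.haveILetI false
set_option linter.unusedSectionVars false
universe u
open TensorProduct

namespace Groth.Agent.H20.DevBC

attribute [local instance] Algebra.TensorProduct.rightAlgebra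

section Tail

variable (K : Type u) [CommRing K] (X Y : Type u) [CommRing X] [CommRing Y] [Algebra K X]
  [Algebra K Y] (c : Prop) [Decidable c]

/-- `ker fst` if `c`, `ker snd` otherwise. -/
def tailIdeal : Ideal (X × Y) :=
  if c then RingHom.ker (AlgHom.fst K X Y) else RingHom.ker (AlgHom.snd K X Y)

/-- `X` if `c`, `Y` otherwise, as a uniform quotient of `X × Y`. -/
abbrev Tail : Type u := (X × Y) ⧸ tailIdeal K X Y c

noncomputable def tailFst (hc : c) : Tail K X Y c ≃ₐ[K] X :=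
  (Ideal.quotientEquivAlgOfEq K
    (show tailIdeal K X Y c = RingHom.ker (AlgHom.fst K X Y) from if_pos hc)).trans
    (Ideal.quotientKerAlgEquivOfSurjective (f := AlgHom.fst K X Y) Prod.fst_surjective)

noncomputable def tailSnd (hc : ¬ c) : Tail K X Y c ≃ₐ[K] Y :=
  (Ideal.quotientEquivAlgOfEq K
    (show tailIdeal K X Y c = RingHom.ker (AlgHom.snd K X Y) from if_neg hc)).trans
    (Ideal.quotientKerAlgEquivOfSurjective (f := AlgHom.snd K X Y) Prod.snd_surjective)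

end Tail

section Pieces

variable {R S : Type u} [CommRing R] [CommRing S] [Algebra R S] {N : Type u} [AddCommGroup N]
  [Module S N] {p : Ideal R} [p.IsPrime] (𝒟 : FlatCA.CompleteDevissage R S N p)
  (R' : Type u) [CommRing R'] [Algebra R R']

abbrev TA (i : ℕ) : Type u := R' ⊗[R] 𝒟.A i
abbrev TB (i : ℕ) : Type u := R' ⊗[R] 𝒟.B i
abbrev B' (i : ℕ) : Type u := Tail R' (TB 𝒟 R' i) R' (i < 𝒟.n)
abbrev M' (i : ℕ) : Type u := TA 𝒟 R' i ⊗[𝒟.A i] 𝒟.M i

noncomputable def fBA (i : ℕ) : TB 𝒟 R' i →ₐ[R'] TA 𝒟 R' i :=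
  Algebra.TensorProduct.map (AlgHom.id R' R') (IsScalarTower.toAlgHom R (𝒟.B i) (𝒟.A i))

noncomputable def fBA' (i : ℕ) : TB 𝒟 R' i →ₐ[R'] TA 𝒟 R' (i + 1) :=
  Algebra.TensorProduct.map (AlgHom.id R' R') (IsScalarTower.toAlgHom R (𝒟.B i) (𝒟.A (i + 1)))

noncomputable def toTA (i : ℕ) : B' 𝒟 R' i →ₐ[R'] TA 𝒟 R' i :=
  if h : i < 𝒟.n then (fBA 𝒟 R' i).comp (tailFst R' (TB 𝒟 R' i) R' (i < 𝒟.n) h).toAlgHom
  else (Algebra.ofId R' (TA 𝒟 R' i)).comp (tailSnd R' (TB 𝒟 R' i) R' (i < 𝒟.n) h).toAlgHom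

noncomputable def toTA' (i : ℕ) : B' 𝒟 R' i →ₐ[R'] TA 𝒟 R' (i + 1) :=
  if h : i < 𝒟.n then (fBA' 𝒟 R' i).comp (tailFst R' (TB 𝒟 R' i) R' (i < 𝒟.n) h).toAlgHom
  else (Algebra.ofId R' (TA 𝒟 R' (i + 1))).comp (tailSnd R' (TB 𝒟 R' i) R' (i < 𝒟.n) h).toAlgHom

noncomputable instance instAlgB'TA (i : ℕ) : Algebra (B' 𝒟 R' i) (TA 𝒟 R' i) :=
  (toTA 𝒟 R' i).toRingHom.toAlgebra

noncomputable instance instAlgB'TA' (i : ℕ) : Algebra (B' 𝒟 R' i) (TA 𝒟 R' (i + 1)) :=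
  (toTA' 𝒟 R' i).toRingHom.toAlgebra

instance instTowerB'TA (i : ℕ) : IsScalarTower R' (B' 𝒟 R' i) (TA 𝒟 R' i) := by
  exact IsScalarTower.of_algebraMap_eq (R := R') (S := B' 𝒟 R' i) (A := TA 𝒟 R' i)
    fun r => ((toTA 𝒟 R' i).commutes r).symm

instance instTowerB'TA' (i : ℕ) : IsScalarTower R' (B' 𝒟 R' i) (TA 𝒟 R' (i + 1)) := by
  exact IsScalarTower.of_algebraMap_eq (R := R') (S := B' 𝒟 R' i) (A := TA 𝒟 R' (i + 1))
    fun r => ((toTA' 𝒟 R' i).commutes r).symm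

end Pieces

end Groth.Agent.H20.DevBC
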