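import Mathlib
import Groth.Prelude.Def_FlatCA
import Groth.Agent.H20.DevBC1
import Groth.Agent.H57.PushoutPaste
import Groth.Agent.H99.CDBC
import Groth.Agent.H99.CDBC2

/-!
# `H20.DevBC2`: structure maps from the old pieces, the step facts for `i < n`
-/

set_option autoImplicit false
set_option linter.style.haveILetI false
set_option linter.unusedSectionVars false
universe u
open TensorProduct

namespace Groth.Agent.H20.DevBC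

open Groth.Agent.H57.PushoutPaste Groth.Agent.H99.CDBC Groth.Agent.H99.CDBC2

attribute [local instance] Algebra.TensorProduct.rightAlgebra

section Base

variable {R S : Type u} [CommRing R] [CommRing S] [Algebra R S] {N : Type u} [AddCommGroup N]
  [Module S N] {p : Ideal R} [p.IsPrime] (𝒟 : FlatCA.CompleteDevissage R S N p)
  (R' : Type u) [CommRing R'] [Algebra R R']

/-! #### maps from the old pieces -/

noncomputable instance instAlgBTA (i : ℕ) : Algebra (𝒟.B i) (TA 𝒟 R' i) :=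
  ((algebraMap (𝒟.A i) (TA 𝒟 R' i)).comp (algebraMap (𝒟.B i) (𝒟.A i))).toAlgebra

instance instTowerBATA (i : ℕ) : IsScalarTower (𝒟.B i) (𝒟.A i) (TA 𝒟 R' i) :=
  IsScalarTower.of_algebraMap_eq fun _ => rfl

noncomputable instance instAlgBTA' (i : ℕ) : Algebra (𝒟.B i) (TA 𝒟 R' (i + 1)) :=
  ((algebraMap (𝒟.A (i + 1)) (TA 𝒟 R' (i + 1))).comp
    (algebraMap (𝒟.B i) (𝒟.A (i + 1)))).toAlgebra

instance instTowerBATA' (i : ℕ) : IsScalarTower (𝒟.B i) (𝒟.A (i + 1)) (TA 𝒟 R' (i + 1)) :=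
  IsScalarTower.of_algebraMap_eq fun _ => rfl

noncomputable def aB (i : ℕ) (h : i < 𝒟.n) : 𝒟.B i →+* B' 𝒟 R' i :=
  (tailFst R' (TB 𝒟 R' i) R' (i < 𝒟.n) h).symm.toAlgHom.toRingHom.comp
    (algebraMap (𝒟.B i) (TB 𝒟 R' i))

noncomputable instance instAlgBB' (i : ℕ) [hi : Fact (i < 𝒟.n)] : Algebra (𝒟.B i) (B' 𝒟 R' i) :=
  (aB 𝒟 R' i hi.out).toAlgebra

lemma algebraMap_BB' (i : ℕ) [hi : Fact (i < 𝒟.n)] (b : 𝒟.B i) :
    algebraMap (𝒟.B i) (B' 𝒟 R' i) b =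
      (tailFst R' (TB 𝒟 R' i) R' (i < 𝒟.n) hi.out).symm ((1 : R') ⊗ₜ[R] b) := rfl

lemma toTA_of_lt (i : ℕ) (h : i < 𝒟.n) (x : B' 𝒟 R' i) :
    toTA 𝒟 R' i x = fBA 𝒟 R' i (tailFst R' (TB 𝒟 R' i) R' (i < 𝒟.n) h x) := by
  simp [toTA, h]

lemma toTA'_of_lt (i : ℕ) (h : i < 𝒟.n) (x : B' 𝒟 R' i) :
    toTA' 𝒟 R' i x = fBA' 𝒟 R' i (tailFst R' (TB 𝒟 R' i) R' (i < 𝒟.n) h x) := by
  simp [toTA', h]

instance instTowerRBB' (i : ℕ) [hi : Fact (i < 𝒟.n)] : IsScalarTower R (𝒟.B i) (B' 𝒟 R' i) := by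
  refine IsScalarTower.of_algebraMap_eq (R := R) (S := 𝒟.B i) (A := B' 𝒟 R' i) fun r => ?_
  rw [algebraMap_BB', IsScalarTower.algebraMap_apply R R' (B' 𝒟 R' i)]
  rw [← AlgEquiv.commutes (tailFst R' (TB 𝒟 R' i) R' (i < 𝒟.n) hi.out).symm]
  congr 1
  rw [Algebra.TensorProduct.algebraMap_apply, Algebra.algebraMap_self, RingHom.id_apply,
    Algebra.algebraMap_eq_smul_one r, Algebra.algebraMap_eq_smul_one r, smul_tmul]

instance instPushoutBB' (i : ℕ) [hi : Fact (i < 𝒟.n)] :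
    Algebra.IsPushout R R' (𝒟.B i) (B' 𝒟 R' i) :=
  Algebra.IsPushout.of_equiv (h := (inferInstance : Algebra.IsPushout R R' (𝒟.B i) (TB 𝒟 R' i)))
    (tailFst R' (TB 𝒟 R' i) R' (i < 𝒟.n) hi.out).symm rfl

instance instTowerBB'TA (i : ℕ) [hi : Fact (i < 𝒟.n)] :
    IsScalarTower (𝒟.B i) (B' 𝒟 R' i) (TA 𝒟 R' i) := by
  refine IsScalarTower.of_algebraMap_eq (R := 𝒟.B i) (S := B' 𝒟 R' i) (A := TA 𝒟 R' i) fun b => ?_
  rw [algebraMap_BB']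
  show _ = toTA 𝒟 R' i _
  rw [toTA_of_lt 𝒟 R' i hi.out, AlgEquiv.apply_symm_apply]
  simp [fBA]
  rfl

instance instTowerBB'TA' (i : ℕ) [hi : Fact (i < 𝒟.n)] :
    IsScalarTower (𝒟.B i) (B' 𝒟 R' i) (TA 𝒟 R' (i + 1)) := by
  refine IsScalarTower.of_algebraMap_eq (R := 𝒟.B i) (S := B' 𝒟 R' i) (A := TA 𝒟 R' (i + 1))
    fun b => ?_
  rw [algebraMap_BB']
  show _ = toTA' 𝒟 R' i _
  rw [toTA'_of_lt 𝒟 R' i hi.out, AlgEquiv.apply_symm_apply]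
  simp [fBA']
  rfl

/-! #### the step facts for `i < n` -/

theorem step_paste (i : ℕ) [hi : Fact (i < 𝒟.n)] :
    Algebra.IsPushout (𝒟.B i) (B' 𝒟 R' i) (𝒟.A i) (TA 𝒟 R' i) ∧
      (Function.Surjective (algebraMap (𝒟.B i) (𝒟.A i)) →
        Function.Surjective (algebraMap (B' 𝒟 R' i) (TA 𝒟 R' i))) ∧
      (Algebra.FinitePresentation (𝒟.B i) (𝒟.A i) →
        Algebra.FinitePresentation (B' 𝒟 R' i) (TA 𝒟 R' i)) ∧
      (Module.Finite (𝒟.B i) (𝒟.A i) → Module.Finite (B' 𝒟 R' i) (TA 𝒟 R' i)) :=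
  isPushout_paste R R' (𝒟.B i) (B' 𝒟 R' i) (𝒟.A i) (TA 𝒟 R' i)

theorem step_paste' (i : ℕ) [hi : Fact (i < 𝒟.n)] :
    Algebra.IsPushout (𝒟.B i) (B' 𝒟 R' i) (𝒟.A (i + 1)) (TA 𝒟 R' (i + 1)) ∧
      (Function.Surjective (algebraMap (𝒟.B i) (𝒟.A (i + 1))) →
        Function.Surjective (algebraMap (B' 𝒟 R' i) (TA 𝒟 R' (i + 1)))) ∧
      (Algebra.FinitePresentation (𝒟.B i) (𝒟.A (i + 1)) →
        Algebra.FinitePresentation (B' 𝒟 R' i) (TA 𝒟 R' (i + 1))) ∧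
      (Module.Finite (𝒟.B i) (𝒟.A (i + 1)) → Module.Finite (B' 𝒟 R' i) (TA 𝒟 R' (i + 1))) :=
  isPushout_paste R R' (𝒟.B i) (B' 𝒟 R' i) (𝒟.A (i + 1)) (TA 𝒟 R' (i + 1))

/-- the base change map of modules -/
noncomputable def gM (i : ℕ) : 𝒟.M i →ₗ[𝒟.A i] M' 𝒟 R' i :=
  TensorProduct.mk (𝒟.A i) (TA 𝒟 R' i) (𝒟.M i) 1

theorem gM_isBaseChange (i : ℕ) : IsBaseChange (TA 𝒟 R' i) (gM 𝒟 R' i) :=
  TensorProduct.isBaseChange (𝒟.A i) (𝒟.M i) (TA 𝒟 R' i)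

-- instance tests
noncomputable example (i : ℕ) : Module (𝒟.B i) (M' 𝒟 R' i) := inferInstance
example (i : ℕ) : IsScalarTower (𝒟.B i) (𝒟.A i) (M' 𝒟 R' i) := inferInstance
example (i : ℕ) [hi : Fact (i < 𝒟.n)] : IsScalarTower (𝒟.B i) (B' 𝒟 R' i) (M' 𝒟 R' i) :=
  inferInstance
noncomputable example (i : ℕ) : Module (𝒟.B i) (M' 𝒟 R' (i + 1)) := inferInstance
example (i : ℕ) : IsScalarTower (𝒟.B i) (𝒟.A (i + 1)) (M' 𝒟 R' (i + 1)) := inferInstance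
example (i : ℕ) [hi : Fact (i < 𝒟.n)] :
    IsScalarTower (𝒟.B i) (B' 𝒟 R' i) (M' 𝒟 R' (i + 1)) := inferInstance

end Base

end Groth.Agent.H20.DevBC
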