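import Mathlib
import Groth.Prelude.Def_FlatCA
import Groth.Agent.H20.DevBC2

/-!
# `H20.DevBC3`: the base change of a complete dévissage
-/

set_option autoImplicit false
set_option linter.style.haveILetI false
set_option linter.unusedSectionVars false
universe u
open TensorProduct

namespace Groth.Agent.H20.DevBC

open Groth.Agent.H57.PushoutPaste Groth.Agent.H99.CDBC Groth.Agent.H99.CDBC2

attribute [local instance] Algebra.TensorProduct.rightAlgebra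

theorem isPrime_map_algebraMap_of_algEquiv {K X : Type u} [CommRing K] [CommRing X] [Algebra K X]
    (e : X ≃ₐ[K] K) (I : Ideal K) [I.IsPrime] : (I.map (algebraMap K X)).IsPrime := by
  have heq : I.map (algebraMap K X) = I.comap (e : X →+* K) := by
    apply le_antisymm
    · rw [Ideal.map_le_iff_le_comap]
      intro r hr
      rw [Ideal.mem_comap, Ideal.mem_comap]
      have : (e : X →+* K) (algebraMap K X r) = r := by
        show e (algebraMap K X r) = r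
        rw [e.commutes]; rfl
      rw [this]; exact hr
    · intro x hx
      have hx' : e x ∈ I := hx
      have : x = algebraMap K X (e x) := by
        apply e.injective
        rw [e.commutes]; rfl
      rw [this]; exact Ideal.mem_map_of_mem _ hx'
  rw [heq]
  exact Ideal.comap_isPrime _ _

section Step

variable {R S : Type u} [CommRing R] [CommRing S] [Algebra R S] {N : Type u} [AddCommGroup N]
  [Module S N] {p : Ideal R} [p.IsPrime] (𝒟 : FlatCA.CompleteDevissage R S N p)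
  (R' : Type u) [CommRing R'] [Algebra R R']

/-- the new maps from finite free modules -/
noncomputable def α' (i : ℕ) : (Fin (𝒟.r i) → B' 𝒟 R' i) →ₗ[B' 𝒟 R' i] M' 𝒟 R' i :=
  Fintype.linearCombination (B' 𝒟 R' i) (fun j => gM 𝒟 R' i (𝒟.α i (Pi.single j 1)))

lemma α'_single (i : ℕ) (j : Fin (𝒟.r i)) :
    α' 𝒟 R' i (Pi.single j 1) = gM 𝒟 R' i (𝒟.α i (Pi.single j 1)) := by
  rw [α', Fintype.linearCombination_apply_single, one_smul]

/-- `gM` as a `B i`-linear map -/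
noncomputable def gMB (i : ℕ) : 𝒟.M i →ₗ[𝒟.B i] M' 𝒟 R' i :=
  (gM 𝒟 R' i).restrictScalars (𝒟.B i)

/-- `gM (i+1)` as a `B i`-linear map -/
noncomputable def gMB' (i : ℕ) : 𝒟.M (i + 1) →ₗ[𝒟.B i] M' 𝒟 R' (i + 1) :=
  (gM 𝒟 R' (i + 1)).restrictScalars (𝒟.B i)

theorem gMB_isBaseChange (i : ℕ) [hi : Fact (i < 𝒟.n)] :
    IsBaseChange (B' 𝒟 R' i) (gMB 𝒟 R' i) :=
  haveI := (step_paste 𝒟 R' i).1
  isBaseChange_restrictScalars_of_isPushout (𝒟.B i) (B' 𝒟 R' i) (𝒟.A i) (TA 𝒟 R' i) (𝒟.M i)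
    (M' 𝒟 R' i) (gM 𝒟 R' i) (gM_isBaseChange 𝒟 R' i)

theorem gMB'_isBaseChange (i : ℕ) [hi : Fact (i < 𝒟.n)] :
    IsBaseChange (B' 𝒟 R' i) (gMB' 𝒟 R' i) :=
  haveI := (step_paste' 𝒟 R' i).1
  isBaseChange_restrictScalars_of_isPushout (𝒟.B i) (B' 𝒟 R' i) (𝒟.A (i + 1)) (TA 𝒟 R' (i + 1))
    (𝒟.M (i + 1)) (M' 𝒟 R' (i + 1)) (gM 𝒟 R' (i + 1)) (gM_isBaseChange 𝒟 R' (i + 1))

theorem range_α' (i : ℕ) [hi : Fact (i < 𝒟.n)] :
    LinearMap.range (α' 𝒟 R' i) =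
      Submodule.span (B' 𝒟 R' i) ((gM 𝒟 R' i) '' (LinearMap.range (𝒟.α i) : Set (𝒟.M i))) := by
  rw [α', Fintype.range_linearCombination]
  apply le_antisymm
  · apply Submodule.span_mono
    rintro _ ⟨j, rfl⟩
    exact ⟨_, ⟨_, rfl⟩, rfl⟩
  · rw [Submodule.span_le]
    rintro _ ⟨_, ⟨y, rfl⟩, rfl⟩
    have hy : y = ∑ j, y j • Pi.single j (1 : 𝒟.B i) := by
      ext k
      simp [Finset.sum_apply, Pi.single_apply]
    rw [hy, map_sum, map_sum]
    refine Submodule.sum_mem _ fun j _ => ?_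
    have h1 : gM 𝒟 R' i (𝒟.α i (y j • Pi.single j (1 : 𝒟.B i))) =
        algebraMap (𝒟.B i) (B' 𝒟 R' i) (y j) • gM 𝒟 R' i (𝒟.α i (Pi.single j 1)) := by
      rw [map_smul]
      have h2 := (gMB 𝒟 R' i).map_smul (y j) (𝒟.α i (Pi.single j 1))
      rw [← algebraMap_smul (B' 𝒟 R' i) (y j) (gMB 𝒟 R' i (𝒟.α i (Pi.single j 1)))] at h2
      exact h2
    rw [h1]
    exact Submodule.smul_mem _ _ (Submodule.subset_span ⟨j, rfl⟩)

theorem α'_surjective (i : ℕ) [hi : Fact (i < 𝒟.n)] (h : Function.Surjective (𝒟.α i)) :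
    Function.Surjective (α' 𝒟 R' i) := by
  rw [← LinearMap.range_eq_top, range_α', LinearMap.range_eq_top.mpr h, eq_top_iff]
  intro x _
  refine (gMB_isBaseChange 𝒟 R' i).inductionOn x
    (fun x => x ∈ Submodule.span (B' 𝒟 R' i) ((gM 𝒟 R' i) '' ((⊤ : Submodule (𝒟.B i) (𝒟.M i)) : Set (𝒟.M i))))
    (Submodule.zero_mem _) (fun m => Submodule.subset_span ⟨m, trivial, rfl⟩)
    (fun s n hn => Submodule.smul_mem _ s hn) (fun a b ha hb => Submodule.add_mem _ ha hb)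

theorem hp' (p' : Ideal R') [p'.IsPrime] (i : ℕ) :
    (p'.map (algebraMap R' (B' 𝒟 R' i))).IsPrime := by
  by_cases h : i < 𝒟.n
  · haveI : Fact (i < 𝒟.n) := ⟨h⟩
    haveI := 𝒟.smooth i h
    exact Groth.Agent.H99.CDBC.isPrime_map_of_smooth_geomIrred (R := R) (R' := R') (B := 𝒟.B i) (B' := B' 𝒟 R' i)
      (𝒟.geomIrred i h) p'
  · exact isPrime_map_algebraMap_of_algEquiv (tailSnd R' (TB 𝒟 R' i) R' (i < 𝒟.n) h) p'

theorem smooth' (i : ℕ) (h : i < 𝒟.n) :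
    Algebra.Smooth R' (B' 𝒟 R' i) ∧ FlatCA.GeomIrredFibres R' (B' 𝒟 R' i) := by
  haveI : Fact (i < 𝒟.n) := ⟨h⟩
  haveI := 𝒟.smooth i h
  exact smooth_geomIrred_of_isPushout R (𝒟.B i) R' (B' 𝒟 R' i) (𝒟.geomIrred i h)

theorem fibreIso' (p' : Ideal R') [p'.IsPrime] [p'.LiesOver p] (i : ℕ) (h : i < 𝒟.n) :
    haveI := hp' 𝒟 R' p' i
    Function.Bijective
      ((α' 𝒟 R' i).baseChange (p'.map (algebraMap R' (B' 𝒟 R' i))).ResidueField) := by
  haveI : Fact (i < 𝒟.n) := ⟨h⟩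
  haveI := 𝒟.smooth i h
  haveI := hp' 𝒟 R' p' i
  haveI : (p'.map (algebraMap R' (B' 𝒟 R' i))).LiesOver (p.map (algebraMap R (𝒟.B i))) :=
    Groth.Agent.H99.CDBC.liesOver_map_of_flat p p'
  exact Groth.Agent.H99.CDBC.bijective_baseChange_residueField (gMB 𝒟 R' i) (gMB_isBaseChange 𝒟 R' i) (𝒟.α i)
    (α' 𝒟 R' i) (α'_single 𝒟 R' i) _ _ (𝒟.fibreIso i h)

theorem isoCoker' (i : ℕ) (h : i + 1 < 𝒟.n) :
    Nonempty ((M' 𝒟 R' i ⧸ LinearMap.range (α' 𝒟 R' i)) ≃ₗ[B' 𝒟 R' i] M' 𝒟 R' (i + 1)) := by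
  haveI : Fact (i < 𝒟.n) := ⟨by omega⟩
  obtain ⟨e', -⟩ := Groth.Agent.H99.CDBC2.exists_coker_equiv (gMB 𝒟 R' i) (gMB_isBaseChange 𝒟 R' i) (gMB' 𝒟 R' i)
    (gMB'_isBaseChange 𝒟 R' i) (LinearMap.range (𝒟.α i)) (𝒟.isoCoker i h)
  exact ⟨(Submodule.quotEquivOfEq _ _ (range_α' 𝒟 R' i)).trans e'⟩

end Step

end Groth.Agent.H20.DevBC
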