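import Mathlib
import Groth.Prelude.Def_FlatCA
import Groth.Agent.H20.DevBC3

/-!
# `H20.DevBC4`: the base-changed complete dévissage and its comparison with the original
-/

set_option autoImplicit false
set_option linter.style.haveILetI false
set_option linter.unusedSectionVars false
universe u
open TensorProduct

namespace Groth.Agent.H20.DevBC

open Groth.Agent.H57.PushoutPaste Groth.Agent.H99.CDBC Groth.Agent.H99.CDBC2

attribute [local instance] Algebra.TensorProduct.rightAlgebra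

section Top

variable {R S : Type u} [CommRing R] [CommRing S] [Algebra R S] {N : Type u} [AddCommGroup N]
  [Module S N] {p : Ideal R} [p.IsPrime] (𝒟 : FlatCA.CompleteDevissage R S N p)
  (R' : Type u) [CommRing R'] [Algebra R R']
  (S' : Type u) [CommRing S'] [Algebra R' S'] [Algebra R S'] [Algebra S S'] [IsScalarTower R R' S']
  [IsScalarTower R S S'] [Algebra.IsPushout R R' S S']

/-- `S' → R' ⊗ A 0` -/
noncomputable def sTAf : S →ₐ[R] TA 𝒟 R' 0 :=
  (Algebra.TensorProduct.includeRight (R := R) (A := R') (B := 𝒟.A 0)).comp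
      (IsScalarTower.toAlgHom R S (𝒟.A 0))

noncomputable def sTAg : R' →ₐ[R] TA 𝒟 R' 0 :=
  Algebra.TensorProduct.includeLeft (R := R) (S := R) (A := R') (B := 𝒟.A 0)

noncomputable def sTA : S' →ₐ[R] TA 𝒟 R' 0 :=
  haveI : Algebra.IsPushout R S R' S' := Algebra.IsPushout.symm inferInstance
  Algebra.pushoutDesc S' (sTAf 𝒟 R') (sTAg 𝒟 R') (fun _ _ => mul_comm _ _)

@[reducible] noncomputable def instAlgS'TA : Algebra S' (TA 𝒟 R' 0) := (sTA 𝒟 R' S').toRingHom.toAlgebra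

@[reducible] noncomputable def instAlgSTA : Algebra S (TA 𝒟 R' 0) :=
  ((algebraMap (𝒟.A 0) (TA 𝒟 R' 0)).comp (algebraMap S (𝒟.A 0))).toAlgebra

attribute [local instance] instAlgS'TA instAlgSTA

instance instTowerSATA : IsScalarTower S (𝒟.A 0) (TA 𝒟 R' 0) :=
  IsScalarTower.of_algebraMap_eq fun _ => rfl

instance instTowerSS'TA : IsScalarTower S S' (TA 𝒟 R' 0) := by
  refine IsScalarTower.of_algebraMap_eq (R := S) (S := S') (A := TA 𝒟 R' 0) fun s => ?_
  haveI : Algebra.IsPushout R S R' S' := Algebra.IsPushout.symm inferInstance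
  exact (Algebra.pushoutDesc_left (R := R) (S := S) (R' := R') S' (sTAf 𝒟 R') (sTAg 𝒟 R')
    (fun _ _ => mul_comm _ _) s).symm

instance instTowerR'S'TA : IsScalarTower R' S' (TA 𝒟 R' 0) := by
  refine IsScalarTower.of_algebraMap_eq (R := R') (S := S') (A := TA 𝒟 R' 0) fun r => ?_
  haveI : Algebra.IsPushout R S R' S' := Algebra.IsPushout.symm inferInstance
  exact (Algebra.pushoutDesc_right (R := R) (S := S) (R' := R') S' (sTAf 𝒟 R') (sTAg 𝒟 R')
    (fun _ _ => mul_comm _ _) r).symm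

theorem top_paste :
    Algebra.IsPushout S S' (𝒟.A 0) (TA 𝒟 R' 0) ∧
      (Function.Surjective (algebraMap S (𝒟.A 0)) →
        Function.Surjective (algebraMap S' (TA 𝒟 R' 0))) ∧
      (Algebra.FinitePresentation S (𝒟.A 0) → Algebra.FinitePresentation S' (TA 𝒟 R' 0)) ∧
      (Module.Finite S (𝒟.A 0) → Module.Finite S' (TA 𝒟 R' 0)) :=
  isPushout_paste R R' S S' (𝒟.A 0) (TA 𝒟 R' 0)

/-- `gM 0` as an `S`-linear map -/
noncomputable def gMS : 𝒟.M 0 →ₗ[S] M' 𝒟 R' 0 := (gM 𝒟 R' 0).restrictScalars S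

theorem gMS_isBaseChange : IsBaseChange S' (gMS 𝒟 R' (S := S)) :=
  haveI := (top_paste 𝒟 R' S').1
  isBaseChange_restrictScalars_of_isPushout S S' (𝒟.A 0) (TA 𝒟 R' 0) (𝒟.M 0)
    (M' 𝒟 R' 0) (gM 𝒟 R' 0) (gM_isBaseChange 𝒟 R' 0)

theorem exists_isoN (N' : Type u) [AddCommGroup N'] [Module S' N'] [Module S N']
    [IsScalarTower S S' N'] (f : N →ₗ[S] N') (hf : IsBaseChange S' f) :
    ∃ e' : N' ≃ₗ[S'] M' 𝒟 R' 0, ∀ x, e' (f x) = gM 𝒟 R' 0 (𝒟.isoN x) := by
  have hg := gMS_isBaseChange 𝒟 R' S'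
  refine ⟨hf.equiv.symm ≪≫ₗ
    (TensorProduct.AlgebraTensorModule.congr (LinearEquiv.refl S' S') 𝒟.isoN) ≪≫ₗ hg.equiv,
    fun x => ?_⟩
  simp only [LinearEquiv.trans_apply, IsBaseChange.equiv_symm_apply,
    TensorProduct.AlgebraTensorModule.congr_tmul, LinearEquiv.refl_apply,
    IsBaseChange.equiv_tmul, one_smul]
  rfl

end Top

end Groth.Agent.H20.DevBC
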