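import Mathlib
import Groth.Prelude.Def_FlatCA
import Groth.Agent.H20.DevBC4

/-!
# `H20.DevBC5`: the base-changed complete dévissage (structure) and the main theorem
-/

set_option autoImplicit false
set_option linter.style.haveILetI false
set_option linter.unusedSectionVars false
universe u
open TensorProduct

namespace Groth.Agent.H20.DevBC

attribute [local instance] Algebra.TensorProduct.rightAlgebra
attribute [local instance] instAlgS'TA instAlgSTA

section Main

variable {R S : Type u} [CommRing R] [CommRing S] [Algebra R S] {N : Type u} [AddCommGroup N]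
  [Module S N] {p : Ideal R} [p.IsPrime] (𝒟 : FlatCA.CompleteDevissage R S N p)
  (R' : Type u) [CommRing R'] [Algebra R R'] (p' : Ideal R') [p'.IsPrime] [p'.LiesOver p]
  (S' : Type u) [CommRing S'] [Algebra R' S'] [Algebra R S'] [Algebra S S'] [IsScalarTower R R' S']
  [IsScalarTower R S S'] [Algebra.IsPushout R R' S S']
  (N' : Type u) [AddCommGroup N'] [Module S' N'] [Module S N'] [IsScalarTower S S' N']
  (f : N →ₗ[S] N') (hf : IsBaseChange S' f)

/-- the base-changed complete dévissage -/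
noncomputable def bc : FlatCA.CompleteDevissage R' S' N' p' where
  n := 𝒟.n
  pos := 𝒟.pos
  A := TA 𝒟 R'
  B := B' 𝒟 R'
  M := M' 𝒟 R'
  r := 𝒟.r
  cA := fun _ => inferInstance
  cB := fun _ => inferInstance
  aRA := fun _ => inferInstance
  aRB := fun _ => inferInstance
  aBA := fun _ => inferInstance
  tRBA := fun _ => inferInstance
  aSA := instAlgS'TA 𝒟 R' S'
  tRSA := instTowerR'S'TA 𝒟 R' S'
  aBA' := fun _ => inferInstance
  tRBA' := fun _ => inferInstance
  gM := fun _ => inferInstance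
  mAM := fun _ => inferInstance
  mBM := fun _ => inferInstance
  tBAM := fun _ => inferInstance
  mRM := fun _ => inferInstance
  tRBM := fun _ => inferInstance
  mSM := inferInstance
  tSAM := inferInstance
  mB'M := fun _ => inferInstance
  tB'AM := fun _ => inferInstance
  hp := hp' 𝒟 R' p'
  α := α' 𝒟 R'
  surjSA := (top_paste 𝒟 R' S').2.1 𝒟.surjSA
  fpSA := (top_paste 𝒟 R' S').2.2.1 𝒟.fpSA
  surjBA' := fun i h =>
    haveI : Fact (i < 𝒟.n) := ⟨by omega⟩
    (step_paste' 𝒟 R' i).2.1 (𝒟.surjBA' i h)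
  fpBA' := fun i h =>
    haveI : Fact (i < 𝒟.n) := ⟨by omega⟩
    (step_paste' 𝒟 R' i).2.2.1 (𝒟.fpBA' i h)
  finiteBA := fun i h =>
    haveI : Fact (i < 𝒟.n) := ⟨h⟩
    (step_paste 𝒟 R' i).2.2.2 (𝒟.finiteBA i h)
  smooth := fun i h => (smooth' 𝒟 R' i h).1
  geomIrred := fun i h => (smooth' 𝒟 R' i h).2
  finiteM := fun i h =>
    haveI := 𝒟.finiteM i h
    inferInstanceAs (Module.Finite (TA 𝒟 R' i) (TA 𝒟 R' i ⊗[𝒟.A i] 𝒟.M i))
  isoN := Classical.choose (exists_isoN 𝒟 R' S' N' f hf)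
  isoCoker := fun i h => (isoCoker' 𝒟 R' i h).some
  fibreIso := fun i h => fibreIso' 𝒟 R' p' i h
  cokerLast :=
    haveI : Fact (𝒟.n - 1 < 𝒟.n) := ⟨Nat.sub_one_lt_of_lt 𝒟.pos⟩
    α'_surjective 𝒟 R' (𝒟.n - 1) 𝒟.cokerLast

theorem bc_isoN (x : N) :
    (bc 𝒟 R' p' S' N' f hf).isoN (f x) = gM 𝒟 R' 0 (𝒟.isoN x) :=
  Classical.choose_spec (exists_isoN 𝒟 R' S' N' f hf) x

end Main

end Groth.Agent.H20.DevBC
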