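import Mathlib
import Groth.Prelude.Def_FlatCA
import Groth.Agent.H20.DevBC1

/-!
# `H20.DevSh1`: the pieces of a shrinking of a complete dévissage

`B' i = B_i[1/bb i]` for all `i`; `A' i = A_i[1/aa i]` for `i ≠ n`, and
`A' n = B_{n-1}[1/bb (n-1)] ⊗ A_n[1/aa n]` (gated by `Tail`).
-/

set_option autoImplicit false
set_option linter.style.haveILetI false
set_option linter.unusedSectionVars false
universe u
open TensorProduct

namespace Groth.Agent.H20.DevSh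

open Groth.Agent.H20.DevBC

example (i : ℕ) : i + 1 - 1 = i := rfl

section Defs

variable {R S : Type u} [CommRing R] [CommRing S] [Algebra R S] {N : Type u} [AddCommGroup N]
  [Module S N] {p : Ideal R} [p.IsPrime] (𝒟 : FlatCA.CompleteDevissage R S N p)
  (g : R) (x0 : S) (b0 : ∀ i : ℕ, 𝒟.B i)

def bb (i : ℕ) : 𝒟.B i := b0 i * algebraMap R (𝒟.B i) g
def aa (i : ℕ) : 𝒟.A i := algebraMap (𝒟.B i) (𝒟.A i) (bb 𝒟 g b0 i)
def hX : S := x0 * algebraMap R S g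

abbrev Rg : Type u := Localization.Away g
abbrev SX : Type u := Localization.Away (hX g x0)
abbrev LB (i : ℕ) : Type u := Localization.Away (bb 𝒟 g b0 i)
abbrev LA (i : ℕ) : Type u := Localization.Away (aa 𝒟 g b0 i)

theorem aa_eq (i : ℕ) :
    aa 𝒟 g b0 i = algebraMap (𝒟.B i) (𝒟.A i) (b0 i) * algebraMap R (𝒟.A i) g := by
  rw [aa, bb, map_mul, ← IsScalarTower.algebraMap_apply R (𝒟.B i) (𝒟.A i)]

theorem unit_g_LB (i : ℕ) : IsUnit (algebraMap R (LB 𝒟 g b0 i) g) := by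
  rw [IsScalarTower.algebraMap_apply R (𝒟.B i) (LB 𝒟 g b0 i)]
  refine isUnit_of_dvd_unit ?_ (IsLocalization.Away.algebraMap_isUnit (bb 𝒟 g b0 i))
  exact map_dvd _ (Dvd.intro_left _ rfl)

theorem unit_g_LA (i : ℕ) : IsUnit (algebraMap R (LA 𝒟 g b0 i) g) := by
  rw [IsScalarTower.algebraMap_apply R (𝒟.A i) (LA 𝒟 g b0 i)]
  refine isUnit_of_dvd_unit ?_ (IsLocalization.Away.algebraMap_isUnit (aa 𝒟 g b0 i))
  exact map_dvd _ (Dvd.intro_left _ (aa_eq 𝒟 g b0 i).symm)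

theorem unit_g_SX : IsUnit (algebraMap R (SX g x0) g) := by
  rw [IsScalarTower.algebraMap_apply R S (SX g x0)]
  refine isUnit_of_dvd_unit ?_ (IsLocalization.Away.algebraMap_isUnit (hX g x0))
  exact map_dvd _ (Dvd.intro_left _ rfl)

noncomputable instance instAlgRgLB (i : ℕ) : Algebra (Rg g) (LB 𝒟 g b0 i) :=
  (IsLocalization.Away.lift g (unit_g_LB 𝒟 g b0 i)).toAlgebra

instance instTowerRgLB (i : ℕ) : IsScalarTower R (Rg g) (LB 𝒟 g b0 i) :=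
  IsScalarTower.of_algebraMap_eq fun r =>
    (IsLocalization.Away.lift_eq g (unit_g_LB 𝒟 g b0 i) r).symm

noncomputable instance instAlgRgLA (i : ℕ) : Algebra (Rg g) (LA 𝒟 g b0 i) :=
  (IsLocalization.Away.lift g (unit_g_LA 𝒟 g b0 i)).toAlgebra

instance instTowerRgLA (i : ℕ) : IsScalarTower R (Rg g) (LA 𝒟 g b0 i) :=
  IsScalarTower.of_algebraMap_eq fun r =>
    (IsLocalization.Away.lift_eq g (unit_g_LA 𝒟 g b0 i) r).symm

noncomputable instance instAlgRgSX : Algebra (Rg g) (SX g x0) :=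
  (IsLocalization.Away.lift g (unit_g_SX g x0)).toAlgebra

instance instTowerRgSX : IsScalarTower R (Rg g) (SX g x0) :=
  IsScalarTower.of_algebraMap_eq fun r =>
    (IsLocalization.Away.lift_eq g (unit_g_SX g x0) r).symm

-- tests
noncomputable example (i : ℕ) : Algebra (𝒟.B i) (LA 𝒟 g b0 i) := inferInstance
example (i : ℕ) : IsScalarTower (𝒟.B i) (𝒟.A i) (LA 𝒟 g b0 i) := inferInstance
example (i : ℕ) : IsScalarTower R (𝒟.B i) (LA 𝒟 g b0 i) := inferInstance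
example (i : ℕ) : IsScalarTower R (𝒟.B i) (LB 𝒟 g b0 i) := inferInstance
noncomputable example (i : ℕ) : Algebra (𝒟.B i) (LA 𝒟 g b0 (i + 1)) := inferInstance
example (i : ℕ) : IsScalarTower R (𝒟.B i) (LA 𝒟 g b0 (i + 1)) := inferInstance
example (i : ℕ) : IsScalarTower (𝒟.B i) (𝒟.A (i + 1)) (LA 𝒟 g b0 (i + 1)) := inferInstance
noncomputable example : Algebra S (LA 𝒟 g b0 0) := inferInstance
example : IsScalarTower S (𝒟.A 0) (LA 𝒟 g b0 0) := inferInstance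
example : IsScalarTower R S (LA 𝒟 g b0 0) := inferInstance

/-- the alternative ring at the index `n` -/
abbrev TT (i : ℕ) : Type u := LB 𝒟 g b0 (i - 1) ⊗[R] LA 𝒟 g b0 i

noncomputable example (i : ℕ) : Algebra (Rg g) (TT 𝒟 g b0 i) := inferInstance
example (i : ℕ) : IsScalarTower R (Rg g) (TT 𝒟 g b0 i) := inferInstance

/-- the new rings carrying the modules (a `def`, so that instance search does not unfold it) -/
def A' (i : ℕ) : Type u := Tail (Rg g) (LA 𝒟 g b0 i) (TT 𝒟 g b0 i) (i ≠ 𝒟.n)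

noncomputable instance instCommRingA' (i : ℕ) : CommRing (A' 𝒟 g b0 i) :=
  inferInstanceAs (CommRing (Tail (Rg g) (LA 𝒟 g b0 i) (TT 𝒟 g b0 i) (i ≠ 𝒟.n)))

noncomputable instance instAlgRgA' (i : ℕ) : Algebra (Rg g) (A' 𝒟 g b0 i) :=
  inferInstanceAs (Algebra (Rg g) (Tail (Rg g) (LA 𝒟 g b0 i) (TT 𝒟 g b0 i) (i ≠ 𝒟.n)))

/-- `A' i ≃ A_i[1/aa i]` for `i ≠ n` -/
noncomputable def eFst (i : ℕ) (h : i ≠ 𝒟.n) : A' 𝒟 g b0 i ≃ₐ[Rg g] LA 𝒟 g b0 i :=
  tailFst (Rg g) (LA 𝒟 g b0 i) (TT 𝒟 g b0 i) (i ≠ 𝒟.n) h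

/-- `A' n ≃ B_{n-1}[..] ⊗ A_n[..]` -/
noncomputable def eSnd (i : ℕ) (h : ¬ i ≠ 𝒟.n) : A' 𝒟 g b0 i ≃ₐ[Rg g] TT 𝒟 g b0 i :=
  tailSnd (Rg g) (LA 𝒟 g b0 i) (TT 𝒟 g b0 i) (i ≠ 𝒟.n) h

end Defs

end Groth.Agent.H20.DevSh
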