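import Mathlib
import Groth.Prelude.Def_FlatCA
import Groth.Agent.H20.DevSh1

/-!
# `H20.DevSh2`: structure maps between the pieces of a shrinking
-/

set_option autoImplicit false
set_option linter.style.haveILetI false
set_option linter.unusedSectionVars false
universe u
open TensorProduct

namespace Groth.Agent.H20.DevSh

open Groth.Agent.H20.DevBC

section Maps

variable {R S : Type u} [CommRing R] [CommRing S] [Algebra R S] {N : Type u} [AddCommGroup N]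
  [Module S N] {p : Ideal R} [p.IsPrime] (𝒟 : FlatCA.CompleteDevissage R S N p)
  (g : R) (x0 : S) (b0 : ∀ i : ℕ, 𝒟.B i)

/-- the unit conditions making the step maps exist -/
class Chain : Prop where
  unit : ∀ i, i + 1 ≠ 𝒟.n → IsUnit (algebraMap (𝒟.B i) (LA 𝒟 g b0 (i + 1)) (bb 𝒟 g b0 i))

/-- the unit condition making the top map exist -/
class ChainTop : Prop where
  unit : IsUnit (algebraMap S (LA 𝒟 g b0 0) (hX g x0))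

theorem unit_bb_LA (i : ℕ) :
    IsUnit ((IsScalarTower.toAlgHom R (𝒟.B i) (LA 𝒟 g b0 i)) (bb 𝒟 g b0 i)) := by
  show IsUnit (algebraMap (𝒟.B i) (LA 𝒟 g b0 i) (bb 𝒟 g b0 i))
  rw [IsScalarTower.algebraMap_apply (𝒟.B i) (𝒟.A i) (LA 𝒟 g b0 i)]
  exact IsLocalization.Away.algebraMap_isUnit (aa 𝒟 g b0 i)

/-- `B_i[1/bb i] → A_i[1/aa i]` -/
noncomputable def φ (i : ℕ) : LB 𝒟 g b0 i →ₐ[Rg g] LA 𝒟 g b0 i :=
  (IsLocalization.Away.liftAlgHom (bb 𝒟 g b0 i)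
    (f := IsScalarTower.toAlgHom R (𝒟.B i) (LA 𝒟 g b0 i))
    (unit_bb_LA 𝒟 g b0 i)).extendScalarsOfIsLocalization (Rg g) (Submonoid.powers g)

theorem φ_algebraMap (i : ℕ) (b : 𝒟.B i) :
    φ 𝒟 g b0 i (algebraMap (𝒟.B i) (LB 𝒟 g b0 i) b) = algebraMap (𝒟.B i) (LA 𝒟 g b0 i) b := by
  exact IsLocalization.Away.lift_eq (x := bb 𝒟 g b0 i)
    (g := (IsScalarTower.toAlgHom R (𝒟.B i) (LA 𝒟 g b0 i)).toRingHom) (unit_bb_LA 𝒟 g b0 i) b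

/-- `B_i[1/bb i] → A_{i+1}[1/aa (i+1)]` -/
noncomputable def ψ [hc : Chain 𝒟 g b0] (i : ℕ) (h : i + 1 ≠ 𝒟.n) :
    LB 𝒟 g b0 i →ₐ[Rg g] LA 𝒟 g b0 (i + 1) :=
  (IsLocalization.Away.liftAlgHom (bb 𝒟 g b0 i)
    (f := IsScalarTower.toAlgHom R (𝒟.B i) (LA 𝒟 g b0 (i + 1)))
    (hc.unit i h)).extendScalarsOfIsLocalization (Rg g) (Submonoid.powers g)

theorem ψ_algebraMap [hc : Chain 𝒟 g b0] (i : ℕ) (h : i + 1 ≠ 𝒟.n) (b : 𝒟.B i) :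
    ψ 𝒟 g b0 i h (algebraMap (𝒟.B i) (LB 𝒟 g b0 i) b) =
      algebraMap (𝒟.B i) (LA 𝒟 g b0 (i + 1)) b := by
  exact IsLocalization.Away.lift_eq (x := bb 𝒟 g b0 i)
    (g := (IsScalarTower.toAlgHom R (𝒟.B i) (LA 𝒟 g b0 (i + 1))).toRingHom) (hc.unit i h) b

/-- `A_i[1/aa i] → B_{i-1}[..] ⊗ A_i[1/aa i]` as an `R_g`-algebra map -/
noncomputable def incR (i : ℕ) : LA 𝒟 g b0 i →ₐ[Rg g] TT 𝒟 g b0 i :=
  (Algebra.TensorProduct.includeRight (R := R) (A := LB 𝒟 g b0 (i - 1))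
    (B := LA 𝒟 g b0 i)).extendScalarsOfIsLocalization (Rg g) (Submonoid.powers g)

/-- `B_i[1/bb i] → B_i[..] ⊗ A_{i+1}[..]` -/
noncomputable def incL (i : ℕ) : LB 𝒟 g b0 i →ₐ[Rg g] TT 𝒟 g b0 (i + 1) :=
  (Algebra.TensorProduct.includeLeft (R := R) (S := Rg g) (A := LB 𝒟 g b0 (i + 1 - 1))
    (B := LA 𝒟 g b0 (i + 1)))

noncomputable def toA (i : ℕ) : LB 𝒟 g b0 i →ₐ[Rg g] A' 𝒟 g b0 i :=
  if h : i ≠ 𝒟.n then
    (eFst 𝒟 g b0 i h).symm.toAlgHom.comp (φ 𝒟 g b0 i)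
  else (eSnd 𝒟 g b0 i h).symm.toAlgHom.comp
    ((incR 𝒟 g b0 i).comp (φ 𝒟 g b0 i))

noncomputable def toA' [Chain 𝒟 g b0] (i : ℕ) : LB 𝒟 g b0 i →ₐ[Rg g] A' 𝒟 g b0 (i + 1) :=
  if h : i + 1 ≠ 𝒟.n then
    (eFst 𝒟 g b0 (i + 1) h).symm.toAlgHom.comp
      (ψ 𝒟 g b0 i h)
  else (eSnd 𝒟 g b0 (i + 1) h).symm.toAlgHom.comp
    (incL 𝒟 g b0 i)

noncomputable def toAr (i : ℕ) : LB 𝒟 g b0 i →+* A' 𝒟 g b0 i := (toA 𝒟 g b0 i).toRingHom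

noncomputable def toAr' [Chain 𝒟 g b0] (i : ℕ) : LB 𝒟 g b0 i →+* A' 𝒟 g b0 (i + 1) :=
  (toA' 𝒟 g b0 i).toRingHom

noncomputable instance instAlgLBA' (i : ℕ) : Algebra (LB 𝒟 g b0 i) (A' 𝒟 g b0 i) :=
  (toAr 𝒟 g b0 i).toAlgebra

instance instTowerLBA' (i : ℕ) : IsScalarTower (Rg g) (LB 𝒟 g b0 i) (A' 𝒟 g b0 i) := by
  exact IsScalarTower.of_algebraMap_eq (R := Rg g) (S := LB 𝒟 g b0 i) (A := A' 𝒟 g b0 i)
    fun r => ((toA 𝒟 g b0 i).commutes r).symm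

noncomputable instance instAlgLBA'succ [Chain 𝒟 g b0] (i : ℕ) :
    Algebra (LB 𝒟 g b0 i) (A' 𝒟 g b0 (i + 1)) :=
  (toAr' 𝒟 g b0 i).toAlgebra

instance instTowerLBA'succ [Chain 𝒟 g b0] (i : ℕ) :
    IsScalarTower (Rg g) (LB 𝒟 g b0 i) (A' 𝒟 g b0 (i + 1)) := by
  exact IsScalarTower.of_algebraMap_eq (R := Rg g) (S := LB 𝒟 g b0 i) (A := A' 𝒟 g b0 (i + 1))
    fun r => ((toA' 𝒟 g b0 i).commutes r).symm

/-- `A_i → A' i` -/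
noncomputable def ιA (i : ℕ) : 𝒟.A i →+* A' 𝒟 g b0 i :=
  if h : i ≠ 𝒟.n then
    (eFst 𝒟 g b0 i h).symm.toAlgHom.toRingHom.comp
      (algebraMap (𝒟.A i) (LA 𝒟 g b0 i))
  else (eSnd 𝒟 g b0 i h).symm.toAlgHom.toRingHom.comp
    ((incR 𝒟 g b0 i).toRingHom.comp (algebraMap (𝒟.A i) (LA 𝒟 g b0 i)))

noncomputable instance instAlgAA' (i : ℕ) : Algebra (𝒟.A i) (A' 𝒟 g b0 i) :=
  (ιA 𝒟 g b0 i).toAlgebra

/-- the new modules -/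
abbrev M' (i : ℕ) : Type u := A' 𝒟 g b0 i ⊗[𝒟.A i] 𝒟.M i

/-- the base change map of modules -/
noncomputable def gM (i : ℕ) : 𝒟.M i →ₗ[𝒟.A i] M' 𝒟 g b0 i :=
  TensorProduct.mk (𝒟.A i) (A' 𝒟 g b0 i) (𝒟.M i) 1

theorem gM_isBaseChange (i : ℕ) : IsBaseChange (A' 𝒟 g b0 i) (gM 𝒟 g b0 i) :=
  TensorProduct.isBaseChange (𝒟.A i) (𝒟.M i) (A' 𝒟 g b0 i)

/-- the top map `S[1/hX] → A' 0` -/
noncomputable def σ [hc : ChainTop 𝒟 g x0 b0] : SX g x0 →ₐ[Rg g] A' 𝒟 g b0 0 :=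
  (eFst 𝒟 g b0 0 (Nat.ne_of_lt 𝒟.pos)).symm.toAlgHom.comp
    ((IsLocalization.Away.liftAlgHom (hX g x0)
      (f := IsScalarTower.toAlgHom R S (LA 𝒟 g b0 0))
      hc.unit).extendScalarsOfIsLocalization (Rg g) (Submonoid.powers g))

noncomputable def σr [ChainTop 𝒟 g x0 b0] : SX g x0 →+* A' 𝒟 g b0 0 := (σ 𝒟 g x0 b0).toRingHom

noncomputable instance instAlgSXA' [ChainTop 𝒟 g x0 b0] : Algebra (SX g x0) (A' 𝒟 g b0 0) :=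
  (σr 𝒟 g x0 b0).toAlgebra

instance instTowerSXA' [ChainTop 𝒟 g x0 b0] :
    IsScalarTower (Rg g) (SX g x0) (A' 𝒟 g b0 0) := by
  exact IsScalarTower.of_algebraMap_eq (R := Rg g) (S := SX g x0) (A := A' 𝒟 g b0 0)
    fun r => ((σ 𝒟 g x0 b0).commutes r).symm

-- instance tests
noncomputable example (i : ℕ) : Module (LB 𝒟 g b0 i) (M' 𝒟 g b0 i) := inferInstance
noncomputable example [Chain 𝒟 g b0] (i : ℕ) : Module (LB 𝒟 g b0 i) (M' 𝒟 g b0 (i + 1)) :=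
  inferInstance
noncomputable example (i : ℕ) : Module (Rg g) (M' 𝒟 g b0 i) := inferInstance
example (i : ℕ) : IsScalarTower (Rg g) (LB 𝒟 g b0 i) (M' 𝒟 g b0 i) := inferInstance
example (i : ℕ) : IsScalarTower (LB 𝒟 g b0 i) (A' 𝒟 g b0 i) (M' 𝒟 g b0 i) := inferInstance
example [Chain 𝒟 g b0] (i : ℕ) :
    IsScalarTower (LB 𝒟 g b0 i) (A' 𝒟 g b0 (i + 1)) (M' 𝒟 g b0 (i + 1)) := inferInstance
noncomputable example [ChainTop 𝒟 g x0 b0] : Module (SX g x0) (M' 𝒟 g b0 0) := inferInstance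
example [ChainTop 𝒟 g x0 b0] : IsScalarTower (SX g x0) (A' 𝒟 g b0 0) (M' 𝒟 g b0 0) :=
  inferInstance
noncomputable example (i : ℕ) : Module (𝒟.A i) (M' 𝒟 g b0 i) := inferInstance
example (i : ℕ) : IsScalarTower (𝒟.A i) (A' 𝒟 g b0 i) (M' 𝒟 g b0 i) := inferInstance

end Maps

end Groth.Agent.H20.DevSh
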