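import Mathlib
import Groth.Prelude.Def_FlatCA
import Groth.Agent.H20.DevSh2
import Groth.Agent.H66.ShrinkAway

/-!
# `H20.DevSh3`: the hypotheses of a shrinking, towers and pushouts
-/

set_option autoImplicit false
set_option linter.style.haveILetI false
set_option linter.unusedSectionVars false
universe u
open TensorProduct

namespace Groth.Agent.H20.DevSh

open Groth.Agent.H20.DevBC

/-- surjective / finitely presented / finite pass along a pushout square -/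
theorem transfer_of_isPushout (B B' A A' : Type u) [CommRing B] [CommRing B'] [CommRing A]
    [CommRing A'] [Algebra B B'] [Algebra B A] [Algebra A A'] [Algebra B' A'] [Algebra B A']
    [IsScalarTower B B' A'] [IsScalarTower B A A'] [hP : Algebra.IsPushout B B' A A'] :
    (Function.Surjective (algebraMap B A) → Function.Surjective (algebraMap B' A')) ∧
      (Algebra.FinitePresentation B A → Algebra.FinitePresentation B' A') ∧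
      (Module.Finite B A → Module.Finite B' A') := by
  refine ⟨fun hsurj x => ?_, fun _ => Algebra.FinitePresentation.equiv
    (Algebra.IsPushout.equiv B B' A A'), fun _ => Module.Finite.equiv
    (Algebra.IsPushout.equiv B B' A A').toLinearEquiv⟩
  refine hP.out.inductionOn x (fun x => ∃ y, algebraMap B' A' y = x) ⟨0, map_zero _⟩ ?_ ?_ ?_
  · intro c
    obtain ⟨s, rfl⟩ := hsurj c
    refine ⟨algebraMap B B' s, ?_⟩
    show algebraMap B' A' (algebraMap B B' s) = algebraMap A A' (algebraMap B A s)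
    rw [← IsScalarTower.algebraMap_apply B B' A', ← IsScalarTower.algebraMap_apply B A A']
  · rintro s' _ ⟨y, rfl⟩
    exact ⟨s' * y, by rw [map_mul, Algebra.smul_def]⟩
  · rintro _ _ ⟨y₁, rfl⟩ ⟨y₂, rfl⟩
    exact ⟨y₁ + y₂, map_add _ _ _⟩

section Facts

variable {R S : Type u} [CommRing R] [CommRing S] [Algebra R S] {N : Type u} [AddCommGroup N]
  [Module S N] {p : Ideal R} [p.IsPrime] {q : Ideal S} [q.IsPrime]
  {𝒟 : FlatCA.CompleteDevissage R S N p}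

/-- the hypotheses on the elements of a shrinking -/
structure Good (𝒜 : FlatCA.CompleteDevissageAt R S N p q 𝒟) (g : R) (x0 : S)
    (b0 : ∀ i : ℕ, 𝒟.B i) : Prop where
  hg : g ∉ p
  hx0 : x0 ∉ q
  hb0 : ∀ i, b0 i ∉ 𝒜.qB i
  tail : ∀ i, 𝒟.n ≤ i → b0 i = 1
  top : ∃ c d : 𝒟.A 0, algebraMap S (𝒟.A 0) x0 = algebraMap (𝒟.B 0) (𝒟.A 0) (b0 0) * c ∧
    c * d = algebraMap (𝒟.B 0) (𝒟.A 0) (b0 0)
  chain : ∀ i, i + 1 < 𝒟.n → ∃ c d : 𝒟.A (i + 1), algebraMap (𝒟.B i) (𝒟.A (i + 1)) (b0 i) =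
    algebraMap (𝒟.B (i + 1)) (𝒟.A (i + 1)) (b0 (i + 1)) * c ∧
    c * d = algebraMap (𝒟.B (i + 1)) (𝒟.A (i + 1)) (b0 (i + 1))
  surj : ∀ i, i < 𝒟.n → ∀ P : Ideal R, P.IsPrime → g ∉ P →
    ∃ Q : Ideal (𝒟.B i), Q.IsPrime ∧ b0 i ∉ Q ∧ Q.comap (algebraMap R (𝒟.B i)) = P

variable {𝒜 : FlatCA.CompleteDevissageAt R S N p q 𝒟} {g : R} {x0 : S} {b0 : ∀ i : ℕ, 𝒟.B i}

theorem qB_under (i : ℕ) : (𝒜.qB i).comap (algebraMap R (𝒟.B i)) = p :=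
  ((𝒜.overB i).over).symm

theorem qA_under (i : ℕ) : (𝒜.qA i).comap (algebraMap (𝒟.B i) (𝒟.A i)) = 𝒜.qB i :=
  ((𝒜.overA i).over).symm

theorem g_notMem_qB (G : Good 𝒜 g x0 b0) (i : ℕ) : algebraMap R (𝒟.B i) g ∉ 𝒜.qB i := by
  intro h
  have h' : g ∈ (𝒜.qB i).comap (algebraMap R (𝒟.B i)) := h
  rw [qB_under] at h'
  exact G.hg h'

theorem bb_notMem (G : Good 𝒜 g x0 b0) (i : ℕ) : bb 𝒟 g b0 i ∉ 𝒜.qB i := fun h =>
  ((𝒜.hqB i).mem_or_mem h).elim (G.hb0 i) (g_notMem_qB G i)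

theorem aa_notMem (G : Good 𝒜 g x0 b0) (i : ℕ) : aa 𝒟 g b0 i ∉ 𝒜.qA i := by
  intro h
  have h' : bb 𝒟 g b0 i ∈ (𝒜.qA i).comap (algebraMap (𝒟.B i) (𝒟.A i)) := h
  rw [qA_under] at h'
  exact bb_notMem G i h'

theorem q_under (𝒜 : FlatCA.CompleteDevissageAt R S N p q 𝒟) :
    q.comap (algebraMap R S) = p := by
  rw [← 𝒜.q0, Ideal.comap_comap, ← IsScalarTower.algebraMap_eq R S (𝒟.A 0),
    IsScalarTower.algebraMap_eq R (𝒟.B 0) (𝒟.A 0), ← Ideal.comap_comap, qA_under, qB_under]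

theorem hX_notMem (G : Good 𝒜 g x0 b0) : hX g x0 ∉ q := by
  intro h
  rcases (inferInstance : q.IsPrime).mem_or_mem h with h1 | h1
  · exact G.hx0 h1
  · have h' : g ∈ q.comap (algebraMap R S) := h1
    rw [q_under 𝒜] at h'
    exact G.hg h'

theorem key_chain (G : Good 𝒜 g x0 b0) (i : ℕ) (h : i + 1 < 𝒟.n) :
    ∃ c d : 𝒟.A (i + 1), algebraMap (𝒟.B i) (𝒟.A (i + 1)) (bb 𝒟 g b0 i) =
      aa 𝒟 g b0 (i + 1) * c ∧ c * d = aa 𝒟 g b0 (i + 1) ^ 1 := by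
  obtain ⟨c, d, h1, h2⟩ := G.chain i h
  refine ⟨c, d * algebraMap R (𝒟.A (i + 1)) g, ?_, ?_⟩
  · rw [bb, map_mul, h1, aa_eq, ← IsScalarTower.algebraMap_apply R (𝒟.B i) (𝒟.A (i + 1))]
    ring
  · rw [pow_one, aa_eq, ← mul_assoc, h2]

theorem key_top (G : Good 𝒜 g x0 b0) :
    ∃ c d : 𝒟.A 0, algebraMap S (𝒟.A 0) (hX g x0) = aa 𝒟 g b0 0 * c ∧
      c * d = aa 𝒟 g b0 0 ^ 1 := by
  obtain ⟨c, d, h1, h2⟩ := G.top
  refine ⟨c, d * algebraMap R (𝒟.A 0) g, ?_, ?_⟩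
  · rw [hX, map_mul, h1, aa_eq, ← IsScalarTower.algebraMap_apply R S (𝒟.A 0)]
    ring
  · rw [pow_one, aa_eq, ← mul_assoc, h2]

theorem Good.chain' (G : Good 𝒜 g x0 b0) : Chain 𝒟 g b0 := ⟨fun i _ => by
  rcases Nat.lt_or_ge (i + 1) 𝒟.n with h | h
  · obtain ⟨c, d, h1, h2⟩ := key_chain G i h
    rw [IsScalarTower.algebraMap_apply (𝒟.B i) (𝒟.A (i + 1)) (LA 𝒟 g b0 (i + 1)), h1, map_mul]
    have ua := IsLocalization.Away.algebraMap_isUnit (S := LA 𝒟 g b0 (i + 1))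
      (aa 𝒟 g b0 (i + 1))
    exact ua.mul (isUnit_of_dvd_unit (map_dvd _ ⟨d, by rw [h2, pow_one]⟩) ua)
  · have hi : 𝒟.n ≤ i := by omega
    rw [bb, G.tail i hi, one_mul,
      ← IsScalarTower.algebraMap_apply R (𝒟.B i) (LA 𝒟 g b0 (i + 1))]
    exact unit_g_LA 𝒟 g b0 (i + 1)⟩

theorem Good.chainTop (G : Good 𝒜 g x0 b0) : ChainTop 𝒟 g x0 b0 := ⟨by
  obtain ⟨c, d, h1, h2⟩ := key_top G
  rw [IsScalarTower.algebraMap_apply S (𝒟.A 0) (LA 𝒟 g b0 0), h1, map_mul]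
  have ua := IsLocalization.Away.algebraMap_isUnit (S := LA 𝒟 g b0 0) (aa 𝒟 g b0 0)
  exact ua.mul (isUnit_of_dvd_unit (map_dvd _ ⟨d, by rw [h2, pow_one]⟩) ua)⟩

end Facts

section Towers

variable {R S : Type u} [CommRing R] [CommRing S] [Algebra R S] {N : Type u} [AddCommGroup N]
  [Module S N] {p : Ideal R} [p.IsPrime] (𝒟 : FlatCA.CompleteDevissage R S N p)
  (g : R) (x0 : S) (b0 : ∀ i : ℕ, 𝒟.B i)

noncomputable instance instAlgBA' (i : ℕ) : Algebra (𝒟.B i) (A' 𝒟 g b0 i) :=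
  ((algebraMap (𝒟.A i) (A' 𝒟 g b0 i)).comp (algebraMap (𝒟.B i) (𝒟.A i))).toAlgebra

instance instTowerBAA' (i : ℕ) : IsScalarTower (𝒟.B i) (𝒟.A i) (A' 𝒟 g b0 i) :=
  IsScalarTower.of_algebraMap_eq fun _ => rfl

noncomputable instance instAlgBA'succ (i : ℕ) : Algebra (𝒟.B i) (A' 𝒟 g b0 (i + 1)) :=
  ((algebraMap (𝒟.A (i + 1)) (A' 𝒟 g b0 (i + 1))).comp
    (algebraMap (𝒟.B i) (𝒟.A (i + 1)))).toAlgebra

instance instTowerBAA'succ (i : ℕ) :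
    IsScalarTower (𝒟.B i) (𝒟.A (i + 1)) (A' 𝒟 g b0 (i + 1)) :=
  IsScalarTower.of_algebraMap_eq fun _ => rfl

noncomputable instance instAlgSA' : Algebra S (A' 𝒟 g b0 0) :=
  ((algebraMap (𝒟.A 0) (A' 𝒟 g b0 0)).comp (algebraMap S (𝒟.A 0))).toAlgebra

instance instTowerSAA' : IsScalarTower S (𝒟.A 0) (A' 𝒟 g b0 0) :=
  IsScalarTower.of_algebraMap_eq fun _ => rfl

noncomputable instance instAlgRA' (i : ℕ) : Algebra R (A' 𝒟 g b0 i) :=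
  ((algebraMap (Rg g) (A' 𝒟 g b0 i)).comp (algebraMap R (Rg g))).toAlgebra

instance instTowerRRgA' (i : ℕ) : IsScalarTower R (Rg g) (A' 𝒟 g b0 i) :=
  IsScalarTower.of_algebraMap_eq fun _ => rfl

theorem ιA_of_ne (i : ℕ) (h : i ≠ 𝒟.n) (a : 𝒟.A i) :
    algebraMap (𝒟.A i) (A' 𝒟 g b0 i) a =
      (eFst 𝒟 g b0 i h).symm (algebraMap (𝒟.A i) (LA 𝒟 g b0 i) a) := by
  show ιA 𝒟 g b0 i a = _
  rw [ιA, dif_pos h]
  rfl

theorem toA_of_ne (i : ℕ) (h : i ≠ 𝒟.n) (x : LB 𝒟 g b0 i) :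
    algebraMap (LB 𝒟 g b0 i) (A' 𝒟 g b0 i) x = (eFst 𝒟 g b0 i h).symm (φ 𝒟 g b0 i x) := by
  show toA 𝒟 g b0 i x = _
  rw [toA, dif_pos h]
  rfl

theorem toA'_of_ne [Chain 𝒟 g b0] (i : ℕ) (h : i + 1 ≠ 𝒟.n) (x : LB 𝒟 g b0 i) :
    algebraMap (LB 𝒟 g b0 i) (A' 𝒟 g b0 (i + 1)) x =
      (eFst 𝒟 g b0 (i + 1) h).symm (ψ 𝒟 g b0 i h x) := by
  show toA' 𝒟 g b0 i x = _
  rw [toA', dif_pos h]
  rfl

theorem tower_B_LB_A' (i : ℕ) (h : i ≠ 𝒟.n) :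
    IsScalarTower (𝒟.B i) (LB 𝒟 g b0 i) (A' 𝒟 g b0 i) := by
  refine IsScalarTower.of_algebraMap_eq fun b => ?_
  rw [toA_of_ne 𝒟 g b0 i h, φ_algebraMap]
  show algebraMap (𝒟.A i) (A' 𝒟 g b0 i) (algebraMap (𝒟.B i) (𝒟.A i) b) = _
  rw [ιA_of_ne 𝒟 g b0 i h, ← IsScalarTower.algebraMap_apply (𝒟.B i) (𝒟.A i) (LA 𝒟 g b0 i)]

theorem tower_B_LB_A'succ [Chain 𝒟 g b0] (i : ℕ) (h : i + 1 ≠ 𝒟.n) :
    IsScalarTower (𝒟.B i) (LB 𝒟 g b0 i) (A' 𝒟 g b0 (i + 1)) := by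
  refine IsScalarTower.of_algebraMap_eq fun b => ?_
  rw [toA'_of_ne 𝒟 g b0 i h, ψ_algebraMap]
  show algebraMap (𝒟.A (i + 1)) (A' 𝒟 g b0 (i + 1)) (algebraMap (𝒟.B i) (𝒟.A (i + 1)) b) = _
  rw [ιA_of_ne 𝒟 g b0 (i + 1) h,
    ← IsScalarTower.algebraMap_apply (𝒟.B i) (𝒟.A (i + 1)) (LA 𝒟 g b0 (i + 1))]

theorem tower_S_SX_A' [hc : ChainTop 𝒟 g x0 b0] :
    IsScalarTower S (SX g x0) (A' 𝒟 g b0 0) := by
  refine IsScalarTower.of_algebraMap_eq fun s => ?_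
  show algebraMap (𝒟.A 0) (A' 𝒟 g b0 0) (algebraMap S (𝒟.A 0) s) = σ 𝒟 g x0 b0 _
  rw [ιA_of_ne 𝒟 g b0 0 (Nat.ne_of_lt 𝒟.pos),
    ← IsScalarTower.algebraMap_apply S (𝒟.A 0) (LA 𝒟 g b0 0)]
  show _ = (eFst 𝒟 g b0 0 (Nat.ne_of_lt 𝒟.pos)).symm
    (IsLocalization.Away.lift (hX g x0)
      (g := (IsScalarTower.toAlgHom R S (LA 𝒟 g b0 0)).toRingHom) hc.unit
      (algebraMap S (SX g x0) s))
  rw [IsLocalization.Away.lift_eq]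
  rfl

theorem tower_R_A_A' (i : ℕ) (h : i ≠ 𝒟.n) : IsScalarTower R (𝒟.A i) (A' 𝒟 g b0 i) := by
  refine IsScalarTower.of_algebraMap_eq fun r => ?_
  rw [ιA_of_ne 𝒟 g b0 i h, ← IsScalarTower.algebraMap_apply R (𝒟.A i) (LA 𝒟 g b0 i),
    IsScalarTower.algebraMap_apply R (Rg g) (LA 𝒟 g b0 i), AlgEquiv.commutes]
  rfl

theorem away_A' (i : ℕ) (h : i ≠ 𝒟.n) : IsLocalization.Away (aa 𝒟 g b0 i) (A' 𝒟 g b0 i) := by
  let e : LA 𝒟 g b0 i ≃ₐ[𝒟.A i] A' 𝒟 g b0 i :=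
    AlgEquiv.ofRingEquiv (f := (eFst 𝒟 g b0 i h).symm.toRingEquiv)
      (fun a => (ιA_of_ne 𝒟 g b0 i h a).symm)
  exact IsLocalization.isLocalization_of_algEquiv (Submonoid.powers (aa 𝒟 g b0 i)) e

end Towers

end Groth.Agent.H20.DevSh
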