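import Mathlib
import Groth.Prelude.Def_FlatCA
import Groth.Agent.H20.ShrinkAlg

/-!
# `H20.ShrinkSch`: scheme-level parts of a standard shrinking

* `exists_base_shrink`: for `R → D` smooth, `y` over `p`, `w ∉ y`: a basic open `D(g) ∋ p` contained in
  the image of `D(w)`.
* `smooth_geomIrred_shrink`: `D[1/hY]` over `R[1/g]` stays smooth of relative dimension `n` with
  geometrically irreducible fibres, provided `Spec D[1/hY] → Spec R[1/g]` is surjective.
-/

set_option autoImplicit false
set_option linter.style.haveILetI false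
set_option linter.unusedSectionVars false
universe u

open CategoryTheory CategoryTheory.Limits AlgebraicGeometry

namespace Groth.Agent.H20.ShrinkSch

open Groth.Agent.H20

variable {R D : Type u} [CommRing R] [CommRing D] [Algebra R D]

theorem isOpenMap_comap_of_smooth (n : ℕ) (hsm : FlatCA.SmoothRelDim n R D) :
    IsOpenMap (PrimeSpectrum.comap (algebraMap R D)) := by
  haveI : SmoothOfRelativeDimension n (Spec.map (CommRingCat.ofHom (algebraMap R D))) := hsm
  haveI : Smooth (Spec.map (CommRingCat.ofHom (algebraMap R D))) :=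
    SmoothOfRelativeDimension.smooth n _
  exact (Spec.map (CommRingCat.ofHom (algebraMap R D))).isOpenMap

theorem exists_base_shrink (n : ℕ) (hsm : FlatCA.SmoothRelDim n R D) (p : Ideal R) [hp : p.IsPrime]
    (y : Ideal D) [hy : y.IsPrime] [hyp : y.LiesOver p] (w : D) (hw : w ∉ y) :
    ∃ g : R, g ∉ p ∧ ∀ P : Ideal R, P.IsPrime → g ∉ P →
      ∃ Q : Ideal D, Q.IsPrime ∧ w ∉ Q ∧ Q.comap (algebraMap R D) = P := by
  have hopen := isOpenMap_comap_of_smooth n hsm
  have hU : IsOpen (PrimeSpectrum.comap (algebraMap R D) '' (PrimeSpectrum.basicOpen w : Set _)) :=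
    hopen _ (PrimeSpectrum.basicOpen w).2
  have hmem : (⟨p, hp⟩ : PrimeSpectrum R) ∈
      PrimeSpectrum.comap (algebraMap R D) '' (PrimeSpectrum.basicOpen w : Set _) := by
    refine ⟨⟨y, hy⟩, hw, ?_⟩
    apply PrimeSpectrum.ext
    exact hyp.over.symm
  obtain ⟨_, ⟨_, ⟨g, rfl⟩, rfl⟩, hgp, hsub⟩ :=
    PrimeSpectrum.isBasis_basic_opens.exists_subset_of_mem_open hmem hU
  refine ⟨g, hgp, fun P hP hgP => ?_⟩
  obtain ⟨Q, hQw, hQ⟩ := hsub (show (⟨P, hP⟩ : PrimeSpectrum R) ∈ _ from hgP)
  exact ⟨Q.asIdeal, Q.2, hQw, congrArg PrimeSpectrum.asIdeal hQ⟩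

theorem smooth_geomIrred_shrink (n : ℕ) (hsm : FlatCA.SmoothRelDim n R D)
    (hirr : FlatCA.GeomIrredFibres R D) (g : R) (hY : D)
    [Algebra (Localization.Away g) (Localization.Away hY)]
    [IsScalarTower R (Localization.Away g) (Localization.Away hY)]
    (hsurj : ∀ P : Ideal R, P.IsPrime → g ∉ P →
      ∃ Q : Ideal D, Q.IsPrime ∧ hY ∉ Q ∧ Q.comap (algebraMap R D) = P) :
    FlatCA.SmoothRelDim n (Localization.Away g) (Localization.Away hY) ∧
      FlatCA.GeomIrredFibres (Localization.Away g) (Localization.Away hY) := by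
  let f : Spec (CommRingCat.of D) ⟶ Spec (CommRingCat.of R) :=
    Spec.map (CommRingCat.ofHom (algebraMap R D))
  let jD : Spec (CommRingCat.of (Localization.Away hY)) ⟶ Spec (CommRingCat.of D) :=
    Spec.map (CommRingCat.ofHom (algebraMap D (Localization.Away hY)))
  let jR : Spec (CommRingCat.of (Localization.Away g)) ⟶ Spec (CommRingCat.of R) :=
    Spec.map (CommRingCat.ofHom (algebraMap R (Localization.Away g)))
  let f' : Spec (CommRingCat.of (Localization.Away hY)) ⟶ Spec (CommRingCat.of (Localization.Away g)) :=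
    Spec.map (CommRingCat.ofHom (algebraMap (Localization.Away g) (Localization.Away hY)))
  haveI hjD : IsOpenImmersion jD :=
    inferInstanceAs (IsOpenImmersion (Spec.map (CommRingCat.ofHom
      (algebraMap (CommRingCat.of D) (Localization.Away (hY : CommRingCat.of D))))))
  haveI hjR : IsOpenImmersion jR :=
    inferInstanceAs (IsOpenImmersion (Spec.map (CommRingCat.ofHom
      (algebraMap (CommRingCat.of R) (Localization.Away (g : CommRingCat.of R))))))
  have hsq : jD ≫ f = f' ≫ jR := by
    show Spec.map _ ≫ Spec.map _ = Spec.map _ ≫ Spec.map _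
    rw [← Spec.map_comp, ← Spec.map_comp, ← CommRingCat.ofHom_comp, ← CommRingCat.ofHom_comp]
    congr 2
    rw [← IsScalarTower.algebraMap_eq, ← IsScalarTower.algebraMap_eq]
  haveI hf : SmoothOfRelativeDimension n f := hsm
  haveI hfi : GeometricallyIrreducible f := hirr
  -- smoothness
  have h1 : SmoothOfRelativeDimension n (jD ≫ f) :=
    IsZariskiLocalAtSource.comp (P := @SmoothOfRelativeDimension n) hf jD
  rw [hsq] at h1
  haveI := smoothOfRelativeDimension_isStableUnderBaseChange (n := n)
  have hsm' : SmoothOfRelativeDimension n f' :=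
    MorphismProperty.of_postcomp (W := @SmoothOfRelativeDimension n) (W' := @IsOpenImmersion)
      f' jR hjR h1
  refine ⟨hsm', ?_⟩
  -- surjectivity of f'
  have hsurj' : Surjective f' := by
    refine ⟨fun P' => ?_⟩
    let P : Ideal R := P'.asIdeal.comap (algebraMap R (Localization.Away g))
    have hgP : g ∉ P := by
      intro hmem
      have hu : IsUnit (algebraMap R (Localization.Away g) g) :=
        IsLocalization.Away.algebraMap_isUnit g
      exact P'.2.ne_top (Ideal.eq_top_of_isUnit_mem _ hmem hu)
    obtain ⟨Q, hQ, hYQ, hQP⟩ := hsurj P (Ideal.comap_isPrime _ _) hgP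
    haveI := hQ
    haveI hQ' := ShrinkAlg.isPrime_map_away hY Q hYQ
    refine ⟨⟨Q.map (algebraMap D (Localization.Away hY)), hQ'⟩, ?_⟩
    apply PrimeSpectrum.ext
    show (Q.map (algebraMap D (Localization.Away hY))).comap
      (algebraMap (Localization.Away g) (Localization.Away hY)) = P'.asIdeal
    rw [← ShrinkAlg.map_under_away g P'.asIdeal,
      ← ShrinkAlg.map_under_away g ((Q.map (algebraMap D (Localization.Away hY))).comap
        (algebraMap (Localization.Away g) (Localization.Away hY)))]
    congr 1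
    rw [Ideal.comap_comap, ← IsScalarTower.algebraMap_eq,
      IsScalarTower.algebraMap_eq R D (Localization.Away hY), ← Ideal.comap_comap,
      ShrinkAlg.under_map_away hY Q hYQ, hQP]
  -- geometric irreducibility via the base change of `f` along `jR`
  let i : Spec (CommRingCat.of (Localization.Away hY)) ⟶ pullback f jR :=
    pullback.lift jD f' hsq
  haveI : IsOpenImmersion (i ≫ pullback.fst f jR) := by
    rw [pullback.lift_fst]; exact hjD
  haveI : IsOpenImmersion i := IsOpenImmersion.of_comp i (pullback.fst f jR)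
  haveI : Surjective (i ≫ pullback.snd f jR) := by
    rw [pullback.lift_snd]; exact hsurj'
  have h2 : GeometricallyIrreducible (i ≫ pullback.snd f jR) := inferInstance
  rw [pullback.lift_snd] at h2
  exact h2

end Groth.Agent.H20.ShrinkSch
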