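import Mathlib
import Groth.Prelude.Def_FlatCA
import Groth.Agent.H20.DevSh3
import Groth.Agent.H20.ShrinkSch
import Groth.Agent.H10.DevX
import Groth.Agent.H57.PushoutPaste
import Groth.Agent.H99.CDBC
import Groth.Agent.H99.CDBC2

/-!
# `H20.DevSh4`: the step facts of a shrinking of a complete dévissage
-/

set_option autoImplicit false
set_option linter.style.haveILetI false
set_option linter.unusedSectionVars false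
universe u
open TensorProduct

namespace Groth.Agent.H20.DevSh

open Groth.Agent.H20.DevBC Groth.Agent.H20

section Step

variable {R S : Type u} [CommRing R] [CommRing S] [Algebra R S] {N : Type u} [AddCommGroup N]
  [Module S N] {p : Ideal R} [p.IsPrime] {q : Ideal S} [q.IsPrime]
  {𝒟 : FlatCA.CompleteDevissage R S N p}
  {𝒜 : FlatCA.CompleteDevissageAt R S N p q 𝒟} {g : R} {x0 : S} {b0 : ∀ i : ℕ, 𝒟.B i}

theorem po1 (i : ℕ) (h : i ≠ 𝒟.n) :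
    haveI := tower_B_LB_A' 𝒟 g b0 i h
    Algebra.IsPushout (𝒟.B i) (LB 𝒟 g b0 i) (𝒟.A i) (A' 𝒟 g b0 i) := by
  haveI := tower_B_LB_A' 𝒟 g b0 i h
  haveI := away_A' 𝒟 g b0 i h
  exact Groth.Agent.H66.ShrinkAway.isPushout_of_away (𝒟.B i) (LB 𝒟 g b0 i) (𝒟.A i)
    (A' 𝒟 g b0 i) (bb 𝒟 g b0 i) (aa 𝒟 g b0 i) 1 1 0 (by rw [mul_one]; rfl) (by simp)

theorem po2 [Chain 𝒟 g b0] (G : Good 𝒜 g x0 b0) (i : ℕ) (h : i + 1 < 𝒟.n) :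
    haveI := tower_B_LB_A'succ 𝒟 g b0 i (Nat.ne_of_lt h)
    Algebra.IsPushout (𝒟.B i) (LB 𝒟 g b0 i) (𝒟.A (i + 1)) (A' 𝒟 g b0 (i + 1)) := by
  haveI := tower_B_LB_A'succ 𝒟 g b0 i (Nat.ne_of_lt h)
  haveI := away_A' 𝒟 g b0 (i + 1) (Nat.ne_of_lt h)
  obtain ⟨c, d, h1, h2⟩ := key_chain G i h
  exact Groth.Agent.H66.ShrinkAway.isPushout_of_away (𝒟.B i) (LB 𝒟 g b0 i) (𝒟.A (i + 1))
    (A' 𝒟 g b0 (i + 1)) (bb 𝒟 g b0 i) (aa 𝒟 g b0 (i + 1)) c d 1 h1 h2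

theorem po0 [ChainTop 𝒟 g x0 b0] (G : Good 𝒜 g x0 b0) :
    haveI := tower_S_SX_A' 𝒟 g x0 b0
    Algebra.IsPushout S (SX g x0) (𝒟.A 0) (A' 𝒟 g b0 0) := by
  haveI := tower_S_SX_A' 𝒟 g x0 b0
  haveI := away_A' 𝒟 g b0 0 (Nat.ne_of_lt 𝒟.pos)
  obtain ⟨c, d, h1, h2⟩ := key_top G
  exact Groth.Agent.H66.ShrinkAway.isPushout_of_away S (SX g x0) (𝒟.A 0)
    (A' 𝒟 g b0 0) (hX g x0) (aa 𝒟 g b0 0) c d 1 h1 h2

variable (𝒟 g b0) in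
/-- `gM` as a `B i`-linear map -/
noncomputable def gMB (i : ℕ) : 𝒟.M i →ₗ[𝒟.B i] M' 𝒟 g b0 i :=
  (gM 𝒟 g b0 i).restrictScalars (𝒟.B i)

variable (𝒟 g b0) in
/-- `gM (i+1)` as a `B i`-linear map -/
noncomputable def gMB' (i : ℕ) : 𝒟.M (i + 1) →ₗ[𝒟.B i] M' 𝒟 g b0 (i + 1) :=
  (gM 𝒟 g b0 (i + 1)).restrictScalars (𝒟.B i)

variable (𝒟 g b0) in
/-- `gM 0` as an `S`-linear map -/
noncomputable def gMS : 𝒟.M 0 →ₗ[S] M' 𝒟 g b0 0 := (gM 𝒟 g b0 0).restrictScalars S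

theorem gMB_isBaseChange (i : ℕ) (h : i ≠ 𝒟.n) :
    haveI := tower_B_LB_A' 𝒟 g b0 i h
    IsBaseChange (LB 𝒟 g b0 i) (gMB 𝒟 g b0 i) := by
  haveI := tower_B_LB_A' 𝒟 g b0 i h
  haveI := po1 (g := g) (b0 := b0) i h
  exact Groth.Agent.H57.PushoutPaste.isBaseChange_restrictScalars_of_isPushout (𝒟.B i)
    (LB 𝒟 g b0 i) (𝒟.A i) (A' 𝒟 g b0 i) (𝒟.M i) (M' 𝒟 g b0 i) (gM 𝒟 g b0 i)
    (gM_isBaseChange 𝒟 g b0 i)

theorem gMB'_isBaseChange [Chain 𝒟 g b0] (G : Good 𝒜 g x0 b0) (i : ℕ) (h : i + 1 < 𝒟.n) :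
    haveI := tower_B_LB_A'succ 𝒟 g b0 i (Nat.ne_of_lt h)
    IsBaseChange (LB 𝒟 g b0 i) (gMB' 𝒟 g b0 i) := by
  haveI := tower_B_LB_A'succ 𝒟 g b0 i (Nat.ne_of_lt h)
  haveI := po2 G i h
  exact Groth.Agent.H57.PushoutPaste.isBaseChange_restrictScalars_of_isPushout (𝒟.B i)
    (LB 𝒟 g b0 i) (𝒟.A (i + 1)) (A' 𝒟 g b0 (i + 1)) (𝒟.M (i + 1)) (M' 𝒟 g b0 (i + 1))
    (gM 𝒟 g b0 (i + 1)) (gM_isBaseChange 𝒟 g b0 (i + 1))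

theorem gMS_isBaseChange [ChainTop 𝒟 g x0 b0] (G : Good 𝒜 g x0 b0) :
    haveI := tower_S_SX_A' 𝒟 g x0 b0
    IsBaseChange (SX g x0) (gMS 𝒟 g b0 (S := S)) := by
  haveI := tower_S_SX_A' 𝒟 g x0 b0
  haveI := po0 G
  exact Groth.Agent.H57.PushoutPaste.isBaseChange_restrictScalars_of_isPushout S
    (SX g x0) (𝒟.A 0) (A' 𝒟 g b0 0) (𝒟.M 0) (M' 𝒟 g b0 0)
    (gM 𝒟 g b0 0) (gM_isBaseChange 𝒟 g b0 0)

variable (𝒟 g b0) in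
/-- the new maps from finite free modules -/
noncomputable def α' (i : ℕ) : (Fin (𝒟.r i) → LB 𝒟 g b0 i) →ₗ[LB 𝒟 g b0 i] M' 𝒟 g b0 i :=
  Fintype.linearCombination (LB 𝒟 g b0 i) (fun j => gM 𝒟 g b0 i (𝒟.α i (Pi.single j 1)))

theorem α'_single (i : ℕ) (j : Fin (𝒟.r i)) :
    α' 𝒟 g b0 i (Pi.single j 1) = gMB 𝒟 g b0 i (𝒟.α i (Pi.single j 1)) := by
  rw [α', Fintype.linearCombination_apply_single, one_smul]
  rfl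

theorem map_le_qB (i : ℕ) : p.map (algebraMap R (𝒟.B i)) ≤ 𝒜.qB i :=
  Ideal.map_le_iff_le_comap.mpr (le_of_eq (qB_under (𝒜 := 𝒜) i).symm)

variable (𝒟 g b0) in
theorem pg_map_eq (i : ℕ) :
    (p.map (algebraMap R (Rg g))).map (algebraMap (Rg g) (LB 𝒟 g b0 i)) =
      (p.map (algebraMap R (𝒟.B i))).map (algebraMap (𝒟.B i) (LB 𝒟 g b0 i)) := by
  rw [Ideal.map_map, Ideal.map_map, ← IsScalarTower.algebraMap_eq, ← IsScalarTower.algebraMap_eq]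

theorem hp' (G : Good 𝒜 g x0 b0) (i : ℕ) :
    ((p.map (algebraMap R (Rg g))).map (algebraMap (Rg g) (LB 𝒟 g b0 i))).IsPrime := by
  rw [pg_map_eq]
  exact ShrinkAlg.isPrime_map_away (bb 𝒟 g b0 i) (p.map (algebraMap R (𝒟.B i)))
    (fun hmem => bb_notMem G i (map_le_qB i hmem))

theorem surj' (G : Good 𝒜 g x0 b0) (i : ℕ) (h : i < 𝒟.n) :
    ∀ P : Ideal R, P.IsPrime → g ∉ P →
      ∃ Q : Ideal (𝒟.B i), Q.IsPrime ∧ bb 𝒟 g b0 i ∉ Q ∧ Q.comap (algebraMap R (𝒟.B i)) = P := by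
  intro P hP hgP
  obtain ⟨Q, hQ, hbQ, hQP⟩ := G.surj i h P hP hgP
  refine ⟨Q, hQ, fun hmem => ?_, hQP⟩
  rcases hQ.mem_or_mem hmem with h1 | h1
  · exact hbQ h1
  · have h2 : g ∈ Q.comap (algebraMap R (𝒟.B i)) := h1
    rw [hQP] at h2
    exact hgP h2

theorem smooth' (i : ℕ) (h : i < 𝒟.n) : Algebra.Smooth (Rg g) (LB 𝒟 g b0 i) := by
  haveI := 𝒟.smooth i h
  exact Groth.Agent.H10.DevX.smooth_away R (𝒟.B i) g (bb 𝒟 g b0 i)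

theorem relDim' (G : Good 𝒜 g x0 b0) (i : ℕ) (h : i < 𝒟.n) :
    FlatCA.SmoothRelDim (𝒜.d i) (Rg g) (LB 𝒟 g b0 i) ∧
      FlatCA.GeomIrredFibres (Rg g) (LB 𝒟 g b0 i) :=
  ShrinkSch.smooth_geomIrred_shrink (𝒜.d i) (𝒜.relDim i h) (𝒟.geomIrred i h) g (bb 𝒟 g b0 i)
    (surj' G i h)

theorem liesOver' (G : Good 𝒜 g x0 b0) (i : ℕ) :
    ((p.map (algebraMap R (Rg g))).map (algebraMap (Rg g) (LB 𝒟 g b0 i))).LiesOver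
      (p.map (algebraMap R (𝒟.B i))) := by
  constructor
  rw [pg_map_eq]
  exact (ShrinkAlg.under_map_away (bb 𝒟 g b0 i) (p.map (algebraMap R (𝒟.B i)))
    (fun hmem => bb_notMem G i (map_le_qB i hmem))).symm

theorem fibreIso' (G : Good 𝒜 g x0 b0) (i : ℕ) (h : i < 𝒟.n) :
    haveI := hp' G i
    Function.Bijective ((α' 𝒟 g b0 i).baseChange
      ((p.map (algebraMap R (Rg g))).map (algebraMap (Rg g) (LB 𝒟 g b0 i))).ResidueField) := by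
  haveI := hp' G i
  haveI := liesOver' G i
  haveI := tower_B_LB_A' 𝒟 g b0 i (Nat.ne_of_lt h)
  exact Groth.Agent.H99.CDBC.bijective_baseChange_residueField (gMB 𝒟 g b0 i)
    (gMB_isBaseChange i (Nat.ne_of_lt h)) (𝒟.α i) (α' 𝒟 g b0 i) (α'_single i) _ _
    (𝒟.fibreIso i h)

theorem isoCoker' [Chain 𝒟 g b0] (G : Good 𝒜 g x0 b0) (i : ℕ) (h : i + 1 < 𝒟.n) :
    Nonempty ((M' 𝒟 g b0 i ⧸ LinearMap.range (α' 𝒟 g b0 i)) ≃ₗ[LB 𝒟 g b0 i]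
      M' 𝒟 g b0 (i + 1)) := by
  have hi : i ≠ 𝒟.n := by omega
  haveI := tower_B_LB_A' 𝒟 g b0 i hi
  haveI := tower_B_LB_A'succ 𝒟 g b0 i (Nat.ne_of_lt h)
  obtain ⟨e', -⟩ := Groth.Agent.H99.CDBC2.exists_coker_equiv_range (gMB 𝒟 g b0 i)
    (gMB_isBaseChange i hi) (gMB' 𝒟 g b0 i) (gMB'_isBaseChange G i h) (𝒟.α i)
    (α' 𝒟 g b0 i) (α'_single i) (𝒟.isoCoker i h)
  exact ⟨e'⟩

theorem range_α' (i : ℕ) (h : i ≠ 𝒟.n) :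
    LinearMap.range (α' 𝒟 g b0 i) = Submodule.span (LB 𝒟 g b0 i)
      ((gM 𝒟 g b0 i) '' (LinearMap.range (𝒟.α i) : Set (𝒟.M i))) := by
  haveI := tower_B_LB_A' 𝒟 g b0 i h
  exact Groth.Agent.H99.CDBC2.range_eq_span (gMB 𝒟 g b0 i) (𝒟.α i) (α' 𝒟 g b0 i) (α'_single i)

theorem α'_surjective (i : ℕ) (h : i ≠ 𝒟.n) (hs : Function.Surjective (𝒟.α i)) :
    Function.Surjective (α' 𝒟 g b0 i) := by
  haveI := tower_B_LB_A' 𝒟 g b0 i h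
  exact Groth.Agent.H99.CDBC2.surjective_of_surjective (gMB 𝒟 g b0 i)
    (gMB_isBaseChange i h) (𝒟.α i) (α' 𝒟 g b0 i) (α'_single i) hs

end Step

end Groth.Agent.H20.DevSh
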