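import Mathlib
import Groth.Prelude.Def_FlatCA
import Groth.Agent.H20.DevSh4

/-!
# `H20.DevSh5`: the shrunken complete dévissage (structure `sh`)
-/

set_option autoImplicit false
set_option linter.style.haveILetI false
set_option linter.unusedSectionVars false
universe u
open TensorProduct

namespace Groth.Agent.H20.DevSh

open Groth.Agent.H20.DevBC Groth.Agent.H20

section Main

variable {R S : Type u} [CommRing R] [CommRing S] [Algebra R S] {N : Type u} [AddCommGroup N]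
  [Module S N] {p : Ideal R} [p.IsPrime] {q : Ideal S} [q.IsPrime]
  {𝒟 : FlatCA.CompleteDevissage R S N p}
  {𝒜 : FlatCA.CompleteDevissageAt R S N p q 𝒟} {g : R} {x0 : S} {b0 : ∀ i : ℕ, 𝒟.B i}

/-- the localized module -/
abbrev NX (g : R) (x0 : S) (N : Type u) [AddCommGroup N] [Module S N] : Type u :=
  LocalizedModule (Submonoid.powers (hX g x0)) N

theorem exists_isoN [ChainTop 𝒟 g x0 b0] (G : Good 𝒜 g x0 b0) :
    ∃ e' : NX g x0 N ≃ₗ[SX g x0] M' 𝒟 g b0 0,
      ∀ x, e' (LocalizedModule.mkLinearMap (Submonoid.powers (hX g x0)) N x) =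
        gM 𝒟 g b0 0 (𝒟.isoN x) := by
  haveI := tower_S_SX_A' 𝒟 g x0 b0
  have hf : IsBaseChange (SX g x0)
      (LocalizedModule.mkLinearMap (Submonoid.powers (hX g x0)) N) :=
    IsLocalizedModule.isBaseChange (Submonoid.powers (hX g x0)) (SX g x0) _
  have hg := gMS_isBaseChange G
  refine ⟨hf.equiv.symm ≪≫ₗ
    (TensorProduct.AlgebraTensorModule.congr (LinearEquiv.refl (SX g x0) (SX g x0)) 𝒟.isoN) ≪≫ₗ
    hg.equiv, fun x => ?_⟩
  simp only [LinearEquiv.trans_apply, IsBaseChange.equiv_symm_apply,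
    TensorProduct.AlgebraTensorModule.congr_tmul, LinearEquiv.refl_apply,
    IsBaseChange.equiv_tmul, one_smul]
  rfl

variable [hpg : (p.map (algebraMap R (Rg g))).IsPrime]

/-- the shrunken complete dévissage -/
noncomputable def sh [Chain 𝒟 g b0] [ChainTop 𝒟 g x0 b0] (G : Good 𝒜 g x0 b0) :
    FlatCA.CompleteDevissage (Rg g) (SX g x0) (NX g x0 N) (p.map (algebraMap R (Rg g))) where
  n := 𝒟.n
  pos := 𝒟.pos
  A := A' 𝒟 g b0
  B := LB 𝒟 g b0
  M := M' 𝒟 g b0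
  r := 𝒟.r
  cA := fun _ => inferInstance
  cB := fun _ => inferInstance
  aRA := fun _ => inferInstance
  aRB := fun _ => inferInstance
  aBA := fun _ => inferInstance
  tRBA := fun _ => inferInstance
  aSA := instAlgSXA' 𝒟 g x0 b0
  tRSA := instTowerSXA' 𝒟 g x0 b0
  aBA' := fun _ => inferInstance
  tRBA' := fun _ => inferInstance
  gM := fun _ => inferInstance
  mAM := fun _ => inferInstance
  mBM := fun _ => inferInstance
  tBAM := fun _ => inferInstance
  mRM := fun _ => inferInstance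
  tRBM := fun _ => inferInstance
  mSM := inferInstance
  tSAM := inferInstance
  mB'M := fun _ => inferInstance
  tB'AM := fun _ => inferInstance
  hp := hp' G
  α := α' 𝒟 g b0
  surjSA :=
    haveI := tower_S_SX_A' 𝒟 g x0 b0
    haveI := po0 G
    (transfer_of_isPushout S (SX g x0) (𝒟.A 0) (A' 𝒟 g b0 0)).1 𝒟.surjSA
  fpSA :=
    haveI := tower_S_SX_A' 𝒟 g x0 b0
    haveI := po0 G
    (transfer_of_isPushout S (SX g x0) (𝒟.A 0) (A' 𝒟 g b0 0)).2.1 𝒟.fpSA
  surjBA' := fun i h =>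
    haveI := tower_B_LB_A'succ 𝒟 g b0 i (Nat.ne_of_lt h)
    haveI := po2 G i h
    (transfer_of_isPushout (𝒟.B i) (LB 𝒟 g b0 i) (𝒟.A (i + 1)) (A' 𝒟 g b0 (i + 1))).1
      (𝒟.surjBA' i h)
  fpBA' := fun i h =>
    haveI := tower_B_LB_A'succ 𝒟 g b0 i (Nat.ne_of_lt h)
    haveI := po2 G i h
    (transfer_of_isPushout (𝒟.B i) (LB 𝒟 g b0 i) (𝒟.A (i + 1)) (A' 𝒟 g b0 (i + 1))).2.1
      (𝒟.fpBA' i h)
  finiteBA := fun i h =>
    haveI := tower_B_LB_A' 𝒟 g b0 i (Nat.ne_of_lt h)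
    haveI := po1 (g := g) (b0 := b0) i (Nat.ne_of_lt h)
    (transfer_of_isPushout (𝒟.B i) (LB 𝒟 g b0 i) (𝒟.A i) (A' 𝒟 g b0 i)).2.2 (𝒟.finiteBA i h)
  smooth := fun i h => smooth' i h
  geomIrred := fun i h => (relDim' G i h).2
  finiteM := fun i h =>
    haveI := 𝒟.finiteM i h
    inferInstanceAs (Module.Finite (A' 𝒟 g b0 i) (A' 𝒟 g b0 i ⊗[𝒟.A i] 𝒟.M i))
  isoN := Classical.choose (exists_isoN G)
  isoCoker := fun i h => (isoCoker' G i h).some
  fibreIso := fun i h => fibreIso' G i h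
  cokerLast := α'_surjective (𝒟.n - 1) (Nat.ne_of_lt (Nat.sub_one_lt_of_lt 𝒟.pos)) 𝒟.cokerLast

theorem sh_isoN [Chain 𝒟 g b0] [ChainTop 𝒟 g x0 b0] (G : Good 𝒜 g x0 b0) (x : N) :
    (sh G).isoN (LocalizedModule.mkLinearMap (Submonoid.powers (hX g x0)) N x) =
      gM 𝒟 g b0 0 (𝒟.isoN x) :=
  Classical.choose_spec (exists_isoN G) x

end Main

end Groth.Agent.H20.DevSh
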