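import Mathlib
import Groth.Prelude.Def_FlatCA
import Groth.Prelude.Def_Flat
import Groth.Agent.H20.DevPt
import Groth.Agent.H20.ShrinkAlg
import Groth.Agent.H20.ShrinkFib
import Groth.Agent.H20.ShrinkSch

/-!
# `H20.ShrinkCore`: standard shrinkings of a one-step dévissage (core of S12241 / S12242)

Given a one-step dévissage at a point `(C, D, G, n; z, y)` of `N/S/R` at `q` over `p`, and elements
`g ∉ p`, `hX ∉ q`, `hZ = image of hX ∉ z`, `hY ∉ y` with `g ∣ hX`, `g ∣ hY`, `hY ∣ hZ`, `hZ ∣ hY^m` (in `C`) and
`Spec D[1/hY] → Spec R[1/g]` surjective, the localized data is again a one-step dévissage at the point.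
-/

set_option autoImplicit false
set_option linter.style.haveILetI false
set_option linter.unusedSectionVars false
set_option linter.unusedVariables false
universe u
open TensorProduct

namespace Groth.Agent.H20.ShrinkCore

open Groth.Agent.H20

/-- purely transcendental residue extension transported along bijective residue field maps. -/
theorem purelyTranscendental_of_bijective {R D : Type u} [CommRing R] [CommRing D] [Algebra R D]
    (p : Ideal R) [p.IsPrime] (y : Ideal D) [y.IsPrime] [hy : y.LiesOver p]
    (R' : Type u) [CommRing R'] [Algebra R R'] (p' : Ideal R') [p'.IsPrime] [hp' : p'.LiesOver p]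
    (D' : Type u) [CommRing D'] [Algebra R' D'] [Algebra R D'] [Algebra D D'] [IsScalarTower R R' D']
    [IsScalarTower R D D']
    (y' : Ideal D') [y'.IsPrime] [hyy' : y'.LiesOver y] [hy' : y'.LiesOver p']
    (h4 : FlatCA.PurelyTranscendental p y)
    (hκ : Function.Bijective (Ideal.ResidueField.mapₐ p p' (Algebra.ofId R R') hp'.over))
    (hτ : Function.Bijective (Ideal.ResidueField.mapₐ y y' (Algebra.ofId D D') hyy'.over)) :
    FlatCA.PurelyTranscendental p' y' := by
  let alg1 : Algebra p.ResidueField y.ResidueField :=
    (Ideal.ResidueField.mapₐ p y (Algebra.ofId R D) hy.over).toRingHom.toAlgebra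
  let alg2 : Algebra p'.ResidueField y'.ResidueField :=
    (Ideal.ResidueField.mapₐ p' y' (Algebra.ofId R' D') hy'.over).toRingHom.toAlgebra
  obtain ⟨ι, x, hx, hgen⟩ := h4
  let σ : p.ResidueField ≃+* p'.ResidueField :=
    RingEquiv.ofBijective (Ideal.ResidueField.mapₐ p p' (Algebra.ofId R R') hp'.over).toRingHom hκ
  let τ : y.ResidueField ≃+* y'.ResidueField :=
    RingEquiv.ofBijective (Ideal.ResidueField.mapₐ y y' (Algebra.ofId D D') hyy'.over).toRingHom hτ
  have hcomm : ∀ a : p.ResidueField,
      algebraMap p'.ResidueField y'.ResidueField (σ a) =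
        τ (algebraMap p.ResidueField y.ResidueField a) :=
    fun a => DevPt.residueField_square p y R' p' D' y' a
  have := DevPt.ptrans_transport σ τ hcomm x hx hgen
  exact ⟨ι, τ ∘ x, this.1, this.2⟩

/-- residue field maps of `B → B[1/b]` are bijective. -/
theorem residueField_map_away_bijective {B : Type u} [CommRing B] (b : B) (Q : Ideal B) [Q.IsPrime]
    (Q' : Ideal (Localization.Away b)) [Q'.IsPrime] [hQ' : Q'.LiesOver Q] :
    Function.Bijective
      (Ideal.ResidueField.mapₐ Q Q' (Algebra.ofId B (Localization.Away b)) hQ'.over) :=
  RingHom.SurjectiveOnStalks.residueFieldMap_bijective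
    (RingHom.surjectiveOnStalks_of_isLocalization (Submonoid.powers b) (Localization.Away b)) Q Q'
    hQ'.over

theorem core
    (R S : Type u) [CommRing R] [CommRing S] [Algebra R S] [Algebra.FiniteType R S]
    (N : Type u) [AddCommGroup N] [Module S N] [Module R N] [IsScalarTower R S N] [Module.Finite S N]
    (p : Ideal R) [p.IsPrime] (q : Ideal S) [q.IsPrime] [q.LiesOver p]
    (C D G : Type u) [CommRing C] [CommRing D] [Algebra S C] [Algebra R C] [IsScalarTower R S C]
    [Algebra R D] [Algebra D C] [IsScalarTower R D C] [AddCommGroup G] [Module C G] [Module S G]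
    [IsScalarTower S C G] (n : ℕ)
    (h : FlatCA.IsOneStepDevissage R S N p C D G n)
    (z : Ideal C) [z.IsPrime] (y : Ideal D) [y.IsPrime] [z.LiesOver q] [z.LiesOver y] [y.LiesOver p]
    (h1 : ∃ (ξ : PrimeSpectrum (p.Fiber S)) (hξ : ξ ∈ Module.support (p.Fiber S) (FlatCA.fiberMod p S N)),
      ξ.asIdeal = FlatCA.fiberIdeal p q ∧
      FlatMor.localDim (Module.support (p.Fiber S) (FlatCA.fiberMod p S N)) ⟨ξ, hξ⟩ = n)
    (h3 : ∀ (z₁ : Ideal C) [z₁.IsPrime], z₁.LiesOver y → z₁ = z)
    (h4 : FlatCA.PurelyTranscendental p y)
    (g : R) (hX : S) (hZ : C) (hY : D)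
    (hg : g ∉ p) (hXq : hX ∉ q) (hZz : hZ ∉ z) (hYy : hY ∉ y)
    (k1 : hZ = algebraMap S C hX)
    (k2 : ∃ a : S, hX = algebraMap R S g * a)
    (k3 : ∃ b : C, hZ = algebraMap D C hY * b)
    (k4 : ∃ (m : ℕ) (c : C), (algebraMap D C hY) ^ m = hZ * c)
    (k5 : ∃ e : D, hY = algebraMap R D g * e)
    (k6 : ∀ P : Ideal R, P.IsPrime → g ∉ P →
      ∃ Q : Ideal D, Q.IsPrime ∧ hY ∉ Q ∧ Q.comap (algebraMap R D) = P) :
      ∃ (_ : Algebra (Localization.Away g) (Localization.Away hX)) (_ : IsScalarTower R (Localization.Away g) (Localization.Away hX))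
        (_ : Algebra (Localization.Away g) (Localization.Away hZ)) (_ : IsScalarTower R (Localization.Away g) (Localization.Away hZ))
        (_ : Algebra (Localization.Away g) (Localization.Away hY)) (_ : IsScalarTower R (Localization.Away g) (Localization.Away hY))
        (_ : Algebra (Localization.Away hX) (Localization.Away hZ)) (_ : IsScalarTower S (Localization.Away hX) (Localization.Away hZ))
        (_ : IsScalarTower (Localization.Away g) (Localization.Away hX) (Localization.Away hZ))
        (_ : Algebra (Localization.Away hY) (Localization.Away hZ)) (_ : IsScalarTower D (Localization.Away hY) (Localization.Away hZ))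
        (_ : IsScalarTower (Localization.Away g) (Localization.Away hY) (Localization.Away hZ))
        (_ : Module (Localization.Away g) (LocalizedModule (Submonoid.powers hX) N)) (_ : IsScalarTower (Localization.Away g) (Localization.Away hX) (LocalizedModule (Submonoid.powers hX) N))
        (_ : Module (Localization.Away hX) (LocalizedModule (Submonoid.powers hZ) G)) (_ : IsScalarTower (Localization.Away hX) (Localization.Away hZ) (LocalizedModule (Submonoid.powers hZ) G))
        (_ : (Ideal.map (algebraMap R (Localization.Away g)) p).IsPrime) (_ : (Ideal.map (algebraMap D (Localization.Away hY)) y).IsPrime) (_ : (Ideal.map (algebraMap D (Localization.Away hY)) y).LiesOver (Ideal.map (algebraMap R (Localization.Away g)) p)),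
        FlatCA.IsOneStepDevissage (Localization.Away g) (Localization.Away hX) (LocalizedModule (Submonoid.powers hX) N) (Ideal.map (algebraMap R (Localization.Away g)) p) (Localization.Away hZ) (Localization.Away hY) (LocalizedModule (Submonoid.powers hZ) G) n ∧
        (∃ (ξ : PrimeSpectrum ((Ideal.map (algebraMap R (Localization.Away g)) p).Fiber (Localization.Away hX)))
            (hξ : ξ ∈ Module.support ((Ideal.map (algebraMap R (Localization.Away g)) p).Fiber (Localization.Away hX)) (FlatCA.fiberMod (Ideal.map (algebraMap R (Localization.Away g)) p) (Localization.Away hX) (LocalizedModule (Submonoid.powers hX) N))),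
          ξ.asIdeal = FlatCA.fiberIdeal (Ideal.map (algebraMap R (Localization.Away g)) p) (Ideal.map (algebraMap S (Localization.Away hX)) q) ∧
          FlatMor.localDim (Module.support ((Ideal.map (algebraMap R (Localization.Away g)) p).Fiber (Localization.Away hX)) (FlatCA.fiberMod (Ideal.map (algebraMap R (Localization.Away g)) p) (Localization.Away hX) (LocalizedModule (Submonoid.powers hX) N))) ⟨ξ, hξ⟩ = n) ∧
        (Ideal.map (algebraMap C (Localization.Away hZ)) z).LiesOver (Ideal.map (algebraMap S (Localization.Away hX)) q) ∧ (Ideal.map (algebraMap C (Localization.Away hZ)) z).LiesOver (Ideal.map (algebraMap D (Localization.Away hY)) y) ∧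
        (∀ (z₂ : Ideal (Localization.Away hZ)) [z₂.IsPrime], z₂.LiesOver (Ideal.map (algebraMap D (Localization.Away hY)) y) → z₂ = Ideal.map (algebraMap C (Localization.Away hZ)) z) ∧
        FlatCA.PurelyTranscendental (Ideal.map (algebraMap R (Localization.Away g)) p) (Ideal.map (algebraMap D (Localization.Away hY)) y) := by
  obtain ⟨⟨e⟩, hsurjSC, hfp, hfinDC, hfinCG, hsm, hirr, hdim⟩ := h
  -- units
  have uX : IsUnit (algebraMap S (Localization.Away hX) hX) :=
    IsLocalization.Away.algebraMap_isUnit hX
  have uZ : IsUnit (algebraMap C (Localization.Away hZ) hZ) :=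
    IsLocalization.Away.algebraMap_isUnit hZ
  have uY : IsUnit (algebraMap D (Localization.Away hY) hY) :=
    IsLocalization.Away.algebraMap_isUnit hY
  have u1 : IsUnit (algebraMap R (Localization.Away hX) g) := by
    obtain ⟨a, ha⟩ := k2
    refine isUnit_of_dvd_unit ⟨algebraMap S (Localization.Away hX) a, ?_⟩ uX
    rw [IsScalarTower.algebraMap_apply R S (Localization.Away hX), ← map_mul, ha]
  have u2 : IsUnit (algebraMap R (Localization.Away hZ) g) := by
    obtain ⟨a, ha⟩ := k2
    refine isUnit_of_dvd_unit ⟨algebraMap C (Localization.Away hZ) (algebraMap S C a), ?_⟩ uZ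
    rw [IsScalarTower.algebraMap_apply R C (Localization.Away hZ), ← map_mul]
    congr 1
    rw [k1, ha, map_mul, ← IsScalarTower.algebraMap_apply R S C]
  have u3 : IsUnit (algebraMap R (Localization.Away hY) g) := by
    obtain ⟨a, ha⟩ := k5
    refine isUnit_of_dvd_unit ⟨algebraMap D (Localization.Away hY) a, ?_⟩ uY
    rw [IsScalarTower.algebraMap_apply R D (Localization.Away hY), ← map_mul, ha]
  have u4 : IsUnit (algebraMap S (Localization.Away hZ) hX) := by
    rw [IsScalarTower.algebraMap_apply S C (Localization.Away hZ), ← k1]
    exact uZ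
  have u5 : IsUnit (algebraMap D (Localization.Away hZ) hY) := by
    obtain ⟨b, hb⟩ := k3
    refine isUnit_of_dvd_unit ⟨algebraMap C (Localization.Away hZ) b, ?_⟩ uZ
    rw [IsScalarTower.algebraMap_apply D C (Localization.Away hZ), ← map_mul, hb]
  -- algebra structures
  obtain ⟨aRS, tRS⟩ := ShrinkAlg.exists_algebra_away g (Localization.Away hX) u1
  obtain ⟨aRC, tRC⟩ := ShrinkAlg.exists_algebra_away g (Localization.Away hZ) u2
  obtain ⟨aRD, tRD⟩ := ShrinkAlg.exists_algebra_away g (Localization.Away hY) u3
  obtain ⟨aSC, tSC⟩ := ShrinkAlg.exists_algebra_away hX (Localization.Away hZ) u4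
  obtain ⟨aDC, tDC⟩ := ShrinkAlg.exists_algebra_away hY (Localization.Away hZ) u5
  have tRSC : IsScalarTower R (Localization.Away hX) (Localization.Away hZ) :=
    IsScalarTower.of_algebraMap_eq fun r => by
      rw [IsScalarTower.algebraMap_apply R S (Localization.Away hX),
        ← IsScalarTower.algebraMap_apply S (Localization.Away hX) (Localization.Away hZ),
        ← IsScalarTower.algebraMap_apply R S (Localization.Away hZ)]
  have tgSC : IsScalarTower (Localization.Away g) (Localization.Away hX) (Localization.Away hZ) :=
    ShrinkAlg.isScalarTower_away g (Localization.Away hX) (Localization.Away hZ)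
  have tRDC : IsScalarTower R (Localization.Away hY) (Localization.Away hZ) :=
    IsScalarTower.of_algebraMap_eq fun r => by
      rw [IsScalarTower.algebraMap_apply R D (Localization.Away hY),
        ← IsScalarTower.algebraMap_apply D (Localization.Away hY) (Localization.Away hZ),
        ← IsScalarTower.algebraMap_apply R D (Localization.Away hZ)]
  have tgDC : IsScalarTower (Localization.Away g) (Localization.Away hY) (Localization.Away hZ) :=
    ShrinkAlg.isScalarTower_away g (Localization.Away hY) (Localization.Away hZ)
  -- module structures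
  obtain ⟨mRN, tRN⟩ := ShrinkAlg.exists_module_compHom (Localization.Away g) (Localization.Away hX)
    (LocalizedModule (Submonoid.powers hX) N)
  obtain ⟨mSG, tSG⟩ := ShrinkAlg.exists_module_compHom (Localization.Away hX) (Localization.Away hZ)
    (LocalizedModule (Submonoid.powers hZ) G)
  -- primes
  have hpg : (Ideal.map (algebraMap R (Localization.Away g)) p).IsPrime :=
    ShrinkAlg.isPrime_map_away g p hg
  have hpgp : (Ideal.map (algebraMap R (Localization.Away g)) p).LiesOver p :=
    ShrinkFib.liesOver_pg p g hg
  have hyY : (Ideal.map (algebraMap D (Localization.Away hY)) y).IsPrime :=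
    ShrinkAlg.isPrime_map_away hY y hYy
  have hyYy : (Ideal.map (algebraMap D (Localization.Away hY)) y).LiesOver y :=
    ⟨(ShrinkAlg.under_map_away hY y hYy).symm⟩
  have hyYp : (Ideal.map (algebraMap D (Localization.Away hY)) y).LiesOver
      (Ideal.map (algebraMap R (Localization.Away g)) p) :=
    ShrinkAlg.liesOver_map_away g hY p y hYy
  have hqX : (Ideal.map (algebraMap S (Localization.Away hX)) q).IsPrime :=
    ShrinkAlg.isPrime_map_away hX q hXq
  have hqXp : (Ideal.map (algebraMap S (Localization.Away hX)) q).LiesOver
      (Ideal.map (algebraMap R (Localization.Away g)) p) :=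
    ShrinkAlg.liesOver_map_away g hX p q hXq
  have hzZ : (Ideal.map (algebraMap C (Localization.Away hZ)) z).IsPrime :=
    ShrinkAlg.isPrime_map_away hZ z hZz
  have hfib := ShrinkFib.fibre_shrink p g hg S hX N q hXq n hdim h1
  refine ⟨aRS, tRS, aRC, tRC, aRD, tRD, aSC, tSC, tgSC, aDC, tDC, tgDC, mRN, tRN, mSG, tSG,
    hpg, hyY, hyYp, ?_, hfib.2, ?_, ?_, ?_, ?_⟩
  · -- the one-step dévissage
    have hsch := ShrinkSch.smooth_geomIrred_shrink n hsm hirr g hY k6
    refine ⟨?_, ?_, ?_, ?_, ?_, hsch.1, hsch.2, hfib.1⟩
    · -- N[1/hX] ≃ G[1/hZ]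
      haveI inst1 : IsLocalizedModule (Submonoid.powers (algebraMap S C hX))
          (LocalizedModule.mkLinearMap (Submonoid.powers hZ) G) := by
        rw [← k1]; infer_instance
      haveI inst2 : IsLocalizedModule (Submonoid.powers hX)
          ((LocalizedModule.mkLinearMap (Submonoid.powers hZ) G).restrictScalars S) :=
        IsLocalizedModule.restrictScalars_powers hX
          (LocalizedModule.mkLinearMap (Submonoid.powers hZ) G)
      haveI tSXG : IsScalarTower S (Localization.Away hX)
          (LocalizedModule (Submonoid.powers hZ) G) :=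
        IsScalarTower.of_algebraMap_smul fun s x => by
          rw [← algebraMap_smul (Localization.Away hZ) (algebraMap S (Localization.Away hX) s) x,
            ← IsScalarTower.algebraMap_apply S (Localization.Away hX) (Localization.Away hZ),
            algebraMap_smul]
      exact ⟨IsLocalizedModule.mapEquiv (Submonoid.powers hX)
        (LocalizedModule.mkLinearMap (Submonoid.powers hX) N)
        ((LocalizedModule.mkLinearMap (Submonoid.powers hZ) G).restrictScalars S)
        (Localization.Away hX) e⟩
    · -- surjectivity
      intro x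
      obtain ⟨k, c, hc⟩ := IsLocalization.Away.surj hZ x
      obtain ⟨s, rfl⟩ := hsurjSC c
      obtain ⟨v, hv⟩ := uX
      refine ⟨algebraMap S (Localization.Away hX) s * ((v⁻¹ ^ k : (Localization.Away hX)ˣ) :
        Localization.Away hX), ?_⟩
      have hvZ : algebraMap (Localization.Away hX) (Localization.Away hZ)
          (v : Localization.Away hX) = algebraMap C (Localization.Away hZ) hZ := by
        rw [hv, ← IsScalarTower.algebraMap_apply S (Localization.Away hX) (Localization.Away hZ),
          IsScalarTower.algebraMap_apply S C (Localization.Away hZ), k1]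
      have hinv : ((v⁻¹ ^ k : (Localization.Away hX)ˣ) : Localization.Away hX) *
          (v : Localization.Away hX) ^ k = 1 := by
        rw [← Units.val_pow_eq_pow_val, ← Units.val_mul, inv_pow, inv_mul_cancel, Units.val_one]
      apply (uZ.pow k).mul_right_cancel
      rw [hc, ← hvZ, ← map_pow, ← map_mul, mul_assoc, hinv, mul_one,
        ← IsScalarTower.algebraMap_apply S (Localization.Away hX) (Localization.Away hZ),
        IsScalarTower.algebraMap_apply S C (Localization.Away hZ)]
    · -- finite presentation
      haveI : IsLocalization (Algebra.algebraMapSubmonoid C (Submonoid.powers hX))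
          (Localization.Away hZ) := by
        rw [Algebra.algebraMapSubmonoid_powers, ← k1]; infer_instance
      have hpo : Algebra.IsPushout S C (Localization.Away hX) (Localization.Away hZ) :=
        Algebra.isPushout_of_isLocalization (Submonoid.powers hX) (Localization.Away hX) C
          (Localization.Away hZ)
      haveI := hpo.symm
      exact Algebra.FinitePresentation.equiv
        (Algebra.IsPushout.equiv S (Localization.Away hX) C (Localization.Away hZ))
    · -- finiteness over D[1/hY]
      let l : C →ₗ[D] Localization.Away hZ :=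
        (IsScalarTower.toAlgHom D C (Localization.Away hZ)).toLinearMap
      let L : (Localization.Away hY) ⊗[D] C →ₗ[Localization.Away hY] Localization.Away hZ :=
        LinearMap.liftBaseChange (Localization.Away hY) l
      have hL : Function.Surjective L := by
        intro x
        obtain ⟨k, c, hc⟩ := IsLocalization.Away.surj hZ x
        obtain ⟨m, c', hc'⟩ := k4
        obtain ⟨v, hv⟩ := uY
        refine ⟨((v⁻¹ ^ (m * k) : (Localization.Away hY)ˣ) : Localization.Away hY) ⊗ₜ[D]
          (c * c' ^ k), ?_⟩
        have e1 : algebraMap (Localization.Away hY) (Localization.Away hZ)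
            (v : Localization.Away hY) =
            algebraMap C (Localization.Away hZ) (algebraMap D C hY) := by
          rw [hv, ← IsScalarTower.algebraMap_apply D (Localization.Away hY) (Localization.Away hZ),
            IsScalarTower.algebraMap_apply D C (Localization.Away hZ)]
        have hv' : ((v ^ (m * k) : (Localization.Away hY)ˣ) : Localization.Away hY) • x =
            algebraMap C (Localization.Away hZ) (c * c' ^ k) := by
          rw [Algebra.smul_def, Units.val_pow_eq_pow_val, map_pow, e1, ← map_pow, pow_mul, hc',
            mul_pow, map_mul, map_mul, map_pow, map_pow, ← hc]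
          ring
        show L (_ ⊗ₜ[D] (c * c' ^ k)) = x
        rw [LinearMap.liftBaseChange_tmul]
        show ((v⁻¹ ^ (m * k) : (Localization.Away hY)ˣ) : Localization.Away hY) •
          algebraMap C (Localization.Away hZ) (c * c' ^ k) = x
        rw [← hv', smul_smul, ← Units.val_mul, inv_pow, inv_mul_cancel, Units.val_one, one_smul]
      exact Module.Finite.of_surjective L hL
    · -- finiteness of G[1/hZ]
      exact Module.Finite.of_isLocalizedModule (Submonoid.powers hZ)
        (LocalizedModule.mkLinearMap (Submonoid.powers hZ) G)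
  · exact ShrinkAlg.liesOver_map_away hX hZ q z hZz
  · exact ShrinkAlg.liesOver_map_away hY hZ y z hZz
  · intro z₂ hz₂ hz₂y
    apply ShrinkAlg.eq_map_of_under_eq hZ z z₂
    haveI : (z₂.comap (algebraMap C (Localization.Away hZ))).IsPrime := Ideal.comap_isPrime _ _
    apply h3
    constructor
    show y = (z₂.comap (algebraMap C (Localization.Away hZ))).comap (algebraMap D C)
    have h5 := hz₂y.over
    rw [Ideal.under_def] at h5
    rw [Ideal.comap_comap, ← IsScalarTower.algebraMap_eq,
      IsScalarTower.algebraMap_eq D (Localization.Away hY) (Localization.Away hZ),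
      ← Ideal.comap_comap, ← h5, ShrinkAlg.under_map_away hY y hYy]
  · exact purelyTranscendental_of_bijective p y (Localization.Away g)
      (Ideal.map (algebraMap R (Localization.Away g)) p) (Localization.Away hY)
      (Ideal.map (algebraMap D (Localization.Away hY)) y) h4
      (residueField_map_away_bijective g p _) (residueField_map_away_bijective hY y _)

end Groth.Agent.H20.ShrinkCore
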