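import Mathlib
import Groth.Prelude.Def_FlatCA
import Groth.Agent.H20.DevSh5
import Groth.Agent.H20.ShrinkCore
import Groth.Agent.H58.ShrinkX2

/-!
# `H20.DevSh6`: the points of the shrunken complete dévissage (structure `shAt`)
-/

set_option autoImplicit false
set_option linter.style.haveILetI false
set_option linter.unusedSectionVars false
universe u
open TensorProduct

namespace Groth.Agent.H20.DevSh

open Groth.Agent.H20.DevBC Groth.Agent.H20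

section At

variable {R S : Type u} [CommRing R] [CommRing S] [Algebra R S] {N : Type u} [AddCommGroup N]
  [Module S N] {p : Ideal R} [p.IsPrime] {q : Ideal S} [q.IsPrime]
  {𝒟 : FlatCA.CompleteDevissage R S N p}
  {𝒜 : FlatCA.CompleteDevissageAt R S N p q 𝒟} {g : R} {x0 : S} {b0 : ∀ i : ℕ, 𝒟.B i}

variable (𝒜 g b0) in
/-- the points of the new smooth algebras -/
def qB' (i : ℕ) : Ideal (LB 𝒟 g b0 i) := (𝒜.qB i).map (algebraMap (𝒟.B i) (LB 𝒟 g b0 i))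

variable (𝒜 g b0) in
/-- the points of `A_i[1/aa i]` -/
def qLA (i : ℕ) : Ideal (LA 𝒟 g b0 i) := (𝒜.qA i).map (algebraMap (𝒟.A i) (LA 𝒟 g b0 i))

theorem qB'_isPrime (G : Good 𝒜 g x0 b0) (i : ℕ) : (qB' 𝒜 g b0 i).IsPrime :=
  haveI := 𝒜.hqB i
  ShrinkAlg.isPrime_map_away (bb 𝒟 g b0 i) (𝒜.qB i) (bb_notMem G i)

theorem qLA_isPrime (G : Good 𝒜 g x0 b0) (i : ℕ) : (qLA 𝒜 g b0 i).IsPrime :=
  haveI := 𝒜.hqA i
  ShrinkAlg.isPrime_map_away (aa 𝒟 g b0 i) (𝒜.qA i) (aa_notMem G i)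

theorem qB'_under (G : Good 𝒜 g x0 b0) (i : ℕ) :
    (qB' 𝒜 g b0 i).comap (algebraMap (𝒟.B i) (LB 𝒟 g b0 i)) = 𝒜.qB i :=
  haveI := 𝒜.hqB i
  ShrinkAlg.under_map_away (bb 𝒟 g b0 i) (𝒜.qB i) (bb_notMem G i)

theorem qLA_under (G : Good 𝒜 g x0 b0) (i : ℕ) :
    (qLA 𝒜 g b0 i).comap (algebraMap (𝒟.A i) (LA 𝒟 g b0 i)) = 𝒜.qA i :=
  haveI := 𝒜.hqA i
  ShrinkAlg.under_map_away (aa 𝒟 g b0 i) (𝒜.qA i) (aa_notMem G i)

theorem exists_J (G : Good 𝒜 g x0 b0) (i : ℕ) :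
    ∃ J : Ideal (TT 𝒟 g b0 i), J.IsPrime ∧
      J.comap (Algebra.TensorProduct.includeLeft :
        LB 𝒟 g b0 (i - 1) →ₐ[R] TT 𝒟 g b0 i).toRingHom = qB' 𝒜 g b0 (i - 1) ∧
      J.comap (Algebra.TensorProduct.includeRight :
        LA 𝒟 g b0 i →ₐ[R] TT 𝒟 g b0 i).toRingHom = qLA 𝒜 g b0 i := by
  haveI := qB'_isPrime G (i - 1)
  haveI := qLA_isPrime G i
  apply Groth.Agent.H10.DevX.exists_prime_tensor_liesOver R (LB 𝒟 g b0 (i - 1)) (LA 𝒟 g b0 i)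
    (qB' 𝒜 g b0 (i - 1)) (qLA 𝒜 g b0 i)
  rw [IsScalarTower.algebraMap_eq R (𝒟.B (i - 1)) (LB 𝒟 g b0 (i - 1)), ← Ideal.comap_comap,
    qB'_under G, qB_under, IsScalarTower.algebraMap_eq R (𝒟.A i) (LA 𝒟 g b0 i),
    ← Ideal.comap_comap, qLA_under G, IsScalarTower.algebraMap_eq R (𝒟.B i) (𝒟.A i),
    ← Ideal.comap_comap, qA_under, qB_under]

/-- the chosen prime of `B_{i-1}[..] ⊗ A_i[..]` -/
noncomputable def Jn (G : Good 𝒜 g x0 b0) (i : ℕ) : Ideal (TT 𝒟 g b0 i) :=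
  Classical.choose (exists_J G i)

/-- the points of the new rings -/
noncomputable def qA' (G : Good 𝒜 g x0 b0) (i : ℕ) : Ideal (A' 𝒟 g b0 i) :=
  if h : i ≠ 𝒟.n then (𝒜.qA i).map (algebraMap (𝒟.A i) (A' 𝒟 g b0 i))
  else (Jn G i).comap ((eSnd 𝒟 g b0 i h).toAlgHom.toRingHom)

theorem qA'_isPrime (G : Good 𝒜 g x0 b0) (i : ℕ) : (qA' G i).IsPrime := by
  unfold qA'
  split_ifs with h
  · haveI := away_A' 𝒟 g b0 i h
    haveI := 𝒜.hqA i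
    exact IsLocalization.isPrime_of_isPrime_disjoint (Submonoid.powers (aa 𝒟 g b0 i))
      (A' 𝒟 g b0 i) (𝒜.qA i) (𝒜.hqA i)
      (ShrinkAlg.disjoint_powers (aa 𝒟 g b0 i) (𝒜.qA i) (aa_notMem G i))
  · haveI : (Jn G i).IsPrime := (Classical.choose_spec (exists_J G i)).1
    exact Ideal.comap_isPrime _ _

theorem comap_φ (G : Good 𝒜 g x0 b0) (i : ℕ) :
    (qLA 𝒜 g b0 i).comap (φ 𝒟 g b0 i).toRingHom = qB' 𝒜 g b0 i := by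
  letI : Algebra (LB 𝒟 g b0 i) (LA 𝒟 g b0 i) := (φ 𝒟 g b0 i).toRingHom.toAlgebra
  haveI : IsScalarTower (𝒟.B i) (LB 𝒟 g b0 i) (LA 𝒟 g b0 i) :=
    IsScalarTower.of_algebraMap_eq fun b => (φ_algebraMap 𝒟 g b0 i b).symm
  haveI := 𝒜.hqB i
  haveI := 𝒜.hqA i
  exact Groth.Agent.H66.ShrinkAway.comap_map_away (𝒟.B i) (LB 𝒟 g b0 i) (𝒟.A i)
    (LA 𝒟 g b0 i) (bb 𝒟 g b0 i) (aa 𝒟 g b0 i) (𝒜.qB i) (𝒜.qA i) (bb_notMem G i)
    (aa_notMem G i) (qA_under i)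

theorem toA_of_eq (i : ℕ) (h : ¬ i ≠ 𝒟.n) (x : LB 𝒟 g b0 i) :
    algebraMap (LB 𝒟 g b0 i) (A' 𝒟 g b0 i) x =
      (eSnd 𝒟 g b0 i h).symm (incR 𝒟 g b0 i (φ 𝒟 g b0 i x)) := by
  show toA 𝒟 g b0 i x = _
  rw [toA, dif_neg h]
  rfl

theorem overA' (G : Good 𝒜 g x0 b0) (i : ℕ) :
    (qA' G i).comap (algebraMap (LB 𝒟 g b0 i) (A' 𝒟 g b0 i)) = qB' 𝒜 g b0 i := by
  unfold qA'
  split_ifs with h
  · haveI := tower_B_LB_A' 𝒟 g b0 i h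
    haveI := away_A' 𝒟 g b0 i h
    haveI := 𝒜.hqB i
    haveI := 𝒜.hqA i
    exact Groth.Agent.H66.ShrinkAway.comap_map_away (𝒟.B i) (LB 𝒟 g b0 i) (𝒟.A i)
      (A' 𝒟 g b0 i) (bb 𝒟 g b0 i) (aa 𝒟 g b0 i) (𝒜.qB i) (𝒜.qA i) (bb_notMem G i)
      (aa_notMem G i) (qA_under i)
  · rw [← comap_φ G i, ← (Classical.choose_spec (exists_J G i)).2.2]
    ext x
    simp only [Ideal.mem_comap]
    rw [toA_of_eq i h]
    show (eSnd 𝒟 g b0 i h) ((eSnd 𝒟 g b0 i h).symm _) ∈ Jn G i ↔ _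
    rw [AlgEquiv.apply_symm_apply]
    rfl

end At

end Groth.Agent.H20.DevSh
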