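import Mathlib
import Groth.Prelude.Def_FlatCA
import Groth.Agent.H20.DevSh6

/-!
# `H20.DevSh7`: the points of the shrunken complete dévissage and the main theorem
-/

set_option autoImplicit false
set_option linter.style.haveILetI false
set_option linter.unusedSectionVars false
universe u
open TensorProduct

namespace Groth.Agent.H20.DevSh

open Groth.Agent.H20.DevBC Groth.Agent.H20

section At2

variable {R S : Type u} [CommRing R] [CommRing S] [Algebra R S] {N : Type u} [AddCommGroup N]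
  [Module S N] {p : Ideal R} [p.IsPrime] {q : Ideal S} [q.IsPrime]
  {𝒟 : FlatCA.CompleteDevissage R S N p}
  {𝒜 : FlatCA.CompleteDevissageAt R S N p q 𝒟} {g : R} {x0 : S} {b0 : ∀ i : ℕ, 𝒟.B i}

theorem qA'_of_ne (G : Good 𝒜 g x0 b0) (i : ℕ) (h : i ≠ 𝒟.n) :
    qA' G i = (𝒜.qA i).map (algebraMap (𝒟.A i) (A' 𝒟 g b0 i)) := by
  unfold qA'
  rw [dif_pos h]

theorem overB' (G : Good 𝒜 g x0 b0) (i : ℕ) :
    (qB' 𝒜 g b0 i).LiesOver (p.map (algebraMap R (Rg g))) :=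
  haveI := 𝒜.hqB i
  haveI := 𝒜.overB i
  ShrinkAlg.liesOver_map_away g (bb 𝒟 g b0 i) p (𝒜.qB i) (bb_notMem G i)

variable [hpg : (p.map (algebraMap R (Rg g))).IsPrime]
  [hqX : (q.map (algebraMap S (SX g x0))).IsPrime]

theorem liesOverB (G : Good 𝒜 g x0 b0) (i : ℕ) : (qB' 𝒜 g b0 i).LiesOver (𝒜.qB i) :=
  ⟨(qB'_under G i).symm⟩

theorem liesOverA (G : Good 𝒜 g x0 b0) (i : ℕ) (hne : i ≠ 𝒟.n) :
    (qA' G i).LiesOver (𝒜.qA i) := by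
  refine ⟨?_⟩
  show 𝒜.qA i = (qA' G i).comap (algebraMap (𝒟.A i) (A' 𝒟 g b0 i))
  rw [qA'_of_ne G i hne]
  haveI := away_A' 𝒟 g b0 i hne
  haveI := 𝒜.hqA i
  exact (IsLocalization.under_map_of_isPrime_disjoint (Submonoid.powers (aa 𝒟 g b0 i))
    (A' 𝒟 g b0 i) (𝒜.hqA i)
    (ShrinkAlg.disjoint_powers (aa 𝒟 g b0 i) (𝒜.qA i) (aa_notMem G i))).symm

theorem pureTrans' (G : Good 𝒜 g x0 b0) (i : ℕ) (h : i < 𝒟.n) :
    @FlatCA.PurelyTranscendental (Rg g) (LB 𝒟 g b0 i) _ _ _ (p.map (algebraMap R (Rg g)))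
      (qB' 𝒜 g b0 i) hpg (qB'_isPrime G i) (overB' G i) := by
  haveI := 𝒜.hqB i
  haveI := 𝒜.overB i
  haveI := qB'_isPrime G i
  haveI : (p.map (algebraMap R (Rg g))).LiesOver p := ShrinkFib.liesOver_pg p g G.hg
  haveI : (qB' 𝒜 g b0 i).LiesOver (𝒜.qB i) := liesOverB G i
  haveI := overB' G i
  exact ShrinkCore.purelyTranscendental_of_bijective p (𝒜.qB i) (Rg g)
    (p.map (algebraMap R (Rg g))) (LB 𝒟 g b0 i) (qB' 𝒜 g b0 i) (𝒜.pureTrans i h)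
    (ShrinkCore.residueField_map_away_bijective g p _)
    (ShrinkCore.residueField_map_away_bijective (bb 𝒟 g b0 i) (𝒜.qB i) _)

theorem uniq' (G : Good 𝒜 g x0 b0) (i : ℕ) (h : i < 𝒟.n) (Q : Ideal (A' 𝒟 g b0 i))
    (hQ : Q.IsPrime) (hQ' : Q.LiesOver (qB' 𝒜 g b0 i)) : Q = qA' G i := by
  have hne : i ≠ 𝒟.n := Nat.ne_of_lt h
  rw [qA'_of_ne G i hne]
  haveI := tower_B_LB_A' 𝒟 g b0 i hne
  haveI := away_A' 𝒟 g b0 i hne
  haveI := 𝒜.hqB i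
  haveI := 𝒜.hqA i
  exact Groth.Agent.H66.ShrinkAway.uniq_map_away (𝒟.B i) (LB 𝒟 g b0 i) (𝒟.A i)
    (A' 𝒟 g b0 i) (bb 𝒟 g b0 i) (aa 𝒟 g b0 i) (𝒜.qB i) (𝒜.qA i) (bb_notMem G i)
    (aa_notMem G i) (fun Q₁ _ h₁ => 𝒜.uniq i h Q₁ h₁) Q hQ'

theorem q0' [ChainTop 𝒟 g x0 b0] (G : Good 𝒜 g x0 b0) :
    (qA' G 0).comap (algebraMap (SX g x0) (A' 𝒟 g b0 0)) = q.map (algebraMap S (SX g x0)) := by
  have hne : 0 ≠ 𝒟.n := Nat.ne_of_lt 𝒟.pos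
  rw [qA'_of_ne G 0 hne]
  haveI := tower_S_SX_A' 𝒟 g x0 b0
  haveI := away_A' 𝒟 g b0 0 hne
  haveI := 𝒜.hqA 0
  exact Groth.Agent.H66.ShrinkAway.comap_map_away S (SX g x0) (𝒟.A 0)
    (A' 𝒟 g b0 0) (hX g x0) (aa 𝒟 g b0 0) q (𝒜.qA 0) (hX_notMem G)
    (aa_notMem G 0) 𝒜.q0

theorem qStep' [Chain 𝒟 g b0] (G : Good 𝒜 g x0 b0) (i : ℕ) (h : i + 1 < 𝒟.n) :
    (qA' G (i + 1)).comap (algebraMap (LB 𝒟 g b0 i) (A' 𝒟 g b0 (i + 1))) = qB' 𝒜 g b0 i := by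
  have hne : i + 1 ≠ 𝒟.n := Nat.ne_of_lt h
  rw [qA'_of_ne G (i + 1) hne]
  haveI := tower_B_LB_A'succ 𝒟 g b0 i hne
  haveI := away_A' 𝒟 g b0 (i + 1) hne
  haveI := 𝒜.hqB i
  haveI := 𝒜.hqA (i + 1)
  exact Groth.Agent.H66.ShrinkAway.comap_map_away (𝒟.B i) (LB 𝒟 g b0 i) (𝒟.A (i + 1))
    (A' 𝒟 g b0 (i + 1)) (bb 𝒟 g b0 i) (aa 𝒟 g b0 (i + 1)) (𝒜.qB i) (𝒜.qA (i + 1))
    (bb_notMem G i) (aa_notMem G (i + 1)) (𝒜.qStep i h)

theorem locDim' (G : Good 𝒜 g x0 b0) (i : ℕ) (h : i < 𝒟.n) :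
    ∃ (x : PrimeSpectrum ((p.map (algebraMap R (Rg g))).Fiber (LB 𝒟 g b0 i)))
      (hx : x ∈ Module.support ((p.map (algebraMap R (Rg g))).Fiber (LB 𝒟 g b0 i))
        (FlatCA.fiberMod (p.map (algebraMap R (Rg g))) (LB 𝒟 g b0 i) (M' 𝒟 g b0 i))),
      x.asIdeal = FlatCA.fiberIdeal (p.map (algebraMap R (Rg g))) (qB' 𝒜 g b0 i) ∧
      FlatMor.localDim (Module.support ((p.map (algebraMap R (Rg g))).Fiber (LB 𝒟 g b0 i))
        (FlatCA.fiberMod (p.map (algebraMap R (Rg g))) (LB 𝒟 g b0 i) (M' 𝒟 g b0 i)))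
        ⟨x, hx⟩ = 𝒜.d i := by
  have hne : i ≠ 𝒟.n := Nat.ne_of_lt h
  haveI : Module.Finite (𝒟.B i) (𝒟.M i) := by
    haveI := 𝒟.finiteBA i h
    haveI := 𝒟.finiteM i h
    exact Module.Finite.trans (𝒟.A i) (𝒟.M i)
  haveI := 𝒜.hqB i
  haveI := 𝒜.overB i
  haveI : ((𝒜.qB i).map (algebraMap (𝒟.B i) (Localization.Away (bb 𝒟 g b0 i)))).IsPrime :=
    qB'_isPrime G i
  haveI : ((𝒜.qB i).map (algebraMap (𝒟.B i) (Localization.Away (bb 𝒟 g b0 i)))).LiesOver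
      (p.map (algebraMap R (Localization.Away g))) := overB' G i
  haveI := tower_B_LB_A' 𝒟 g b0 i hne
  exact Groth.Agent.H58.ShrinkX2.locDim_of_isBaseChange_away p g G.hg (𝒟.B i)
    (bb 𝒟 g b0 i) (𝒟.M i) (𝒜.qB i) (bb_notMem G i) (M' 𝒟 g b0 i) (gMB 𝒟 g b0 i)
    (gMB_isBaseChange i hne) (𝒜.d i) (𝒜.locDim i h)

/-- the points of the shrunken complete dévissage -/
noncomputable def shAt [Chain 𝒟 g b0] [ChainTop 𝒟 g x0 b0] (G : Good 𝒜 g x0 b0) :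
    FlatCA.CompleteDevissageAt (Rg g) (SX g x0) (NX g x0 N) (p.map (algebraMap R (Rg g)))
      (q.map (algebraMap S (SX g x0))) (sh G) where
  qB := qB' 𝒜 g b0
  qA := qA' G
  hqB := qB'_isPrime G
  hqA := qA'_isPrime G
  overB := overB' G
  overA := fun i => ⟨(overA' G i).symm⟩
  pureTrans := fun i h => pureTrans' G i h
  uniq := fun i h Q hQ hQ' => uniq' G i h Q hQ hQ'
  q0 := q0' G
  qStep := fun i h => qStep' G i h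
  d := 𝒜.d
  relDim := fun i h => (relDim' G i h).1
  locDim := fun i h => locDim' G i h

end At2

section Final

variable {R S : Type u} [CommRing R] [CommRing S] [Algebra R S] {N : Type u} [AddCommGroup N]
  [Module S N] {p : Ideal R} [p.IsPrime] {q : Ideal S} [q.IsPrime]
  {𝒟 : FlatCA.CompleteDevissage R S N p}
  {𝒜 : FlatCA.CompleteDevissageAt R S N p q 𝒟} {g : R} {x0 : S} {b0 : ∀ i : ℕ, 𝒟.B i}

/-- the algebra `B i → A' (i+1)` through `B_i[1/bb i]` -/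
@[reducible] noncomputable def bAnew [Chain 𝒟 g b0] (i : ℕ) : Algebra (𝒟.B i) (A' 𝒟 g b0 (i + 1)) :=
  ((algebraMap (LB 𝒟 g b0 i) (A' 𝒟 g b0 (i + 1))).comp
    (algebraMap (𝒟.B i) (LB 𝒟 g b0 i))).toAlgebra

theorem t7 [Chain 𝒟 g b0] (i : ℕ) :
    @IsScalarTower (𝒟.B i) (LB 𝒟 g b0 i) (A' 𝒟 g b0 (i + 1)) _ _
      (bAnew (g := g) (b0 := b0) i).toSMul :=
  @IsScalarTower.of_algebraMap_eq (𝒟.B i) (LB 𝒟 g b0 i) (A' 𝒟 g b0 (i + 1)) _ _ _ _ _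
    (bAnew (g := g) (b0 := b0) i) fun _ => rfl

theorem t10 [Chain 𝒟 g b0] (i : ℕ) (h : i + 1 ≠ 𝒟.n) :
    @IsScalarTower (𝒟.B i) (𝒟.A (i + 1)) (A' 𝒟 g b0 (i + 1)) _ _
      (bAnew (g := g) (b0 := b0) i).toSMul :=
  @IsScalarTower.of_algebraMap_eq (𝒟.B i) (𝒟.A (i + 1)) (A' 𝒟 g b0 (i + 1)) _ _ _ _ _
    (bAnew (g := g) (b0 := b0) i)
    fun b => (@IsScalarTower.algebraMap_apply (𝒟.B i) (LB 𝒟 g b0 i) (A' 𝒟 g b0 (i + 1)) _ _ _ _ _ _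
      (tower_B_LB_A'succ 𝒟 g b0 i h) b).symm

theorem away_LB (i : ℕ) : IsLocalization.Away (bb 𝒟 g b0 i) (LB 𝒟 g b0 i) :=
  inferInstanceAs (IsLocalization.Away (bb 𝒟 g b0 i) (Localization.Away (bb 𝒟 g b0 i)))

theorem gM_isLocalizedModule (i : ℕ) (hne : i ≠ 𝒟.n) :
    IsLocalizedModule (Submonoid.powers (aa 𝒟 g b0 i)) (gM 𝒟 g b0 i) := by
  haveI := away_A' 𝒟 g b0 i hne
  exact (isLocalizedModule_iff_isBaseChange (Submonoid.powers (aa 𝒟 g b0 i)) (A' 𝒟 g b0 i)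
    (gM 𝒟 g b0 i)).mpr (gM_isBaseChange 𝒟 g b0 i)

theorem main (G : Good 𝒜 g x0 b0) :
      ∃ (_ : Algebra (Localization.Away g) (Localization.Away (hX g x0))) (_ : IsScalarTower R (Localization.Away g) (Localization.Away (hX g x0)))
        (_ : Module (Localization.Away g) (LocalizedModule (Submonoid.powers (hX g x0)) N)) (_ : IsScalarTower (Localization.Away g) (Localization.Away (hX g x0)) (LocalizedModule (Submonoid.powers (hX g x0)) N))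
        (_ : (Ideal.map (algebraMap R (Localization.Away g)) p).IsPrime) (_ : (Ideal.map (algebraMap S (Localization.Away (hX g x0))) q).IsPrime)
        (𝒟' : FlatCA.CompleteDevissage (Localization.Away g) (Localization.Away (hX g x0)) (LocalizedModule (Submonoid.powers (hX g x0)) N) (Ideal.map (algebraMap R (Localization.Away g)) p))
        (𝒜' : FlatCA.CompleteDevissageAt (Localization.Away g) (Localization.Away (hX g x0)) (LocalizedModule (Submonoid.powers (hX g x0)) N) (Ideal.map (algebraMap R (Localization.Away g)) p) (Ideal.map (algebraMap S (Localization.Away (hX g x0))) q) 𝒟')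
        (a : ∀ i : Fin 𝒟.n, 𝒟.A i) (b : ∀ i : Fin 𝒟.n, 𝒟.B i)
      (aA : ∀ i : Fin 𝒟.n, Algebra (𝒟.A i) (𝒟'.A i)) (rA : ∀ i : Fin 𝒟.n, Algebra R (𝒟'.A i))
      (_t1 : ∀ i : Fin 𝒟.n, IsScalarTower R (Localization.Away g) (𝒟'.A i)) (_t2 : ∀ i : Fin 𝒟.n, IsScalarTower R (𝒟.A i) (𝒟'.A i))
      (aB : ∀ i : Fin 𝒟.n, Algebra (𝒟.B i) (𝒟'.B i)) (rB : ∀ i : Fin 𝒟.n, Algebra R (𝒟'.B i))
      (_t3 : ∀ i : Fin 𝒟.n, IsScalarTower R (Localization.Away g) (𝒟'.B i)) (_t4 : ∀ i : Fin 𝒟.n, IsScalarTower R (𝒟.B i) (𝒟'.B i))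
      (bA : ∀ i : Fin 𝒟.n, Algebra (𝒟.B i) (𝒟'.A i)) (_t5 : ∀ i : Fin 𝒟.n, IsScalarTower (𝒟.B i) (𝒟.A i) (𝒟'.A i))
      (_t6 : ∀ i : Fin 𝒟.n, IsScalarTower (𝒟.B i) (𝒟'.B i) (𝒟'.A i))
      (bA' : ∀ i : Fin 𝒟.n, Algebra (𝒟.B i) (𝒟'.A (i + 1)))
      (_t7 : ∀ i : Fin 𝒟.n, IsScalarTower (𝒟.B i) (𝒟'.B i) (𝒟'.A (i + 1)))
      (sA : Algebra S (𝒟'.A 0)) (_t8 : IsScalarTower S (Localization.Away (hX g x0)) (𝒟'.A 0))
      (mA : ∀ i : Fin 𝒟.n, Module (𝒟.A i) (𝒟'.M i)) (_t9 : ∀ i : Fin 𝒟.n, IsScalarTower (𝒟.A i) (𝒟'.A i) (𝒟'.M i))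
      (gM : ∀ i : Fin 𝒟.n, 𝒟.M i →ₗ[𝒟.A i] 𝒟'.M i),
        (∀ i : Fin 𝒟.n, b i = b0 i * algebraMap R (𝒟.B i) g) ∧
        𝒟'.n = 𝒟.n ∧ 𝒟'.r = 𝒟.r ∧ 𝒜'.d = 𝒜.d ∧
        (letI := aA ⟨0, 𝒟.pos⟩; IsScalarTower S (𝒟.A 0) (𝒟'.A 0)) ∧
      (∀ x : N, 𝒟'.isoN (LocalizedModule.mkLinearMap (Submonoid.powers (hX g x0)) N x) = gM ⟨0, 𝒟.pos⟩ (𝒟.isoN x)) ∧
      (∀ (i : Fin 𝒟.n) (h : (i : ℕ) + 1 < 𝒟.n),
        letI := aA ⟨i + 1, h⟩; IsScalarTower (𝒟.B i) (𝒟.A (i + 1)) (𝒟'.A (i + 1))) ∧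
        ∀ i : Fin 𝒟.n,
          a i ∉ 𝒜.qA i ∧ b i ∉ 𝒜.qB i ∧
          IsLocalization.Away (a i) (𝒟'.A i) ∧ IsLocalization.Away (b i) (𝒟'.B i) ∧
          IsLocalizedModule (Submonoid.powers (a i)) (gM i) ∧
          (𝒜'.qA i).LiesOver (𝒜.qA i) ∧ (𝒜'.qB i).LiesOver (𝒜.qB i) ∧
          LinearMap.range (𝒟'.α i) =
            Submodule.span (𝒟'.B i) ((gM i) '' (LinearMap.range (𝒟.α i) : Set (𝒟.M i))) := by
  haveI := G.chain'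
  haveI := G.chainTop
  haveI hpg : (p.map (algebraMap R (Rg g))).IsPrime := ShrinkAlg.isPrime_map_away g p G.hg
  haveI hqX : (q.map (algebraMap S (SX g x0))).IsPrime :=
    ShrinkAlg.isPrime_map_away (hX g x0) q (hX_notMem G)
  letI mN : Module (Rg g) (NX g x0 N) := Module.compHom _ (algebraMap (Rg g) (SX g x0))
  have tN : IsScalarTower (Rg g) (SX g x0) (NX g x0 N) :=
    IsScalarTower.of_algebraMap_smul fun _ _ => rfl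
  have hlt : ∀ i : Fin 𝒟.n, (i : ℕ) ≠ 𝒟.n := fun i => Nat.ne_of_lt i.2
  refine ⟨instAlgRgSX g x0, instTowerRgSX g x0, mN, tN, hpg, hqX, sh G, shAt G,
    fun i => aa 𝒟 g b0 i, fun i => bb 𝒟 g b0 i,
    fun i => instAlgAA' 𝒟 g b0 i, fun i => instAlgRA' 𝒟 g b0 i,
    fun i => instTowerRRgA' 𝒟 g b0 i, fun i => tower_R_A_A' 𝒟 g b0 i (hlt i),
    fun i => (inferInstance : Algebra (𝒟.B i) (LB 𝒟 g b0 i)),
    fun i => (inferInstance : Algebra R (LB 𝒟 g b0 i)),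
    fun i => instTowerRgLB 𝒟 g b0 i,
    fun i => (inferInstance : IsScalarTower R (𝒟.B i) (LB 𝒟 g b0 i)),
    fun i => instAlgBA' 𝒟 g b0 i, fun i => instTowerBAA' 𝒟 g b0 i,
    fun i => tower_B_LB_A' 𝒟 g b0 i (hlt i),
    fun i => bAnew (g := g) (b0 := b0) i,
    fun i => t7 (g := g) (b0 := b0) i,
    instAlgSA' 𝒟 g b0, tower_S_SX_A' 𝒟 g x0 b0,
    fun i => (inferInstance : Module (𝒟.A i) (M' 𝒟 g b0 i)),
    fun i => (inferInstance : IsScalarTower (𝒟.A i) (A' 𝒟 g b0 i) (M' 𝒟 g b0 i)),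
    fun i => gM 𝒟 g b0 i, fun i => rfl, rfl, rfl, rfl, instTowerSAA' 𝒟 g b0,
    fun x => sh_isoN G x, fun i h => t10 (g := g) (b0 := b0) i (Nat.ne_of_lt h), fun i => ?_⟩
  have hne := hlt i
  exact ⟨aa_notMem G i, bb_notMem G i, away_A' 𝒟 g b0 i hne, away_LB (g := g) (b0 := b0) i,
    gM_isLocalizedModule i hne, liesOverA G i hne, liesOverB G i, range_α' i hne⟩

end Final

end Groth.Agent.H20.DevSh
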