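import Mathlib.Algebra.Homology.DerivedCategory.Ext.ExactSequences
import Mathlib.Algebra.Homology.DerivedCategory.TStructure
import Mathlib.Algebra.Homology.DerivedCategory.FullyFaithful
import Mathlib.CategoryTheory.Abelian.Refinements

set_option autoImplicit false
universe w' w v u

namespace Groth.Agent.H20

open CategoryTheory CategoryTheory.Limits CategoryTheory.Abelian DerivedCategory Pretriangulated

variable {C : Type u} [Category.{v} C] [Abelian C]

section

variable [HasDerivedCategory.{w} C]

/-- A short complex in `C` whose image under the single functor fits in a distinguished triangle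
is short exact. -/
theorem shortExact_of_distTriang {F X Q : C} (i : F ⟶ X) (p : X ⟶ Q) (w : i ≫ p = 0)
    (h : (singleFunctor C 0).obj Q ⟶ ((singleFunctor C 0).obj F)⟦(1 : ℤ)⟧)
    (hT : Triangle.mk ((singleFunctor C 0).map i) ((singleFunctor C 0).map p) h ∈
      distTriang (DerivedCategory C)) :
    (ShortComplex.mk i p w).ShortExact := by
  set T := Triangle.mk ((singleFunctor C 0).map i) ((singleFunctor C 0).map p) h with hTdef
  have hex := HomologySequence.exact₂ T hT 0
  have hmono : Mono ((homologyFunctor C 0).map T.mor₁) :=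
    (HomologySequence.mono_homologyMap_mor₁_iff T hT (-1) 0 (by lia)).2
      ((isZero_of_isGE ((singleFunctor C 0).obj Q) 0 (-1) (by lia)).eq_of_src _ _)
  have hepi : Epi ((homologyFunctor C 0).map T.mor₂) :=
    (HomologySequence.epi_homologyMap_mor₂_iff T hT 0 1 (by lia)).2
      ((isZero_of_isLE ((singleFunctor C 0).obj F) 0 1 (by lia)).eq_of_tgt _ _)
  have hse : (ShortComplex.mk ((homologyFunctor C 0).map T.mor₁)
      ((homologyFunctor C 0).map T.mor₂)
      (by simp only [← Functor.map_comp, comp_distTriang_mor_zero₁₂ _ hT,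
        Functor.map_zero])).ShortExact :=
    ShortComplex.ShortExact.mk' hex hmono hepi
  let α := singleFunctorCompHomologyFunctorIso C 0
  refine ShortComplex.shortExact_of_iso ?_ hse
  refine ShortComplex.isoMk (α.app F) (α.app X) (α.app Q) ?_ ?_
  · exact (α.hom.naturality i).symm
  · exact (α.hom.naturality p).symm

end

section

variable [HasExt.{w} C]

/-- Every class in `Ext^1` is the class of a short exact sequence. -/
theorem exists_shortExact_extClass_eq {Q F : C} (x : Ext.{w} Q F 1) :
    ∃ (X : C) (i : F ⟶ X) (p : X ⟶ Q) (w : i ≫ p = 0)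
      (hS : (ShortComplex.mk i p w).ShortExact), hS.extClass = x := by
  let _ := HasDerivedCategory.standard C
  obtain ⟨h, hh⟩ : ∃ h : (singleFunctor C 0).obj Q ⟶ ((singleFunctor C 0).obj F)⟦(1 : ℤ)⟧,
    h = x.hom := ⟨_, rfl⟩
  obtain ⟨Z, f, g, hT⟩ := distinguished_cocone_triangle₂ h
  have hZle : Z.IsLE 0 := by
    rw [isLE_iff]
    intro i hi
    exact (HomologySequence.exact₂ _ hT i).isZero_of_both_isZero
      (isZero_of_isLE ((singleFunctor C 0).obj F) 0 i hi)
      (isZero_of_isLE ((singleFunctor C 0).obj Q) 0 i hi)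
  have hZge : Z.IsGE 0 := by
    rw [isGE_iff]
    intro i hi
    exact (HomologySequence.exact₂ _ hT i).isZero_of_both_isZero
      (isZero_of_isGE ((singleFunctor C 0).obj F) 0 i hi)
      (isZero_of_isGE ((singleFunctor C 0).obj Q) 0 i hi)
  obtain ⟨X, ⟨e⟩⟩ := exists_iso_singleFunctor_obj_of_isGE_of_isLE Z 0
  obtain ⟨i, hi⟩ := (singleFunctor C 0).map_surjective (f ≫ e.hom)
  obtain ⟨p, hp⟩ := (singleFunctor C 0).map_surjective (e.inv ≫ g)
  have hT' : Triangle.mk ((singleFunctor C 0).map i) ((singleFunctor C 0).map p) h ∈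
      distTriang (DerivedCategory C) := by
    refine isomorphic_distinguished _ hT _ ?_
    refine Triangle.isoMk _ _ (Iso.refl _) e.symm (Iso.refl _) ?_ ?_ ?_
    · change (singleFunctor C 0).map i ≫ e.inv = 𝟙 ((singleFunctor C 0).obj F) ≫ f
      rw [hi, Category.assoc, e.hom_inv_id, Category.comp_id, Category.id_comp]
    · change (singleFunctor C 0).map p ≫ 𝟙 ((singleFunctor C 0).obj Q) = e.inv ≫ g
      rw [hp, Category.comp_id]
    · change h ≫ (𝟙 ((singleFunctor C 0).obj F))⟦(1 : ℤ)⟧' =
        𝟙 ((singleFunctor C 0).obj Q) ≫ h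
      rw [CategoryTheory.Functor.map_id, Category.comp_id, Category.id_comp]
  have w : i ≫ p = 0 := by
    apply (singleFunctor C 0).map_injective
    rw [CategoryTheory.Functor.map_comp, CategoryTheory.Functor.map_zero]
    exact comp_distTriang_mor_zero₁₂ _ hT'
  have hS : (ShortComplex.mk i p w).ShortExact := shortExact_of_distTriang i p w _ hT'
  refine ⟨X, i, p, w, hS, ?_⟩
  apply Ext.ext
  rw [ShortComplex.ShortExact.extClass_hom, ← hh]
  obtain ⟨γ, hγ1, hγ2⟩ := complete_distinguished_triangle_morphism _ _ hT'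
    hS.singleTriangle_distinguished (𝟙 ((singleFunctor C 0).obj F))
    (𝟙 ((singleFunctor C 0).obj X))
    (show (singleFunctor C 0).map i ≫ 𝟙 ((singleFunctor C 0).obj X) =
      𝟙 ((singleFunctor C 0).obj F) ≫ (singleFunctor C 0).map i by
      rw [Category.comp_id, Category.id_comp])
  have hγ1' : (singleFunctor C 0).map p ≫ γ =
      𝟙 ((singleFunctor C 0).obj X) ≫ (singleFunctor C 0).map p := hγ1
  have hγ2' : h ≫ (𝟙 ((singleFunctor C 0).obj F))⟦(1 : ℤ)⟧' = γ ≫ hS.singleδ := hγ2
  rw [Category.id_comp] at hγ1'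
  rw [CategoryTheory.Functor.map_id, Category.comp_id] at hγ2'
  obtain ⟨γ₀, rfl⟩ := (singleFunctor C 0).map_surjective γ
  have hγ₀ : γ₀ = 𝟙 Q := by
    have := hS.epi_g
    have h1 : p ≫ γ₀ = p := by
      apply (singleFunctor C 0).map_injective
      rw [CategoryTheory.Functor.map_comp]
      exact hγ1'
    rw [← cancel_epi p, h1, Category.comp_id]
  subst hγ₀
  rw [hγ2', CategoryTheory.Functor.map_id]
  exact (Category.id_comp _).symm

/-- A comparison of extension classes yields a morphism between the middle terms. -/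
theorem exists_map_of_extClass_comp_eq {F X Q R E : C}
    {i : F ⟶ X} {p : X ⟶ Q} {w : i ≫ p = 0} (hS : (ShortComplex.mk i p w).ShortExact)
    {c : R ⟶ E} {d : E ⟶ Q} {wE : c ≫ d = 0} (hE : (ShortComplex.mk c d wE).ShortExact)
    (b : F ⟶ R) (hb : hS.extClass.comp (Ext.mk₀ b) (add_zero 1) = hE.extClass) :
    ∃ p' : X ⟶ E, i ≫ p' = b ≫ c ∧ p' ≫ d = p := by
  let _ := HasDerivedCategory.standard C
  have hb' := congrArg Ext.hom hb
  simp only [Ext.comp_hom, Ext.mk₀_hom, ShiftedHom.comp_mk₀] at hb'
  rw [ShortComplex.ShortExact.extClass_hom, ShortComplex.ShortExact.extClass_hom] at hb'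
  obtain ⟨β, h1, h2⟩ := complete_distinguished_triangle_morphism₂ hS.singleTriangle
    hE.singleTriangle hS.singleTriangle_distinguished hE.singleTriangle_distinguished
    ((singleFunctor C 0).map b) (𝟙 ((singleFunctor C 0).obj Q))
    (show hS.singleδ ≫ ((singleFunctor C 0).map b)⟦(1 : ℤ)⟧' =
      𝟙 ((singleFunctor C 0).obj Q) ≫ hE.singleδ by rw [Category.id_comp]; exact hb')
  have h1' : (singleFunctor C 0).map i ≫ β =
      (singleFunctor C 0).map b ≫ (singleFunctor C 0).map c := h1
  have h2' : (singleFunctor C 0).map p ≫ 𝟙 ((singleFunctor C 0).obj Q) =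
      β ≫ (singleFunctor C 0).map d := h2
  rw [Category.comp_id] at h2'
  obtain ⟨p', rfl⟩ := (singleFunctor C 0).map_surjective β
  refine ⟨p', ?_, ?_⟩
  · apply (singleFunctor C 0).map_injective
    rw [CategoryTheory.Functor.map_comp, CategoryTheory.Functor.map_comp]
    exact h1'
  · apply (singleFunctor C 0).map_injective
    rw [CategoryTheory.Functor.map_comp]
    exact h2'.symm

end

end Groth.Agent.H20
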