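import Mathlib
import Groth.Agent.S6896
import Groth.Agent.S6890

/-!
# `H20.FittGens`: globalising "principal Fitting ideal ⇒ `k` generators modulo `δ`-torsion"

`exists_gens_mod_torsion`: if `Fitt_k(M) = (δ)` over an arbitrary ring `A` and `p` is a prime, there are
`f ∉ p` and `m₁, …, m_k ∈ M` such that for every `x : M` one has `δ • (f • x - ∑ aᵢ mᵢ) = 0` for suitable `aᵢ`.
(Localise at `p`, use `S6890` (base change of Fitting ideals) and `S6896` (local case), clear denominators.)
-/

set_option autoImplicit false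
universe u
open TensorProduct

namespace Groth.Agent.H20.FittGens

section Q
variable {A : Type u} [CommRing A] {M : Type u} [AddCommGroup M] [Module A M]

/-- the submodule of those `x` with `δ • (f • x - ∑ aᵢ mᵢ) = 0` for some coefficients `a`. -/
def Q (k : ℕ) (δ : A) (m : Fin k → M) (f : A) : Submodule A M where
  carrier := {x | ∃ a : Fin k → A, δ • (f • x - ∑ i, a i • m i) = 0}
  zero_mem' := ⟨0, by simp⟩
  add_mem' := by
    rintro x y ⟨a, ha⟩ ⟨b, hb⟩
    refine ⟨a + b, ?_⟩
    have : f • (x + y) - ∑ i, (a + b) i • m i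
        = (f • x - ∑ i, a i • m i) + (f • y - ∑ i, b i • m i) := by
      simp only [Pi.add_apply, add_smul, Finset.sum_add_distrib, smul_add]
      abel
    rw [this, smul_add, ha, hb, add_zero]
  smul_mem' := by
    rintro c x ⟨a, ha⟩
    refine ⟨c • a, ?_⟩
    have : f • (c • x) - ∑ i, (c • a) i • m i = c • (f • x - ∑ i, a i • m i) := by
      simp only [Pi.smul_apply, smul_eq_mul, mul_smul, smul_sub, Finset.smul_sum]
      rw [smul_comm f c x]
    rw [this, smul_comm, ha, smul_zero]

lemma mem_Q {k : ℕ} {δ : A} {m : Fin k → M} {f : A} {x : M} :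
    x ∈ Q k δ m f ↔ ∃ a : Fin k → A, δ • (f • x - ∑ i, a i • m i) = 0 := Iff.rfl

lemma Q_le_mul (k : ℕ) (δ : A) (m : Fin k → M) (f g : A) : Q k δ m f ≤ Q k δ m (g * f) := by
  rintro x ⟨a, ha⟩
  refine ⟨g • a, ?_⟩
  have : (g * f) • x - ∑ i, (g • a) i • m i = g • (f • x - ∑ i, a i • m i) := by
    simp only [Pi.smul_apply, smul_eq_mul, mul_smul, smul_sub, Finset.smul_sum]
  rw [this, smul_comm, ha, smul_zero]

end Q

theorem exists_gens_mod_torsion {A : Type u} [CommRing A] (M : Type u) [AddCommGroup M]
    [Module A M] [Module.Finite A M] (k : ℕ) (δ : A) (h : Fitt.ideal A M k = Ideal.span {δ})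
    (p : Ideal A) [p.IsPrime] :
    ∃ f : A, f ∉ p ∧ ∃ m : Fin k → M, ∀ x : M, ∃ a : Fin k → A,
      δ • (f • x - ∑ i, a i • m i) = 0 := by
  classical
  let R := Localization.AtPrime p
  let M' := R ⊗[A] M
  let φ : M →ₗ[A] M' := TensorProduct.mk A R M 1
  have : IsLocalizedModule p.primeCompl φ :=
    (isLocalizedModule_iff_isBaseChange p.primeCompl R φ).mpr (TensorProduct.isBaseChange A M R)
  set δ' : R := algebraMap A R δ with hδ'
  have hF : Fitt.ideal R M' k = Ideal.span {δ'} := by
    rw [Groth.Agent.S6890.result (R := A) (R' := R) M k, h, Ideal.map_span, Set.image_singleton]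
  obtain ⟨g, hg⟩ := Groth.Agent.S6896.result (R := R) M' k δ' hF
  -- lift g
  have hy : ∀ i, ∃ y : M', Submodule.Quotient.mk y = g i :=
    fun i => Submodule.Quotient.mk_surjective _ (g i)
  choose y hy using hy
  have hm : ∀ i, ∃ (mi : M) (s : p.primeCompl), s • y i = φ mi := fun i => by
    obtain ⟨⟨mi, s⟩, hs⟩ := IsLocalizedModule.surj p.primeCompl φ (y i)
    exact ⟨mi, s, hs⟩
  choose m s hs using hm
  -- `φ` is compatible with scalars
  have hφsmul : ∀ (a : A) (w : M), φ (a • w) = algebraMap A R a • φ w := by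
    intro a w
    rw [map_smul, algebraMap_smul]
  -- pointwise claim
  have key : ∀ x : M, ∃ f : A, f ∉ p ∧ x ∈ Q k δ m f := by
    intro x
    have hx : (Submodule.Quotient.mk (φ x) :
        M' ⧸ LinearMap.ker (δ' • (LinearMap.id : M' →ₗ[R] M'))) ∈
        Submodule.span R (Set.range g) := by
      rw [hg]; trivial
    obtain ⟨r, hr⟩ := (Submodule.mem_span_range_iff_exists_fun R).mp hx
    have h1 : δ' • (φ x - ∑ i, r i • y i) = 0 := by
      have h0 : (LinearMap.ker (δ' • (LinearMap.id : M' →ₗ[R] M'))).mkQ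
          (φ x - ∑ i, r i • y i) = 0 := by
        have e : ∀ i, (LinearMap.ker (δ' • (LinearMap.id : M' →ₗ[R] M'))).mkQ (r i • y i)
            = r i • g i := fun i => by rw [map_smul, Submodule.mkQ_apply, hy]
        rw [map_sub, map_sum, sub_eq_zero, Submodule.mkQ_apply, ← hr]
        exact (Finset.sum_congr rfl fun i _ => e i).symm
      rw [Submodule.mkQ_apply] at h0
      rw [Submodule.Quotient.mk_eq_zero] at h0
      simpa using h0
    let z : Fin k → R := fun i => r i * IsLocalization.mk' R (1 : A) (s i)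
    have hz : ∀ i, r i • y i = z i • φ (m i) := by
      intro i
      have hyi : y i = IsLocalization.mk' R (1 : A) (s i) • φ (m i) := by
        rw [← hs i, Submonoid.smul_def, ← algebraMap_smul R ((s i : A)) (y i), smul_smul,
          IsLocalization.mk'_spec, map_one, one_smul]
      simp only [z]
      rw [mul_smul, ← hyi]
    obtain ⟨b, hb⟩ := IsLocalization.exist_integer_multiples p.primeCompl Finset.univ z
    have hc : ∀ i, ∃ c : A, algebraMap A R c = (b : A) • z i := fun i => hb i (Finset.mem_univ i)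
    choose c hc using hc
    have h2 : φ (δ • ((b : A) • x - ∑ i, c i • m i)) = 0 := by
      have e1 : φ ((b : A) • x - ∑ i, c i • m i)
          = algebraMap A R (b : A) • (φ x - ∑ i, r i • y i) := by
        rw [map_sub, map_sum, hφsmul, smul_sub, Finset.smul_sum]
        congr 1
        refine Finset.sum_congr rfl fun i _ => ?_
        rw [hφsmul, hc i, hz i, Algebra.smul_def, mul_smul]
      rw [hφsmul, e1, smul_comm, h1, smul_zero]
    obtain ⟨v, hv⟩ := (IsLocalizedModule.eq_zero_iff p.primeCompl φ).mp h2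
    refine ⟨(v : A) * (b : A), ?_, fun i => (v : A) * c i, ?_⟩
    · exact (v * b).2
    · have e2 : ((v : A) * (b : A)) • x - ∑ i, ((v : A) * c i) • m i
          = (v : A) • ((b : A) • x - ∑ i, c i • m i) := by
        simp only [mul_smul, smul_sub, Finset.smul_sum]
      rw [e2, smul_comm]
      rw [Submonoid.smul_def] at hv
      exact hv
  -- finite generation
  obtain ⟨S, hS⟩ := (Module.Finite.fg_top : (⊤ : Submodule A M).FG)
  have fin : ∀ T : Finset M, ∃ f : A, f ∉ p ∧ ∀ x ∈ T, x ∈ Q k δ m f := by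
    intro T
    induction T using Finset.induction_on with
    | empty =>
      exact ⟨1, (Ideal.ne_top_iff_one p).mp (Ideal.IsPrime.ne_top ‹_›), by simp⟩
    | insert x T hx ih =>
      obtain ⟨f, hf, hfT⟩ := ih
      obtain ⟨g', hg', hxg⟩ := key x
      refine ⟨g' * f, ?_, ?_⟩
      · exact fun hmem => (Ideal.IsPrime.mem_or_mem ‹_› hmem).elim hg' hf
      · intro w hw
        rcases Finset.mem_insert.mp hw with rfl | hw
        · have := Q_le_mul k δ m g' f hxg
          rwa [mul_comm] at this
        · exact Q_le_mul k δ m f g' (hfT w hw)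
  obtain ⟨f, hf, hfS⟩ := fin S
  refine ⟨f, hf, m, fun x => ?_⟩
  have hle : (⊤ : Submodule A M) ≤ Q k δ m f := by
    rw [← hS, Submodule.span_le]
    exact fun w hw => hfS w hw
  exact hle trivial

end Groth.Agent.H20.FittGens
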