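import Mathlib
import Groth.Agent.H20.GRingLocal

/-!
# Consequences of "complete local rings are G-rings" for localizations of complete local rings (helper20)

`formallySmoothAdic_of_complete` (shape of S4582) and `adicFormallySmooth_generic_of_complete` (shape of S4583),
both under the hypothesis `hCL : CompleteLocalGRing`.
-/

set_option autoImplicit false
set_option linter.style.haveILetI false
set_option linter.unusedSectionVars false
set_option linter.unusedVariables false

universe u
open IsLocalRing TensorProduct

namespace Groth.Agent.H20.GRingLocal

theorem formallySmoothAdic_of_complete (hCL : CompleteLocalGRing.{u}) {A : Type u} [CommRing A]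
    [IsLocalRing A] [IsNoetherianRing A] [IsAdicComplete (maximalIdeal A) A] (p : Ideal A) [p.IsPrime]
    (q : Ideal (AdicCompletion (maximalIdeal (Localization.AtPrime p)) (Localization.AtPrime p))) [q.IsPrime]
    [Algebra (Localization.AtPrime (q.comap (algebraMap (Localization.AtPrime p)
        (AdicCompletion (maximalIdeal (Localization.AtPrime p)) (Localization.AtPrime p)))))
      (Localization.AtPrime q)]
    [IsScalarTower (Localization.AtPrime p)
      (Localization.AtPrime (q.comap (algebraMap (Localization.AtPrime p)
        (AdicCompletion (maximalIdeal (Localization.AtPrime p)) (Localization.AtPrime p)))))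
      (Localization.AtPrime q)] :
    EGA41.IsFormallySmoothAdic
      (Localization.AtPrime (q.comap (algebraMap (Localization.AtPrime p)
        (AdicCompletion (maximalIdeal (Localization.AtPrime p)) (Localization.AtPrime p)))))
      (maximalIdeal _) (Localization.AtPrime q) (maximalIdeal _) := by
  have hG := hCL A
  haveI noethB : IsNoetherianRing (Localization.AtPrime p) :=
    IsLocalization.isNoetherianRing p.primeCompl _ inferInstance
  haveI noethBh : IsNoetherianRing (EGA4.Cpl (Localization.AtPrime p)) :=
    Groth.Agent.Lead.isNoetherianRing_adicCompletion _
      (maximalIdeal (Localization.AtPrime p)).fg_of_isNoetherianRing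
  have hfs := adicFormallySmooth_atPrime (Localization.AtPrime p)
    (EGA4.Cpl (Localization.AtPrime p)) q
    (q.comap (algebraMap (Localization.AtPrime p) (EGA4.Cpl (Localization.AtPrime p)))) rfl
    (Localization.AtPrime (q.comap (algebraMap (Localization.AtPrime p)
      (EGA4.Cpl (Localization.AtPrime p))))) (hG.2 p)
  exact Groth.Agent.S4554.fsAdic_of_sq_zero _ _ (fun C _ _ J hJ _ u hu => hfs C J hJ u hu)

set_option maxHeartbeats 2000000 in
theorem adicFormallySmooth_generic_of_complete (hCL : CompleteLocalGRing.{u}) {A : Type u}
    [CommRing A] [IsDomain A] [IsLocalRing A] [IsNoetherianRing A]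
    [IsAdicComplete (maximalIdeal A) A] (p : Ideal A) [p.IsPrime]
    (q : Ideal (AdicCompletion (maximalIdeal (Localization.AtPrime p)) (Localization.AtPrime p))) [q.IsPrime]
    (hq : q.comap (algebraMap (Localization.AtPrime p)
      (AdicCompletion (maximalIdeal (Localization.AtPrime p)) (Localization.AtPrime p))) = ⊥)
    [Algebra (FractionRing A) (Localization.AtPrime q)] [IsScalarTower A (FractionRing A) (Localization.AtPrime q)] :
    CAlgX.IsAdicFormallySmooth (FractionRing A) (Localization.AtPrime q) (maximalIdeal (Localization.AtPrime q)) := by
  have hG := hCL A
  haveI noethB : IsNoetherianRing (Localization.AtPrime p) :=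
    IsLocalization.isNoetherianRing p.primeCompl _ inferInstance
  haveI noethBh : IsNoetherianRing (EGA4.Cpl (Localization.AtPrime p)) :=
    Groth.Agent.Lead.isNoetherianRing_adicCompletion _
      (maximalIdeal (Localization.AtPrime p)).fg_of_isNoetherianRing
  have hle : p.primeCompl ≤ nonZeroDivisors A := by
    intro x hx
    refine mem_nonZeroDivisors_of_ne_zero ?_
    rintro rfl
    exact hx p.zero_mem
  haveI domB : IsDomain (Localization.AtPrime p) := IsLocalization.isDomain_localization hle
  letI algBK : Algebra (Localization.AtPrime p) (FractionRing A) :=
    IsLocalization.localizationAlgebraOfSubmonoidLe (Localization.AtPrime p) (FractionRing A)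
      p.primeCompl (nonZeroDivisors A) hle
  haveI towABK : IsScalarTower A (Localization.AtPrime p) (FractionRing A) :=
    IsLocalization.localization_isScalarTower_of_submonoid_le (Localization.AtPrime p)
      (FractionRing A) p.primeCompl (nonZeroDivisors A) hle
  haveI fracBK : IsFractionRing (Localization.AtPrime p) (FractionRing A) :=
    IsFractionRing.isFractionRing_of_isDomain_of_isLocalization p.primeCompl
      (Localization.AtPrime p) (FractionRing A)
  haveI locK : IsLocalization.AtPrime (FractionRing A) (⊥ : Ideal (Localization.AtPrime p)) := by
    show IsLocalization (⊥ : Ideal (Localization.AtPrime p)).primeCompl (FractionRing A)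
    rw [Ideal.primeCompl_bot]
    exact fracBK
  haveI towBKL : IsScalarTower (Localization.AtPrime p) (FractionRing A) (Localization.AtPrime q) :=
    IsScalarTower.of_algebraMap_eq' (by
      apply IsLocalization.ringHom_ext p.primeCompl
      ext a
      simp only [RingHom.comp_apply]
      rw [← IsScalarTower.algebraMap_apply A (Localization.AtPrime p) (FractionRing A),
        ← IsScalarTower.algebraMap_apply A (FractionRing A) (Localization.AtPrime q),
        IsScalarTower.algebraMap_apply (Localization.AtPrime p)
          (EGA4.Cpl (Localization.AtPrime p)) (Localization.AtPrime q),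
        ← IsScalarTower.algebraMap_apply A (Localization.AtPrime p)
          (EGA4.Cpl (Localization.AtPrime p)),
        ← IsScalarTower.algebraMap_apply A (EGA4.Cpl (Localization.AtPrime p))
          (Localization.AtPrime q)])
  exact adicFormallySmooth_atPrime (Localization.AtPrime p) (EGA4.Cpl (Localization.AtPrime p)) q
    ⊥ hq (FractionRing A) (hG.2 p)

end Groth.Agent.H20.GRingLocal
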