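import Mathlib
import Groth.Prelude.Def_CAlg2
import Groth.Prelude.Def_EGA4b
import Groth.Prelude.Def_Found
import Groth.Agent.H47.GNAtDefs

/-!
# (CF) for S4884: the closed fibre of `S_{p₀} → (C₀)_{q₀}` is geometrically normal when the fibre of
`S → C₀` is geometrically normal at `q₀` (`GNAt S q₀`).  (helper20 for helper47)
-/

set_option autoImplicit false
set_option maxHeartbeats 1600000
set_option linter.style.haveILetI false
universe u
open TensorProduct IsLocalRing
open Groth.Agent.H47.GNAtDefs

namespace Groth.Agent.H20.GU10_CF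

/-- Transport of "integrally closed domain" along an equality of primes. -/
theorem normal_at_congr {R : Type u} [CommRing R] (I J : Ideal R) [I.IsPrime] [J.IsPrime]
    (hIJ : I = J)
    (h : IsDomain (Localization.AtPrime I) ∧ IsIntegrallyClosed (Localization.AtPrime I)) :
    IsDomain (Localization.AtPrime J) ∧ IsIntegrallyClosed (Localization.AtPrime J) := by
  subst hIJ
  exact h

/-- Localizing a local normal domain `R_{P₁}` further at a prime `Q`. -/
theorem normal_at_comap {R : Type u} [CommRing R] (P₁ : Ideal R) [P₁.IsPrime]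
    (Q : Ideal (Localization.AtPrime P₁)) [Q.IsPrime]
    (hd : IsDomain (Localization.AtPrime P₁))
    (hic : IsIntegrallyClosed (Localization.AtPrime P₁)) :
    IsDomain (Localization.AtPrime (Q.comap (algebraMap R (Localization.AtPrime P₁)))) ∧
      IsIntegrallyClosed
        (Localization.AtPrime (Q.comap (algebraMap R (Localization.AtPrime P₁)))) := by
  haveI hat : IsLocalization.AtPrime (Localization.AtPrime Q)
      (Q.comap (algebraMap R (Localization.AtPrime P₁))) :=
    IsLocalization.isLocalization_isLocalization_atPrime_isLocalization P₁.primeCompl _ Q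
  let E : Localization.AtPrime (Q.comap (algebraMap R (Localization.AtPrime P₁))) ≃ₐ[R]
      Localization.AtPrime Q :=
    IsLocalization.algEquiv (Q.comap (algebraMap R (Localization.AtPrime P₁))).primeCompl _ _
  haveI := hd
  haveI := hic
  haveI hd' : IsDomain (Localization.AtPrime Q) := inferInstance
  haveI hic' : IsIntegrallyClosed (Localization.AtPrime Q) :=
    isIntegrallyClosed_of_isLocalization (Localization.AtPrime Q) Q.primeCompl
      Q.primeCompl_le_nonZeroDivisors
  exact ⟨E.toRingEquiv.toMulEquiv.isDomain (Localization.AtPrime Q),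
    IsIntegrallyClosed.of_equiv E.symm.toRingEquiv⟩

/-- If `R_{P₁}` is an integrally closed domain and `P ≤ P₁` then so is `R_P`. -/
theorem normal_at_of_le {R : Type u} [CommRing R] (P P₁ : Ideal R) [P.IsPrime] [P₁.IsPrime]
    (hle : P ≤ P₁) (hd : IsDomain (Localization.AtPrime P₁))
    (hic : IsIntegrallyClosed (Localization.AtPrime P₁)) :
    IsDomain (Localization.AtPrime P) ∧ IsIntegrallyClosed (Localization.AtPrime P) := by
  have hdisj : Disjoint (P₁.primeCompl : Set R) (P : Set R) := by
    rw [Set.disjoint_left]
    intro x hx hxP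
    exact hx (hle hxP)
  haveI hP' : (P.map (algebraMap R (Localization.AtPrime P₁))).IsPrime :=
    IsLocalization.isPrime_of_isPrime_disjoint P₁.primeCompl (Localization.AtPrime P₁) P
      inferInstance hdisj
  have hcomap : (P.map (algebraMap R (Localization.AtPrime P₁))).comap
      (algebraMap R (Localization.AtPrime P₁)) = P :=
    IsLocalization.under_map_of_isPrime_disjoint P₁.primeCompl (Localization.AtPrime P₁)
      inferInstance hdisj
  exact normal_at_congr _ _ hcomap
    (normal_at_comap P₁ (P.map (algebraMap R (Localization.AtPrime P₁))) hd hic)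

/-- Transport along a ring isomorphism. -/
theorem isNormalRing_of_ringEquiv {R R' : Type u} [CommRing R] [CommRing R'] (e : R ≃+* R')
    (h : EGA4.IsNormalRing R) : EGA4.IsNormalRing R' := by
  intro p hp
  obtain ⟨hd, hic⟩ := h (p.comap e)
  let E : Localization.AtPrime (p.comap e) ≃+* Localization.AtPrime p :=
    IsLocalization.ringEquivOfRingEquiv
      (Localization.AtPrime (p.comap e)) (Localization.AtPrime p) e (e.map_primeCompl_comap_eq p)
  exact ⟨E.symm.toMulEquiv.isDomain _, IsIntegrallyClosed.of_equiv E⟩

section Core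

attribute [local instance] Algebra.TensorProduct.rightAlgebra

/-- The core: `A' ⊗[S] k'` is a normal ring. -/
theorem core {S C₀ : Type u} [CommRing S] [CommRing C₀] [Algebra S C₀] (q₀ : Ideal C₀)
    [q₀.IsPrime] (h : GNAt S q₀)
    (A A' : Type u) [CommRing A] [CommRing A'] [Algebra S A]
    [IsLocalization.AtPrime A (q₀.comap (algebraMap S C₀))]
    [Algebra C₀ A'] [IsLocalization.AtPrime A' q₀] [Algebra A A'] [Algebra S A']
    [IsScalarTower S A A'] [IsScalarTower S C₀ A']
    (k' : Type u) [Field k'] [Algebra S k'] [Algebra A k'] [IsScalarTower S A k']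
    [Algebra.IsIntegral A k']
    [Algebra (q₀.comap (algebraMap S C₀)).ResidueField k']
    [IsScalarTower S (q₀.comap (algebraMap S C₀)).ResidueField k']
    (hfin : Module.Finite (q₀.comap (algebraMap S C₀)).ResidueField k') :
    EGA4.IsNormalRing (A' ⊗[S] k') := by
  haveI hlocA' : IsLocalRing A' := IsLocalization.AtPrime.isLocalRing A' q₀
  -- integrality of `A' ⊗[S] k'` over `A'`
  haveI hcompat : TensorProduct.CompatibleSMul S A A' k' :=
    IsLocalization.tensorProduct_compatibleSMul (q₀.comap (algebraMap S C₀)).primeCompl A A' k'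
  haveI hint : Algebra.IsIntegral A' (A' ⊗[S] k') := by
    refine ⟨fun z => ?_⟩
    induction z using TensorProduct.induction_on with
    | zero => exact isIntegral_zero
    | add x y hx hy => exact hx.add hy
    | tmul a x =>
      have hx : IsIntegral A x := Algebra.IsIntegral.isIntegral x
      have h1 : IsIntegral A' ((1 : A') ⊗ₜ[S] x) := by
        have := hx.map_of_comp_eq (algebraMap A A')
          (Algebra.TensorProduct.includeRight (R := S) (A := A') (B := k')).toRingHom (by
            ext a
            simp only [RingHom.comp_apply, Algebra.TensorProduct.algebraMap_apply,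
              Algebra.algebraMap_self, RingHom.id_apply, AlgHom.toRingHom_eq_coe,
              RingHom.coe_coe, Algebra.TensorProduct.includeRight_apply]
            rw [Algebra.algebraMap_eq_smul_one, Algebra.algebraMap_eq_smul_one,
              TensorProduct.smul_tmul])
        simpa using this
      have h2 : IsIntegral A' (a ⊗ₜ[S] (1 : k')) := by
        have : a ⊗ₜ[S] (1 : k') = algebraMap A' (A' ⊗[S] k') a := by
          simp [Algebra.TensorProduct.algebraMap_apply]
        rw [this]
        exact isIntegral_algebraMap
      have h3 : a ⊗ₜ[S] x = (a ⊗ₜ[S] (1 : k')) * ((1 : A') ⊗ₜ[S] x) := by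
        simp [Algebra.TensorProduct.tmul_mul_tmul]
      rw [h3]
      exact h2.mul h1
  -- `A' ⊗[S] k'` is a localization of `C₀ ⊗[S] k'`
  letI algE : Algebra (C₀ ⊗[S] k') (A' ⊗[S] k') :=
    (Algebra.TensorProduct.map (IsScalarTower.toAlgHom S C₀ A') (AlgHom.id S k')).toRingHom.toAlgebra
  have halgE : ∀ (c : C₀) (x : k'), algebraMap (C₀ ⊗[S] k') (A' ⊗[S] k') (c ⊗ₜ[S] x) =
      algebraMap C₀ A' c ⊗ₜ[S] x := by
    intro c x
    simp [RingHom.algebraMap_toAlgebra]
  haveI towE : IsScalarTower C₀ (C₀ ⊗[S] k') (A' ⊗[S] k') :=
    IsScalarTower.of_algebraMap_eq (fun c => by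
      rw [Algebra.TensorProduct.algebraMap_apply, Algebra.TensorProduct.algebraMap_apply,
        Algebra.algebraMap_self, RingHom.id_apply, halgE])
  haveI hloc : IsLocalization (Algebra.algebraMapSubmonoid (C₀ ⊗[S] k') q₀.primeCompl)
      (A' ⊗[S] k') :=
    IsLocalization.tensorProduct_tensorProduct S k' q₀.primeCompl A' (by
      ext x
      simp only [RingHom.comp_apply, AlgHom.toRingHom_eq_coe, RingHom.coe_coe,
        Algebra.TensorProduct.includeRight_apply]
      rw [halgE, map_one])
  -- now the primes
  intro P hP
  obtain ⟨P₁, hP₁max, hPP₁⟩ := Ideal.exists_le_maximal P hP.ne_top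
  haveI := hP₁max
  haveI hP₁prime : P₁.IsPrime := hP₁max.isPrime
  have hP₁A' : P₁.comap (algebraMap A' (A' ⊗[S] k')) = maximalIdeal A' :=
    IsLocalRing.eq_maximalIdeal (Ideal.isMaximal_comap_of_isIntegral_of_isMaximal P₁)
  have hn₁ : (P₁.comap (algebraMap (C₀ ⊗[S] k') (A' ⊗[S] k'))).comap
      (algebraMap C₀ (C₀ ⊗[S] k')) = q₀ := by
    have e1 : (P₁.comap (algebraMap (C₀ ⊗[S] k') (A' ⊗[S] k'))).comap
        (algebraMap C₀ (C₀ ⊗[S] k')) =
        (P₁.comap (algebraMap A' (A' ⊗[S] k'))).comap (algebraMap C₀ A') := by
      ext c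
      simp only [Ideal.mem_comap]
      rw [Algebra.TensorProduct.algebraMap_apply, Algebra.TensorProduct.algebraMap_apply,
        Algebra.algebraMap_self, RingHom.id_apply, Algebra.algebraMap_self, RingHom.id_apply,
        halgE]
    rw [e1, hP₁A']
    exact IsLocalization.AtPrime.under_maximalIdeal A' q₀
  obtain ⟨hd, hic⟩ := h k' hfin (C₀ ⊗[S] k')
    (P₁.comap (algebraMap (C₀ ⊗[S] k') (A' ⊗[S] k'))) hn₁
  haveI hat : IsLocalization.AtPrime (Localization.AtPrime P₁)
      (P₁.comap (algebraMap (C₀ ⊗[S] k') (A' ⊗[S] k'))) :=
    IsLocalization.isLocalization_isLocalization_atPrime_isLocalization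
      (Algebra.algebraMapSubmonoid (C₀ ⊗[S] k') q₀.primeCompl) (Localization.AtPrime P₁) P₁
  let E : Localization.AtPrime (P₁.comap (algebraMap (C₀ ⊗[S] k') (A' ⊗[S] k'))) ≃ₐ[C₀ ⊗[S] k']
      Localization.AtPrime P₁ :=
    IsLocalization.algEquiv
      (P₁.comap (algebraMap (C₀ ⊗[S] k') (A' ⊗[S] k'))).primeCompl _ _
  have hd₁ : IsDomain (Localization.AtPrime P₁) := E.toRingEquiv.symm.toMulEquiv.isDomain _
  have hic₁ : IsIntegrallyClosed (Localization.AtPrime P₁) :=
    IsIntegrallyClosed.of_equiv E.toRingEquiv
  exact normal_at_of_le P P₁ hPP₁ hd₁ hic₁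

end Core

/-- (CF) the closed fibre of `S_{p₀} → (C₀)_{q₀}` is geometrically normal. -/
theorem isGeomNormal_closedFibre_of_gnAt {S C₀ : Type u} [CommRing S] [CommRing C₀] [Algebra S C₀]
    (q₀ : Ideal C₀) [q₀.IsPrime] (h : GNAt S q₀) :
    letI : Algebra (Localization.AtPrime (q₀.comap (algebraMap S C₀))) (Localization.AtPrime q₀) :=
      (Localization.localRingHom (q₀.comap (algebraMap S C₀)) q₀ (algebraMap S C₀) rfl).toAlgebra
    EGA4.IsGeomNormal
      (maximalIdeal (Localization.AtPrime (q₀.comap (algebraMap S C₀)))).ResidueField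
      ((maximalIdeal (Localization.AtPrime (q₀.comap (algebraMap S C₀)))).Fiber
        (Localization.AtPrime q₀)) := by
  intro k' _ _ hfin
  letI algAA' : Algebra (Localization.AtPrime (q₀.comap (algebraMap S C₀)))
      (Localization.AtPrime q₀) :=
    (Localization.localRingHom (q₀.comap (algebraMap S C₀)) q₀ (algebraMap S C₀) rfl).toAlgebra
  haveI tow1 : IsScalarTower S (Localization.AtPrime (q₀.comap (algebraMap S C₀)))
      (Localization.AtPrime q₀) :=
    IsScalarTower.of_algebraMap_eq (fun s => by
      show algebraMap S (Localization.AtPrime q₀) s =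
        Localization.localRingHom (q₀.comap (algebraMap S C₀)) q₀ (algebraMap S C₀) rfl
          (algebraMap S (Localization.AtPrime (q₀.comap (algebraMap S C₀))) s)
      rw [Localization.localRingHom_to_map]
      exact IsScalarTower.algebraMap_apply S C₀ (Localization.AtPrime q₀) s)
  letI algAk : Algebra (Localization.AtPrime (q₀.comap (algebraMap S C₀))) k' :=
    ((algebraMap (maximalIdeal (Localization.AtPrime (q₀.comap (algebraMap S C₀)))).ResidueField
      k').comp (algebraMap (Localization.AtPrime (q₀.comap (algebraMap S C₀)))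
        (maximalIdeal (Localization.AtPrime (q₀.comap (algebraMap S C₀)))).ResidueField)).toAlgebra
  haveI towk : IsScalarTower (Localization.AtPrime (q₀.comap (algebraMap S C₀)))
      (maximalIdeal (Localization.AtPrime (q₀.comap (algebraMap S C₀)))).ResidueField k' :=
    IsScalarTower.of_algebraMap_eq (fun _ => rfl)
  letI algSk : Algebra S k' :=
    ((algebraMap (Localization.AtPrime (q₀.comap (algebraMap S C₀))) k').comp
      (algebraMap S (Localization.AtPrime (q₀.comap (algebraMap S C₀))))).toAlgebra
  haveI towSk : IsScalarTower S (Localization.AtPrime (q₀.comap (algebraMap S C₀))) k' :=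
    IsScalarTower.of_algebraMap_eq (fun _ => rfl)
  -- the residue field of `p₀` is `A ⧸ m`
  letI algRk : Algebra (q₀.comap (algebraMap S C₀)).ResidueField k' :=
    ((algebraMap (maximalIdeal (Localization.AtPrime (q₀.comap (algebraMap S C₀)))).ResidueField
      k').comp (algebraMap ((Localization.AtPrime (q₀.comap (algebraMap S C₀))) ⧸
        maximalIdeal (Localization.AtPrime (q₀.comap (algebraMap S C₀))))
        (maximalIdeal (Localization.AtPrime (q₀.comap (algebraMap S C₀)))).ResidueField)).toAlgebra
  haveI towSRk : IsScalarTower S (q₀.comap (algebraMap S C₀)).ResidueField k' :=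
    IsScalarTower.of_algebraMap_eq (fun s => by
      show algebraMap (maximalIdeal (Localization.AtPrime (q₀.comap (algebraMap S C₀)))).ResidueField
          k' (algebraMap (Localization.AtPrime (q₀.comap (algebraMap S C₀)))
            (maximalIdeal (Localization.AtPrime (q₀.comap (algebraMap S C₀)))).ResidueField
            (algebraMap S (Localization.AtPrime (q₀.comap (algebraMap S C₀))) s)) =
        algebraMap (maximalIdeal (Localization.AtPrime (q₀.comap (algebraMap S C₀)))).ResidueField
          k' (algebraMap ((Localization.AtPrime (q₀.comap (algebraMap S C₀))) ⧸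
            maximalIdeal (Localization.AtPrime (q₀.comap (algebraMap S C₀))))
            (maximalIdeal (Localization.AtPrime (q₀.comap (algebraMap S C₀)))).ResidueField
            (Ideal.Quotient.mk _
              (algebraMap S (Localization.AtPrime (q₀.comap (algebraMap S C₀))) s)))
      congr 1)
  -- finiteness over the residue field of `p₀`
  letI algQκ : Algebra (q₀.comap (algebraMap S C₀)).ResidueField
      (maximalIdeal (Localization.AtPrime (q₀.comap (algebraMap S C₀)))).ResidueField :=
    (algebraMap ((Localization.AtPrime (q₀.comap (algebraMap S C₀))) ⧸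
        maximalIdeal (Localization.AtPrime (q₀.comap (algebraMap S C₀))))
        (maximalIdeal (Localization.AtPrime (q₀.comap (algebraMap S C₀)))).ResidueField).toAlgebra
  haveI towQκk : IsScalarTower (q₀.comap (algebraMap S C₀)).ResidueField
      (maximalIdeal (Localization.AtPrime (q₀.comap (algebraMap S C₀)))).ResidueField k' :=
    IsScalarTower.of_algebraMap_eq (fun _ => rfl)
  haveI hfinQκ : Module.Finite (q₀.comap (algebraMap S C₀)).ResidueField
      (maximalIdeal (Localization.AtPrime (q₀.comap (algebraMap S C₀)))).ResidueField :=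
    Module.Finite.of_surjective
      (Algebra.linearMap (q₀.comap (algebraMap S C₀)).ResidueField
        (maximalIdeal (Localization.AtPrime (q₀.comap (algebraMap S C₀)))).ResidueField)
      (Ideal.bijective_algebraMap_quotient_residueField
        (maximalIdeal (Localization.AtPrime (q₀.comap (algebraMap S C₀))))).2
  haveI := hfin
  have hfin' : Module.Finite (q₀.comap (algebraMap S C₀)).ResidueField k' :=
    Module.Finite.trans
      (maximalIdeal (Localization.AtPrime (q₀.comap (algebraMap S C₀)))).ResidueField k'
  -- integrality over `A`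
  haveI hfinA : Module.Finite (Localization.AtPrime (q₀.comap (algebraMap S C₀))) k' :=
    Module.Finite.trans
      (maximalIdeal (Localization.AtPrime (q₀.comap (algebraMap S C₀)))).ResidueField k'
  haveI hintA : Algebra.IsIntegral (Localization.AtPrime (q₀.comap (algebraMap S C₀))) k' :=
    Algebra.IsIntegral.of_finite _ _
  have N := core q₀ h (Localization.AtPrime (q₀.comap (algebraMap S C₀)))
    (Localization.AtPrime q₀) k' hfin'
  let e1 := Algebra.TensorProduct.cancelBaseChange
    (Localization.AtPrime (q₀.comap (algebraMap S C₀)))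
    (maximalIdeal (Localization.AtPrime (q₀.comap (algebraMap S C₀)))).ResidueField
    (maximalIdeal (Localization.AtPrime (q₀.comap (algebraMap S C₀)))).ResidueField k'
    (Localization.AtPrime q₀)
  let e2 := Algebra.TensorProduct.comm (Localization.AtPrime (q₀.comap (algebraMap S C₀))) k'
    (Localization.AtPrime q₀)
  let e3 := IsLocalization.algebraTensorEquiv (q₀.comap (algebraMap S C₀)).primeCompl
    (Localization.AtPrime (q₀.comap (algebraMap S C₀))) (Localization.AtPrime q₀) k'
  exact isNormalRing_of_ringEquiv
    (e1.toRingEquiv.trans (e2.toRingEquiv.trans e3.toRingEquiv)).symm N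

end Groth.Agent.H20.GU10_CF
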