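import Mathlib
import Groth.Agent.H41.Natural2
import Groth.Agent.H20.S1Fibres
import Groth.Agent.H54.AffineDim

/-!
# Integral closure of a graded domain (helper20)

Let `G` be an `ℕ`-graded domain with fraction field `L`.  Using the diagonal ring map
`δ : G → G[X]`, `g ↦ Σ gₙ Xⁿ` (from `H41.Natural`), extended to `Ψ : L → Frac (L[X])`, we show that
every element of `L` integral over `G` is a finite sum of *homogeneous* integral elements
(`c` with `Ψ c = c Xʲ`) — `mem_closure_of_isIntegral`.  For such `c` the conductor ideal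
`(G : c) = {g | g c ∈ G}` is homogeneous, so if `G/(G : c)` is Artinian it contains a power of the
irrelevant ideal (`exists_pow_le_condIdeal`).

We also prove (`isIntegral_of_pow_mul`): for a domain `G` of finite type over a field, of dimension
`≥ 2`, with finite normalization, and a maximal ideal `I`, an element `x` of the fraction field with
`Iⁿ x` integral over `G` is itself integral over `G`.
-/

set_option autoImplicit false
set_option linter.unusedSectionVars false
set_option linter.unusedVariables false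
set_option linter.style.haveILetI false

universe u
open Polynomial DirectSum

namespace Groth.Agent.H20.GradedIC

attribute [local instance] Polynomial.algebra

section Delta

variable {k G : Type u} [CommRing k] [CommRing G] [Algebra k G]
  (𝒢 : ℕ → Submodule k G) [GradedAlgebra 𝒢]

/-- the diagonal map `g ↦ Σ gₙ Xⁿ`. -/
noncomputable abbrev δ : G →+* G[X] := Groth.Agent.H41.Natural.delta 𝒢

theorem coeff_delta (a : G) (n : ℕ) : (δ 𝒢 a).coeff n = (decompose 𝒢 a n : G) := by
  classical
  refine DirectSum.Decomposition.inductionOn 𝒢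
    (motive := fun a => (δ 𝒢 a).coeff n = (decompose 𝒢 a n : G)) ?_ ?_ ?_ a
  · simp
  · intro i m
    rw [Groth.Agent.H41.Natural.delta_of_mem 𝒢 m.2, coeff_monomial]
    by_cases h : i = n
    · subst h; rw [if_pos rfl, decompose_of_mem_same 𝒢 m.2]
    · rw [if_neg h, decompose_of_mem_ne 𝒢 m.2 h]
  · intro a b ha hb
    rw [map_add, coeff_add, ha, hb, decompose_add, DirectSum.add_apply, Submodule.coe_add]

theorem delta_injective : Function.Injective (δ 𝒢) := by
  classical
  rw [injective_iff_map_eq_zero]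
  intro a ha
  rw [← DirectSum.sum_support_decompose 𝒢 a]
  refine Finset.sum_eq_zero fun i _ => ?_
  rw [← coeff_delta, ha, coeff_zero]

variable (L : Type u) [Field L] [Algebra G L] [IsFractionRing G L] [IsDomain G]

/-- `δ` followed by `G[X] → L[X]`. -/
noncomputable def δL : G →+* L[X] := (Polynomial.mapRingHom (algebraMap G L)).comp (δ 𝒢)

theorem δL_apply (a : G) : δL 𝒢 L a = (δ 𝒢 a).map (algebraMap G L) := rfl

theorem coeff_δL (a : G) (n : ℕ) :
    (δL 𝒢 L a).coeff n = algebraMap G L (decompose 𝒢 a n : G) := by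
  rw [δL_apply, coeff_map, coeff_delta]

theorem δL_injective : Function.Injective (δL 𝒢 L) := by
  intro a b hab
  apply delta_injective 𝒢
  exact Polynomial.map_injective _ (IsFractionRing.injective G L) hab

theorem δL_of_mem {m : ℕ} {a : G} (ha : a ∈ 𝒢 m) :
    δL 𝒢 L a = monomial m (algebraMap G L a) := by
  rw [δL_apply, Groth.Agent.H41.Natural.delta_of_mem 𝒢 ha, Polynomial.map_monomial]

/-- the fraction field of `L[X]`. -/
abbrev K' : Type u := FractionRing L[X]

theorem inj_aux : Function.Injective ((algebraMap L[X] (K' L)).comp (δL 𝒢 L)) := by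
  rw [RingHom.coe_comp]
  exact (IsFractionRing.injective L[X] (K' L)).comp (δL_injective 𝒢 L)

/-- the extension of `δ` to the fraction field. -/
noncomputable def Ψ : L →+* K' L := IsFractionRing.lift (inj_aux 𝒢 L)

theorem Ψ_algebraMap (g : G) :
    Ψ 𝒢 L (algebraMap G L g) = algebraMap L[X] (K' L) (δL 𝒢 L g) :=
  IsFractionRing.lift_algebraMap (inj_aux 𝒢 L) g

theorem exists_poly_of_isIntegral (y : L) (hy : IsIntegral G y) :
    ∃ p : L[X], algebraMap L[X] (K' L) p = Ψ 𝒢 L y ∧ ∀ n, IsIntegral G (p.coeff n) := by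
  have h1 : IsIntegral L[X] (Ψ 𝒢 L y) := by
    refine IsIntegral.map_of_comp_eq (δL 𝒢 L) (Ψ 𝒢 L) ?_ hy
    ext g
    rw [RingHom.comp_apply, RingHom.comp_apply, Ψ_algebraMap]
  obtain ⟨p, hp⟩ := IsIntegrallyClosed.isIntegral_iff.mp h1
  refine ⟨p, hp, ?_⟩
  have h2 : IsIntegral G[X] (Ψ 𝒢 L y) := by
    refine IsIntegral.map_of_comp_eq (δ 𝒢) (Ψ 𝒢 L) ?_ hy
    ext g
    rw [RingHom.comp_apply, RingHom.comp_apply, Ψ_algebraMap,
      IsScalarTower.algebraMap_apply G[X] L[X] (K' L)]
    rfl
  have h3 : IsIntegral G[X] p := by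
    rw [← hp] at h2
    exact (isIntegral_algHom_iff (IsScalarTower.toAlgHom G[X] L[X] (K' L))
      (IsFractionRing.injective L[X] (K' L))).mp h2
  exact fun n => h3.coeff n

/-- the homogeneous integral elements of `L`. -/
def HomSet : Set L :=
  {c | IsIntegral G c ∧ ∃ j : ℕ, Ψ 𝒢 L c = algebraMap L[X] (K' L) (monomial j c)}

theorem mem_closure_of_poly (n : ℕ) : ∀ (p : L[X]) (y : L), p.support.card = n →
    algebraMap L[X] (K' L) p = Ψ 𝒢 L y → (∀ i, IsIntegral G (p.coeff i)) →
    y ∈ AddSubgroup.closure (HomSet 𝒢 L) := by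
  induction n using Nat.strong_induction_on with
  | _ n IH =>
  intro p y hcard hp hint
  have hinjK : Function.Injective (algebraMap L[X] (K' L)) := IsFractionRing.injective L[X] (K' L)
  by_cases hp0 : p = 0
  · subst hp0
    rw [map_zero] at hp
    have hy0 : y = 0 := (Ψ 𝒢 L).injective (by rw [← hp, map_zero])
    rw [hy0]; exact zero_mem _
  · obtain ⟨a, b, hb, hy⟩ := IsFractionRing.div_surjective G y
    have hb0 : b ≠ 0 := nonZeroDivisors.ne_zero hb
    have hB0 : δL 𝒢 L b ≠ 0 := fun h => hb0 (δL_injective 𝒢 L (by rw [h, map_zero]))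
    have hBK : algebraMap L[X] (K' L) (δL 𝒢 L b) ≠ 0 := by
      rw [Ne, map_eq_zero_iff _ hinjK]; exact hB0
    have hrel : p * δL 𝒢 L b = δL 𝒢 L a := by
      apply hinjK
      rw [map_mul, hp, ← hy, map_div₀, Ψ_algebraMap, Ψ_algebraMap, div_mul_cancel₀ _ hBK]
    have hlc : p.leadingCoeff * (δL 𝒢 L b).leadingCoeff = (δL 𝒢 L a).leadingCoeff := by
      rw [← hrel, leadingCoeff_mul]
    have hdeg : (δL 𝒢 L a).natDegree = p.natDegree + (δL 𝒢 L b).natDegree := by
      rw [← hrel, natDegree_mul hp0 hB0]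
    have hBl : (δL 𝒢 L b).leadingCoeff =
        algebraMap G L (decompose 𝒢 b (δL 𝒢 L b).natDegree : G) := coeff_δL 𝒢 L b _
    have hAl : (δL 𝒢 L a).leadingCoeff =
        algebraMap G L (decompose 𝒢 a (δL 𝒢 L a).natDegree : G) := coeff_δL 𝒢 L a _
    have hbN0 : algebraMap G L (decompose 𝒢 b (δL 𝒢 L b).natDegree : G) ≠ 0 := by
      rw [← hBl]; exact leadingCoeff_ne_zero.mpr hB0
    have hcb : p.leadingCoeff * algebraMap G L (decompose 𝒢 b (δL 𝒢 L b).natDegree : G) =
        algebraMap G L (decompose 𝒢 a (δL 𝒢 L a).natDegree : G) := by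
      rw [← hBl, ← hAl]; exact hlc
    have e1 : algebraMap L[X] (K' L) (monomial (δL 𝒢 L b).natDegree
          (algebraMap G L (decompose 𝒢 b (δL 𝒢 L b).natDegree : G))) =
        Ψ 𝒢 L (algebraMap G L (decompose 𝒢 b (δL 𝒢 L b).natDegree : G)) := by
      rw [Ψ_algebraMap, δL_of_mem 𝒢 L (SetLike.coe_mem (decompose 𝒢 b (δL 𝒢 L b).natDegree))]
    have e2 : algebraMap L[X] (K' L) (monomial (δL 𝒢 L a).natDegree
          (algebraMap G L (decompose 𝒢 a (δL 𝒢 L a).natDegree : G))) =
        Ψ 𝒢 L (algebraMap G L (decompose 𝒢 a (δL 𝒢 L a).natDegree : G)) := by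
      rw [Ψ_algebraMap, δL_of_mem 𝒢 L (SetLike.coe_mem (decompose 𝒢 a (δL 𝒢 L a).natDegree))]
    have hZ : algebraMap L[X] (K' L) (monomial (δL 𝒢 L b).natDegree
          (algebraMap G L (decompose 𝒢 b (δL 𝒢 L b).natDegree : G))) ≠ 0 := by
      rw [Ne, map_eq_zero_iff _ hinjK, monomial_eq_zero_iff]; exact hbN0
    have hΨc : Ψ 𝒢 L p.leadingCoeff =
        algebraMap L[X] (K' L) (monomial p.natDegree p.leadingCoeff) := by
      apply mul_right_cancel₀ hZ
      calc Ψ 𝒢 L p.leadingCoeff * algebraMap L[X] (K' L) (monomial (δL 𝒢 L b).natDegree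
              (algebraMap G L (decompose 𝒢 b (δL 𝒢 L b).natDegree : G)))
          = Ψ 𝒢 L (p.leadingCoeff *
              algebraMap G L (decompose 𝒢 b (δL 𝒢 L b).natDegree : G)) := by
            rw [e1, map_mul]
        _ = algebraMap L[X] (K' L) (monomial (δL 𝒢 L a).natDegree
              (algebraMap G L (decompose 𝒢 a (δL 𝒢 L a).natDegree : G))) := by
            rw [hcb, e2]
        _ = algebraMap L[X] (K' L) (monomial p.natDegree p.leadingCoeff) *
              algebraMap L[X] (K' L) (monomial (δL 𝒢 L b).natDegree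
              (algebraMap G L (decompose 𝒢 b (δL 𝒢 L b).natDegree : G))) := by
            rw [← map_mul, monomial_mul_monomial, hcb, ← hdeg]
    have hc_mem : p.leadingCoeff ∈ HomSet 𝒢 L := ⟨hint _, p.natDegree, hΨc⟩
    have hy' : algebraMap L[X] (K' L) p.eraseLead = Ψ 𝒢 L (y - p.leadingCoeff) := by
      rw [← self_sub_monomial_natDegree_leadingCoeff, map_sub, map_sub, hp, hΨc]
    have hcard' : p.eraseLead.support.card < n := hcard ▸ eraseLead_support_card_lt hp0
    have hint' : ∀ i, IsIntegral G (p.eraseLead.coeff i) := fun i => by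
      rw [eraseLead_coeff]
      split_ifs
      · exact isIntegral_zero
      · exact hint i
    have h5 := IH _ hcard' p.eraseLead (y - p.leadingCoeff) rfl hy' hint'
    have h6 : y = (y - p.leadingCoeff) + p.leadingCoeff := by ring
    rw [h6]
    exact add_mem h5 (AddSubgroup.subset_closure hc_mem)

theorem mem_closure_of_isIntegral (y : L) (hy : IsIntegral G y) :
    y ∈ AddSubgroup.closure (HomSet 𝒢 L) := by
  obtain ⟨p, hp, hint⟩ := exists_poly_of_isIntegral 𝒢 L y hy
  exact mem_closure_of_poly 𝒢 L _ p y rfl hp hint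

end Delta

section Conductor

variable {G : Type u} [CommRing G] (L : Type u) [Field L] [Algebra G L]

/-- the conductor ideal `(G : c) = {g | g c ∈ G}` of an element `c` of `L`. -/
def condIdeal (c : L) : Ideal G where
  carrier := {g | ∃ h : G, algebraMap G L h = algebraMap G L g * c}
  zero_mem' := ⟨0, by simp⟩
  add_mem' := by
    rintro g g' ⟨h, hh⟩ ⟨h', hh'⟩
    exact ⟨h + h', by rw [map_add, map_add, add_mul, hh, hh']⟩
  smul_mem' := by
    rintro r g ⟨h, hh⟩
    exact ⟨r * h, by rw [smul_eq_mul, map_mul, map_mul, mul_assoc, hh]⟩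

theorem mem_condIdeal {c : L} {g : G} :
    g ∈ condIdeal (G := G) L c ↔ ∃ h : G, algebraMap G L h = algebraMap G L g * c := Iff.rfl

end Conductor

section Torsion

variable {k G : Type u} [CommRing k] [CommRing G] [Algebra k G]
  (𝒢 : ℕ → Submodule k G) [GradedAlgebra 𝒢]
  (L : Type u) [Field L] [Algebra G L] [IsFractionRing G L] [IsDomain G] [IsNoetherianRing G]

theorem exists_pow_le_of_homSet (c : L) (hc : c ∈ HomSet 𝒢 L)
    [IsArtinian G (G ⧸ condIdeal (G := G) L c)] :
    ∃ N : ℕ, (HomogeneousIdeal.irrelevant 𝒢).toIdeal ^ N ≤ condIdeal (G := G) L c := by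
  classical
  obtain ⟨hcint, j, hj⟩ := hc
  have hinjK : Function.Injective (algebraMap L[X] (K' L)) := IsFractionRing.injective L[X] (K' L)
  have hhom : ∀ (i : ℕ) (g : G), g ∈ condIdeal (G := G) L c →
      (decompose 𝒢 g i : G) ∈ condIdeal (G := G) L c := by
    intro i g hg
    obtain ⟨h, hh⟩ := hg
    refine ⟨(decompose 𝒢 h (i + j) : G), ?_⟩
    have h1 : δL 𝒢 L h = δL 𝒢 L g * monomial j c := by
      apply hinjK
      rw [map_mul, ← hj, ← Ψ_algebraMap, ← Ψ_algebraMap, ← map_mul, hh]
    have h2 := congrArg (fun q : L[X] => q.coeff (i + j)) h1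
    simp only [coeff_δL, coeff_mul_monomial] at h2
    exact h2
  have hrad : ∀ (d : ℕ), 0 < d → ∀ u ∈ 𝒢 d, u ∈ (condIdeal (G := G) L c).radical := by
    intro d hd u hu
    obtain ⟨n, z, hz⟩ := IsArtinian.exists_pow_succ_smul_dvd u (1 : G ⧸ condIdeal (G := G) L c)
    obtain ⟨z, rfl⟩ := Ideal.Quotient.mk_surjective z
    have h1 : u ^ n.succ * z - u ^ n ∈ condIdeal (G := G) L c := by
      rw [← Ideal.Quotient.eq, map_mul]
      rw [Algebra.smul_def, Algebra.smul_def, Ideal.Quotient.algebraMap_eq, mul_one] at hz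
      exact hz
    have h2 := hhom (n * d) _ h1
    have hun : u ^ n ∈ 𝒢 (n * d) := by
      have := SetLike.pow_mem_graded n hu
      rwa [smul_eq_mul] at this
    have hun1 : u ^ n.succ ∈ 𝒢 (n.succ * d) := by
      have := SetLike.pow_mem_graded n.succ hu
      rwa [smul_eq_mul] at this
    have hnle : ¬ n.succ * d ≤ n * d := by
      rw [Nat.succ_mul]; omega
    rw [decompose_sub, DirectSum.sub_apply, AddSubgroupClass.coe_sub,
      decompose_of_mem_same 𝒢 hun,
      DirectSum.coe_decompose_mul_of_left_mem_of_not_le 𝒢 hun1 hnle, zero_sub] at h2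
    refine ⟨n, ?_⟩
    have := (condIdeal (G := G) L c).neg_mem h2
    rwa [neg_neg] at this
  have hle : (HomogeneousIdeal.irrelevant 𝒢).toIdeal ≤ (condIdeal (G := G) L c).radical := by
    rw [HomogeneousIdeal.irrelevant_eq_span, Ideal.span_le]
    intro x hx
    simp only [Set.mem_iUnion] at hx
    obtain ⟨i, hi, hx⟩ := hx
    exact hrad i hi x hx
  exact Ideal.exists_pow_le_of_le_radical_of_fg hle (IsNoetherian.noetherian _)

theorem exists_pow_le_condIdeal
    (hart : ∀ c : L, IsIntegral G c → IsArtinian G (G ⧸ condIdeal (G := G) L c))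
    (y : L) (hy : IsIntegral G y) :
    ∃ N : ℕ, (HomogeneousIdeal.irrelevant 𝒢).toIdeal ^ N ≤ condIdeal (G := G) L y := by
  have hmem := mem_closure_of_isIntegral 𝒢 L y hy
  refine AddSubgroup.closure_induction
    (p := fun y _ => ∃ N : ℕ,
      (HomogeneousIdeal.irrelevant 𝒢).toIdeal ^ N ≤ condIdeal (G := G) L y) ?_ ?_ ?_ ?_ hmem
  · intro c hc
    haveI := hart c hc.1
    exact exists_pow_le_of_homSet 𝒢 L c hc
  · exact ⟨0, fun g _ => ⟨0, by simp⟩⟩
  · rintro a b _ _ ⟨N, hN⟩ ⟨N', hN'⟩
    refine ⟨max N N', fun g hg => ?_⟩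
    obtain ⟨h, hh⟩ := hN (Ideal.pow_le_pow_right (le_max_left _ _) hg)
    obtain ⟨h', hh'⟩ := hN' (Ideal.pow_le_pow_right (le_max_right _ _) hg)
    exact ⟨h + h', by rw [map_add, hh, hh', mul_add]⟩
  · rintro a _ ⟨N, hN⟩
    refine ⟨N, fun g hg => ?_⟩
    obtain ⟨h, hh⟩ := hN hg
    exact ⟨-h, by rw [map_neg, hh, mul_neg]⟩

end Torsion

section Irrelevant

variable {k G : Type u} [Field k] [CommRing G] [Nontrivial G] [Algebra k G]
  (𝒢 : ℕ → Submodule k G) [GradedAlgebra 𝒢]

theorem mem_irrelevant_iff' (a : G) :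
    a ∈ (HomogeneousIdeal.irrelevant 𝒢).toIdeal ↔ (decompose 𝒢 a 0 : G) = 0 := by
  show GradedRing.proj 𝒢 0 a = 0 ↔ _
  rw [GradedRing.proj_apply]

theorem isMaximal_irrelevant (h0 : ∀ x ∈ 𝒢 0, x ∈ Set.range (algebraMap k G)) :
    (HomogeneousIdeal.irrelevant 𝒢).toIdeal.IsMaximal := by
  classical
  rw [Ideal.isMaximal_iff]
  refine ⟨?_, ?_⟩
  · rw [mem_irrelevant_iff', decompose_of_mem_same 𝒢 (SetLike.one_mem_graded 𝒢)]
    exact one_ne_zero
  · intro J x hle hxI hxJ
    have hx0mem : (decompose 𝒢 x 0 : G) ∈ 𝒢 0 := SetLike.coe_mem _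
    have h1 : x - (decompose 𝒢 x 0 : G) ∈ (HomogeneousIdeal.irrelevant 𝒢).toIdeal := by
      rw [mem_irrelevant_iff', decompose_sub, DirectSum.sub_apply, AddSubgroupClass.coe_sub,
        decompose_of_mem_same 𝒢 hx0mem, sub_self]
    have h2 : (decompose 𝒢 x 0 : G) ∈ J := by
      have := J.sub_mem hxJ (hle h1)
      rwa [sub_sub_cancel] at this
    have h3 : (decompose 𝒢 x 0 : G) ≠ 0 := fun h => hxI ((mem_irrelevant_iff' 𝒢 x).mpr h)
    obtain ⟨t, ht⟩ := h0 _ hx0mem
    have ht0 : t ≠ 0 := by
      rintro rfl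
      rw [map_zero] at ht
      exact h3 ht.symm
    have h4 : algebraMap k G t⁻¹ * (decompose 𝒢 x 0 : G) = 1 := by
      rw [← ht, ← map_mul, inv_mul_cancel₀ ht0, map_one]
    rw [← h4]
    exact J.mul_mem_left _ h2

end Irrelevant

section KL

variable {G : Type u} [CommRing G] [IsDomain G]
  (L : Type u) [Field L] [Algebra G L] [IsFractionRing G L]

theorem algebraMap_integralClosure_injective :
    Function.Injective (algebraMap G (integralClosure G L)) := by
  intro a b hab
  apply IsFractionRing.injective G L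
  exact congrArg (fun z : integralClosure G L => (z : L)) hab

/-- **Key lemma**: in a domain of finite type over a field, of dimension at least two, with finite
normalization, an element `x` of the fraction field such that `Iⁿ x` is integral over `G`, for a
maximal ideal `I`, is integral over `G`. -/
theorem isIntegral_of_pow_mul (k : Type u) [Field k] [Algebra k G] [Algebra.FiniteType k G]
    [Module.Finite G (integralClosure G L)]
    (hdim : 2 ≤ ringKrullDim G) (I : Ideal G) [hI : I.IsMaximal]
    (x : L) (n : ℕ) (hx : ∀ a ∈ I ^ n, IsIntegral G (algebraMap G L a * x)) :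
    IsIntegral G x := by
  classical
  by_contra hxn
  haveI hGN : IsNoetherianRing G := Algebra.FiniteType.isNoetherianRing k G
  haveI hNN : IsNoetherianRing (integralClosure G L) :=
    IsNoetherianRing.of_finite G (integralClosure G L)
  haveI hNic : IsIntegrallyClosed (integralClosure G L) :=
    integralClosure.isIntegrallyClosedOfFiniteExtension (R := G) L (L := L)
  obtain ⟨c, d, hd, hxe⟩ := IsFractionRing.div_surjective G x
  have hd0 : d ≠ 0 := nonZeroDivisors.ne_zero hd
  have hdL : algebraMap G L d ≠ 0 := by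
    rw [Ne, map_eq_zero_iff _ (IsFractionRing.injective G L)]; exact hd0
  have hinjN := algebraMap_integralClosure_injective (G := G) L
  have ht0 : algebraMap G (integralClosure G L) d ≠ 0 := by
    rw [Ne, map_eq_zero_iff _ hinjN]; exact hd0
  have hc' : algebraMap G (integralClosure G L) c ∉
      Ideal.span {algebraMap G (integralClosure G L) d} := by
    intro hmem
    obtain ⟨w, hw⟩ := Ideal.mem_span_singleton'.mp hmem
    apply hxn
    have hwL : (w : L) * algebraMap G L d = algebraMap G L c :=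
      congrArg (fun z : integralClosure G L => (z : L)) hw
    have : x = (w : L) := by
      rw [← hxe, ← hwL, mul_div_assoc, div_self hdL, mul_one]
    rw [this]
    exact w.2
  have hmk : (Ideal.Quotient.mk (Ideal.span {algebraMap G (integralClosure G L) d}))
      (algebraMap G (integralClosure G L) c) ≠ 0 := by
    rwa [Ne, Ideal.Quotient.eq_zero_iff_mem]
  obtain ⟨P, hP, hle⟩ := exists_le_isAssociatedPrime_of_isNoetherianRing (integralClosure G L)
    ((Ideal.Quotient.mk (Ideal.span {algebraMap G (integralClosure G L) d}))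
      (algebraMap G (integralClosure G L) c)) hmk
  haveI hPp : P.IsPrime := hP.isPrime
  have hht : P.height ≤ 1 :=
    Groth.Agent.H20.S1Fibres.height_le_one_of_mem_ass_quotient_span (integralClosure G L)
      (algebraMap G (integralClosure G L) d) ht0 P hP
  have hIn : ∀ a ∈ I ^ n, algebraMap G (integralClosure G L) a ∈ P := by
    intro a ha
    apply hle
    rw [Submodule.mem_colon_singleton, Submodule.mem_bot]
    change (Ideal.Quotient.mk (Ideal.span {algebraMap G (integralClosure G L) d}))
        (algebraMap G (integralClosure G L) a * algebraMap G (integralClosure G L) c) = 0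
    rw [Ideal.Quotient.eq_zero_iff_mem, Ideal.mem_span_singleton']
    refine ⟨⟨algebraMap G L a * x, hx a ha⟩, ?_⟩
    apply Subtype.ext
    show algebraMap G L a * x * algebraMap G L d = algebraMap G L a * algebraMap G L c
    rw [← hxe, mul_assoc, div_mul_cancel₀ _ hdL]
  have hcomap : I = P.comap (algebraMap G (integralClosure G L)) := by
    have h1 : I ^ n ≤ P.comap (algebraMap G (integralClosure G L)) := fun a ha => hIn a ha
    have h2 : I ≤ P.comap (algebraMap G (integralClosure G L)) := Ideal.IsPrime.le_of_pow_le h1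
    exact hI.eq_of_le (Ideal.IsPrime.ne_top inferInstance) h2
  haveI hPm : P.IsMaximal :=
    Ideal.isMaximal_of_isIntegral_of_isMaximal_comap (R := G) P (hcomap ▸ hI)
  letI : Algebra k (integralClosure G L) :=
    ((algebraMap G (integralClosure G L)).comp (algebraMap k G)).toAlgebra
  haveI : IsScalarTower k G (integralClosure G L) := IsScalarTower.of_algebraMap_eq' rfl
  haveI : Algebra.FiniteType k (integralClosure G L) :=
    Algebra.FiniteType.trans (inferInstance : Algebra.FiniteType k G) inferInstance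
  have h54 := Groth.Agent.H54.height_eq_ringKrullDim_of_isMaximal k (integralClosure G L) P
  have hdimeq : ringKrullDim (integralClosure G L) = ringKrullDim G :=
    Groth.Agent.H54.ringKrullDim_eq_of_isIntegral_of_injective hinjN
  have h2 : ((2 : ℕ∞) : WithBot ℕ∞) ≤ (P.height : WithBot ℕ∞) := by
    rw [h54, hdimeq]; exact hdim
  have h3 : (2 : ℕ∞) ≤ 1 := (WithBot.coe_le_coe.mp h2).trans hht
  exact absurd h3 (by norm_num)

end KL

end Groth.Agent.H20.GradedIC
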