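import Mathlib
import Groth.Agent.H34.Fitting7
import Groth.Agent.H20.ShrinkAlg

/-!
# (P1) for S13456: finite projective of constant rank after base change, via Fitting ideals
-/

set_option autoImplicit false
set_option linter.style.haveILetI false
set_option linter.unusedSectionVars false
universe u

namespace Groth.Agent.H20.HFS_P1
open TensorProduct Groth.Agent.H34 Groth.Agent.H20

/-- finite projective of constant rank `r` ⟺ free of rank `r` on basic opens around every prime -/
theorem proj_rank_iff_locallyFree (B : Type u) [CommRing B] (P : Type u) [AddCommGroup P]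
    [Module B P] [Module.FinitePresentation B P] (r : ℕ) :
    (Module.Projective B P ∧ ∀ p : PrimeSpectrum B, Module.rankAtStalk P p = r) ↔
    (∀ (p : Ideal B) [p.IsPrime], ∃ f : B, f ∉ p ∧
      Module.Free (Localization.Away f) (LocalizedModule (Submonoid.powers f) P) ∧
        Module.finrank (Localization.Away f) (LocalizedModule (Submonoid.powers f) P) = r) := by
  constructor
  · rintro ⟨hproj, hrank⟩ p hp
    haveI : Module.Free (Localization.AtPrime p) (LocalizedModule p.primeCompl P) :=
      Module.free_of_flat_of_isLocalRing
    obtain ⟨f, hf, hfree, hfr⟩ := Module.FinitePresentation.exists_free_localizedModule_powers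
      p.primeCompl (LocalizedModule.mkLinearMap p.primeCompl P) (Localization.AtPrime p)
    refine ⟨f, hf, hfree, ?_⟩
    rw [hfr]
    exact hrank ⟨p, hp⟩
  · intro H
    have hproj : Module.Projective B P := by
      rw [← Module.freeLocus_eq_univ_iff, Set.eq_univ_iff_forall]
      intro p
      obtain ⟨f, hf, hfree, hfr⟩ := H p.asIdeal
      have hsub : (PrimeSpectrum.basicOpen f : Set (PrimeSpectrum B)) ⊆
          Module.freeLocus B P :=
        Module.basicOpen_subset_freeLocus_iff.mpr inferInstance
      exact hsub hf
    haveI : Module.Flat B P := inferInstance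
    refine ⟨hproj, fun p => ?_⟩
    obtain ⟨f, hf, hfree, hfr⟩ := H p.asIdeal
    haveI := ShrinkAlg.isPrime_map_away f p.asIdeal hf
    let p' : PrimeSpectrum (Localization.Away f) :=
      ⟨p.asIdeal.map (algebraMap B (Localization.Away f)), inferInstance⟩
    have hp' : p'.comap (algebraMap B (Localization.Away f)) = p :=
      PrimeSpectrum.ext (ShrinkAlg.under_map_away f p.asIdeal hf)
    have hbc : IsBaseChange (Localization.Away f)
        (LocalizedModule.mkLinearMap (Submonoid.powers f) P) :=
      IsLocalizedModule.isBaseChange (Submonoid.powers f) (Localization.Away f) _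
    have h1 := Module.rankAtStalk_isBaseChange hbc p'
    rw [hp', Module.rankAtStalk_eq_finrank_of_free] at h1
    rw [← h1]
    exact hfr

/-- (P1) finite projective of constant rank `r` after base change, in terms of Fitting ideals. -/
theorem proj_rank_iff_fitt (A : Type u) [CommRing A] [IsNoetherianRing A]
    (N : Type u) [AddCommGroup N] [Module A N] [Module.Finite A N] (r : ℕ)
    (B : Type u) [CommRing B] [Algebra A B] :
    (Module.Finite B (B ⊗[A] N) ∧ Module.Projective B (B ⊗[A] N) ∧
        ∀ p : PrimeSpectrum B, Module.rankAtStalk (B ⊗[A] N) p = r) ↔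
      ((∀ k, k < r → (Fitt.ideal A N k).map (algebraMap A B) = ⊥) ∧
        (Fitt.ideal A N r).map (algebraMap A B) = ⊤) := by
  haveI : Module.FinitePresentation A N := Module.finitePresentation_of_finite A N
  haveI : Module.FinitePresentation B (B ⊗[A] N) := inferInstance
  haveI : Module.Finite B (B ⊗[A] N) := inferInstance
  simp only [← Fit.fittIdeal_baseChange B]
  rw [← and_assoc, and_iff_right (inferInstance : Module.Finite B (B ⊗[A] N)),
    proj_rank_iff_locallyFree B (B ⊗[A] N) r, Fit.locallyFree_iff_fittIdeal (R := B) r]
  constructor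
  · rintro ⟨h1, h2⟩
    exact ⟨h1, h2 r le_rfl⟩
  · rintro ⟨h1, h2⟩
    refine ⟨h1, fun k hk => ?_⟩
    rw [eq_top_iff, ← h2]
    exact Fit.fittIdeal_mono hk

end Groth.Agent.H20.HFS_P1
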