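import Mathlib
import Groth.Prelude

/-!
# Field points of a finite group scheme with connected fibres (piece (GL1) for helper63's S13951)

Two `L`-points of a finite `S`-group `I` with connected fibres which lie over the same `L`-point of
`S` are equal.
-/

set_option autoImplicit false
set_option linter.style.haveILetI false

universe u

open CategoryTheory CategoryTheory.Limits MonoidalCategory CartesianMonoidalCategory MonObj GrpObj
  AlgebraicGeometry

namespace Groth.Agent.H20.InfGrp_GL1

/-- Ring-level core: `R` a finite algebra over a field `K` with connected spectrum and a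
`K`-retraction `ε`; two maps to a reduced ring agreeing on `K` are equal. -/
theorem core {K R L : Type u} [Field K] [CommRing R] [CommRing L] [IsReduced L]
    (hconn : PreconnectedSpace (PrimeSpectrum R))
    (j : K →+* R) (hj : j.Finite) (ε : R →+* K) (hε : ∀ x, ε (j x) = x)
    (α β : R →+* L) (h : ∀ x, α (j x) = β (j x)) : α = β := by
  letI : Algebra K R := j.toAlgebra
  haveI : Module.Finite K R := hj
  haveI : IsArtinianRing R := IsArtinianRing.of_finite K R
  have hsub : Subsingleton (PrimeSpectrum R) := PreconnectedSpace.trivial_of_discrete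
  have hk : (RingHom.ker ε).IsPrime := RingHom.ker_isPrime ε
  have hker : ∀ r ∈ RingHom.ker ε, IsNilpotent r := by
    intro r hr
    rw [nilpotent_iff_mem_prime]
    intro p hp
    have h1 : (⟨p, hp⟩ : PrimeSpectrum R) = ⟨RingHom.ker ε, hk⟩ := Subsingleton.elim _ _
    have hp' : p = RingHom.ker ε := congrArg PrimeSpectrum.asIdeal h1
    rw [hp']
    exact hr
  have key : ∀ (g : R →+* L) (r : R), g r = g (j (ε r)) := by
    intro g r
    have hmem : r - j (ε r) ∈ RingHom.ker ε := by
      rw [RingHom.mem_ker, map_sub, hε, sub_self]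
    have hn : IsNilpotent (g (r - j (ε r))) := (hker _ hmem).map g
    have h0 : g (r - j (ε r)) = 0 := hn.eq_zero
    rw [map_sub, sub_eq_zero] at h0
    exact h0
  ext r
  rw [key α r, key β r, h]

/-- (GL1) -/
theorem comp_eq_of_field {S : Scheme.{u}} (I : Over S) [GrpObj I] [IsFinite I.hom]
    (hconn : ∀ s : S, ConnectedSpace ↥(I.hom.fiber s)) (L : Type u) [Field L]
    (a b : Spec (CommRingCat.of L) ⟶ I.left) (h : a ≫ I.hom = b ≫ I.hom) : a = b := by
  let e := Scheme.SpecToEquivOfField L S
  let c : Spec (CommRingCat.of L) ⟶ S := a ≫ I.hom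
  let s : S := (e c).1
  let φ : S.residueField s ⟶ CommRingCat.of L := (e c).2
  have hc : a ≫ I.hom = Spec.map φ ≫ S.fromSpecResidueField s := (e.symm_apply_apply c).symm
  have hc' : b ≫ I.hom = Spec.map φ ≫ S.fromSpecResidueField s := h ▸ hc
  let a' : Spec (CommRingCat.of L) ⟶ I.hom.fiber s := pullback.lift a (Spec.map φ) hc
  let b' : Spec (CommRingCat.of L) ⟶ I.hom.fiber s := pullback.lift b (Spec.map φ) hc'
  have ha : a' ≫ I.hom.fiberι s = a := pullback.lift_fst _ _ _
  have hb : b' ≫ I.hom.fiberι s = b := pullback.lift_fst _ _ _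
  have haq : a' ≫ I.hom.fiberToSpecResidueField s = Spec.map φ := pullback.lift_snd _ _ _
  have hbq : b' ≫ I.hom.fiberToSpecResidueField s = Spec.map φ := pullback.lift_snd _ _ _
  suffices hab : a' = b' by rw [← ha, ← hb, hab]
  -- the unit section
  let η' : S ⟶ I.left := (η[I] : 𝟙_ (Over S) ⟶ I).left
  have hη : η' ≫ I.hom = 𝟙 S := Over.w (η[I] : 𝟙_ (Over S) ⟶ I)
  let σ : Spec (S.residueField s) ⟶ I.hom.fiber s :=
    pullback.lift (S.fromSpecResidueField s ≫ η') (𝟙 _)
      (by rw [Category.assoc, hη, Category.comp_id, Category.id_comp])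
  let q : I.hom.fiber s ⟶ Spec (S.residueField s) := I.hom.fiberToSpecResidueField s
  have hσ : σ ≫ q = 𝟙 _ := pullback.lift_snd _ _ _
  haveI : IsAffine (I.hom.fiber s) := inferInstance
  haveI : IsFinite q := by
    show IsFinite (pullback.snd I.hom (S.fromSpecResidueField s))
    infer_instance
  have hqfin : q.appTop.hom.Finite :=
    ((HasAffineProperty.iff_of_isAffine (P := @IsFinite)).mp ‹IsFinite q›).2
  apply ext_of_isAffine
  -- the ring maps
  let jC : S.residueField s ⟶ Γ(I.hom.fiber s, ⊤) := (Scheme.ΓSpecIso _).inv ≫ q.appTop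
  let εC : Γ(I.hom.fiber s, ⊤) ⟶ S.residueField s := σ.appTop ≫ (Scheme.ΓSpecIso _).hom
  have hjε : jC ≫ εC = 𝟙 _ := by
    show ((Scheme.ΓSpecIso _).inv ≫ q.appTop) ≫ σ.appTop ≫ (Scheme.ΓSpecIso _).hom = 𝟙 _
    rw [Category.assoc, ← Category.assoc q.appTop, ← Scheme.Hom.comp_appTop, hσ,
      Scheme.Hom.id_appTop, Category.id_comp, Iso.inv_hom_id]
  have hε : ∀ x, εC.hom (jC.hom x) = x := by
    intro x
    have := congrArg (fun f => f.hom x) hjε
    simpa using this
  have hjfin : jC.hom.Finite := by
    show (q.appTop.hom.comp (Scheme.ΓSpecIso _).inv.hom).Finite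
    refine RingHom.Finite.comp hqfin (RingHom.Finite.of_surjective _ ?_)
    exact (ConcreteCategory.bijective_of_isIso (Scheme.ΓSpecIso (S.residueField s)).inv).2
  have h1 : q.appTop ≫ a'.appTop = q.appTop ≫ b'.appTop := by
    rw [← Scheme.Hom.comp_appTop, ← Scheme.Hom.comp_appTop, haq, hbq]
  have hagree : ∀ x, a'.appTop.hom (jC.hom x) = b'.appTop.hom (jC.hom x) := by
    intro x
    have := congrArg (fun f => f.hom ((Scheme.ΓSpecIso (S.residueField s)).inv.hom x)) h1
    simpa [jC] using this
  have hconnR : PreconnectedSpace (PrimeSpectrum Γ(I.hom.fiber s, ⊤)) := by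
    haveI := hconn s
    have hc2 : ConnectedSpace ↥(Spec Γ(I.hom.fiber s, ⊤)) :=
      (Scheme.homeoOfIso (I.hom.fiber s).isoSpec).surjective.connectedSpace
        (Scheme.homeoOfIso (I.hom.fiber s).isoSpec).continuous
    exact hc2.toPreconnectedSpace
  exact CommRingCat.hom_ext (core hconnR jC.hom hjfin εC.hom hε a'.appTop.hom b'.appTop.hom hagree)

end Groth.Agent.H20.InfGrp_GL1
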