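import Mathlib
import Groth.Agent.H44.J2Crit
import Groth.Agent.H44.CompleteJ2
import Groth.Agent.H44.NagataCrit
import Groth.Agent.H44.RegDescend
import Groth.Agent.H34.HensGRing
import Groth.Agent.H34.ComplQuot
import Groth.Agent.H20.GRingLocal
import Groth.Agent.H15.FlatLoc
import Groth.Agent.S9293
import Groth.Agent.S9250
import Groth.Agent.S0565

/-!
# A Noetherian local G-ring is J-2, hence quasi-excellent (helper20)

* `preimage_regLocus`: for a regular homomorphism `R → S` of Noetherian rings, the regular locus of `S`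
  is the preimage of the regular locus of `R`.
* `isOpen_regLocus_of_ringEquiv`: openness of the regular locus is invariant under ring isomorphisms.
* `isJ2_of_isLocalRing_of_isGRing`: a Noetherian local G-ring is J-2 (Matsumura 33.H / EGA IV 7.8.3).
* `isQuasiExcellent_of_isLocalRing_of_isGRing`.
-/

set_option autoImplicit false
set_option linter.style.haveILetI false
set_option linter.unusedSectionVars false
set_option linter.unusedVariables false

universe u
open IsLocalRing TensorProduct

namespace Groth.Agent.H20.LocalGRingJ2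

/-- For a regular homomorphism of Noetherian rings the regular locus of the target is the preimage of
the regular locus of the source. -/
theorem preimage_regLocus (R S : Type u) [CommRing R] [CommRing S] [Algebra R S]
    [IsNoetherianRing R] [IsNoetherianRing S] (h : CAlg.IsRegularHom R S) :
    PrimeSpectrum.comap (algebraMap R S) ⁻¹' EGA4.regLocus R = EGA4.regLocus S := by
  ext q
  letI alg : Algebra (Localization.AtPrime (Ideal.comap (algebraMap R S) q.asIdeal))
      (Localization.AtPrime q.asIdeal) :=
    (Localization.localRingHom (Ideal.comap (algebraMap R S) q.asIdeal) q.asIdeal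
      (algebraMap R S) rfl).toAlgebra
  haveI hloc : IsLocalHom (algebraMap (Localization.AtPrime (Ideal.comap (algebraMap R S) q.asIdeal))
      (Localization.AtPrime q.asIdeal)) :=
    Localization.isLocalHom_localRingHom _ _ _ _
  haveI tow : IsScalarTower R (Localization.AtPrime (Ideal.comap (algebraMap R S) q.asIdeal))
      (Localization.AtPrime q.asIdeal) :=
    IsScalarTower.of_algebraMap_eq (R := R)
      (S := Localization.AtPrime (Ideal.comap (algebraMap R S) q.asIdeal))
      (A := Localization.AtPrime q.asIdeal) (fun a => by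
        show algebraMap R (Localization.AtPrime q.asIdeal) a =
          Localization.localRingHom (Ideal.comap (algebraMap R S) q.asIdeal) q.asIdeal
            (algebraMap R S) rfl (algebraMap R _ a)
        rw [Localization.localRingHom_to_map,
          IsScalarTower.algebraMap_apply R S (Localization.AtPrime q.asIdeal)])
  haveI noethr : IsNoetherianRing (Localization.AtPrime (Ideal.comap (algebraMap R S) q.asIdeal)) :=
    IsLocalization.isNoetherianRing (Ideal.comap (algebraMap R S) q.asIdeal).primeCompl _
      inferInstance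
  haveI noethq : IsNoetherianRing (Localization.AtPrime q.asIdeal) :=
    IsLocalization.isNoetherianRing q.asIdeal.primeCompl _ inferInstance
  have hreg' : CAlg.IsRegularHom (Localization.AtPrime (Ideal.comap (algebraMap R S) q.asIdeal))
      (Localization.AtPrime q.asIdeal) :=
    Groth.Agent.H20.GRingLocal.isRegularHom_atPrime R S q.asIdeal
      (Ideal.comap (algebraMap R S) q.asIdeal) rfl
      (Localization.AtPrime (Ideal.comap (algebraMap R S) q.asIdeal)) h
  show IsRegularLocalRing (Localization.AtPrime (Ideal.comap (algebraMap R S) q.asIdeal)) ↔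
    IsRegularLocalRing (Localization.AtPrime q.asIdeal)
  constructor
  · intro hR
    haveI := hR
    haveI : IsRegularRing (Localization.AtPrime (Ideal.comap (algebraMap R S) q.asIdeal)) :=
      Groth.Agent.H44.RegDescend.isRegularRing_of_isRegularLocalRing _
    haveI hS : IsRegularRing (Localization.AtPrime q.asIdeal) :=
      Groth.Agent.S9250.result (Localization.AtPrime (Ideal.comap (algebraMap R S) q.asIdeal)) (Localization.AtPrime q.asIdeal) hreg'
    have h1 : IsRegularLocalRing (Localization.AtPrime
        (maximalIdeal (Localization.AtPrime q.asIdeal))) :=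
      IsRegularRing.isRegularLocalRing_localization _
    exact Groth.Agent.H15.FlatLoc.isRegularLocalRing_of_locMax _ h1
  · intro hS
    haveI := hS
    haveI : Module.Flat (Localization.AtPrime (Ideal.comap (algebraMap R S) q.asIdeal)) (Localization.AtPrime q.asIdeal) := hreg'.1
    exact Groth.Agent.S0565.result (Localization.AtPrime (Ideal.comap (algebraMap R S) q.asIdeal)) (Localization.AtPrime q.asIdeal)

theorem image_regLocus_subset {R S : Type u} [CommRing R] [CommRing S] (e : R ≃+* S) :
    PrimeSpectrum.homeomorphOfRingEquiv e '' EGA4.regLocus R ⊆ EGA4.regLocus S := by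
  rintro _ ⟨x, hx, rfl⟩
  haveI hreg : IsRegularLocalRing (Localization.AtPrime x.asIdeal) := hx
  show IsRegularLocalRing (Localization.AtPrime (Ideal.comap e.symm x.asIdeal))
  exact IsRegularLocalRing.of_ringEquiv
    (IsLocalization.ringEquivOfRingEquiv (Localization.AtPrime (Ideal.comap e.symm x.asIdeal))
      (Localization.AtPrime x.asIdeal) e.symm (e.symm.map_primeCompl_comap_eq x.asIdeal)).symm

/-- Openness of the regular locus is invariant under ring isomorphisms. -/
theorem isOpen_regLocus_of_ringEquiv {R S : Type u} [CommRing R] [CommRing S] (e : R ≃+* S)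
    (h : IsOpen (EGA4.regLocus R)) : IsOpen (EGA4.regLocus S) := by
  have himg : EGA4.regLocus S = PrimeSpectrum.homeomorphOfRingEquiv e '' EGA4.regLocus R := by
    apply Set.Subset.antisymm
    · intro x hx
      refine ⟨PrimeSpectrum.homeomorphOfRingEquiv e.symm x,
        image_regLocus_subset e.symm ⟨x, hx, rfl⟩, ?_⟩
      apply PrimeSpectrum.ext
      show Ideal.comap e.symm (Ideal.comap e.symm.symm x.asIdeal) = x.asIdeal
      ext a
      rw [Ideal.mem_comap, Ideal.mem_comap]
      simp
    · exact image_regLocus_subset e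
  rw [himg]
  exact (PrimeSpectrum.homeomorphOfRingEquiv e).isOpenMap _ h

set_option maxHeartbeats 1000000 in
/-- **A Noetherian local G-ring is J-2.** -/
theorem isJ2_of_isLocalRing_of_isGRing (T : Type u) [CommRing T] [IsLocalRing T]
    (hT : CAlg.IsGRing T) : EGA4.IsJ2 T := by
  haveI hN : IsNoetherianRing T := hT.1
  rw [Groth.Agent.H44.J2Crit.isJ2_iff_finite_domains]
  intro T' _ _ _ hfin
  haveI := hfin
  haveI : IsNoetherianRing T' := IsNoetherianRing.of_finite T T'
  refine ⟨EGA4.regLocus T', ?_, ⟨_, Groth.Agent.H44.NagataCrit.bot_mem_regLocus T'⟩, subset_rfl⟩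
  have hreg0 : CAlg.IsRegularHom T (EGA4.Cpl T) :=
    Groth.Agent.H34.HensGRing.isRegularHom_cpl_of_isGRing T hT
  haveI hNC : IsNoetherianRing (EGA4.Cpl T) :=
    Groth.Agent.Lead.isNoetherianRing_adicCompletion (maximalIdeal T)
      (maximalIdeal T).fg_of_isNoetherianRing
  haveI hcomp : IsAdicComplete (maximalIdeal (EGA4.Cpl T)) (EGA4.Cpl T) :=
    Groth.Agent.H20.GRingLocal.isAdicComplete_cpl T
  have hJ2C : EGA4.IsJ2 (EGA4.Cpl T) := Groth.Agent.H44.CompleteJ2.isJ2_of_complete (EGA4.Cpl T)
  haveI hff : Module.FaithfullyFlat T (EGA4.Cpl T) := Groth.Agent.H34.ComplQuot.faithfullyFlat_cpl T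
  -- the base change `W = T' ⊗ T^`
  have hregW : CAlg.IsRegularHom T' (T' ⊗[T] EGA4.Cpl T) :=
    Groth.Agent.S9293.result T (EGA4.Cpl T) T' hreg0
  haveI hNW' : IsNoetherianRing (EGA4.Cpl T ⊗[T] T') :=
    IsNoetherianRing.of_finite (EGA4.Cpl T) (EGA4.Cpl T ⊗[T] T')
  let e : EGA4.Cpl T ⊗[T] T' ≃+* T' ⊗[T] EGA4.Cpl T :=
    (Algebra.TensorProduct.comm T (EGA4.Cpl T) T').toRingEquiv
  haveI hNW : IsNoetherianRing (T' ⊗[T] EGA4.Cpl T) := isNoetherianRing_of_ringEquiv _ e
  have hopen' : IsOpen (EGA4.regLocus (EGA4.Cpl T ⊗[T] T')) :=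
    hJ2C (EGA4.Cpl T ⊗[T] T') inferInstance
  have hopen : IsOpen (EGA4.regLocus (T' ⊗[T] EGA4.Cpl T)) :=
    isOpen_regLocus_of_ringEquiv e hopen'
  have hpre := preimage_regLocus T' (T' ⊗[T] EGA4.Cpl T) hregW
  haveI hffW : Module.FaithfullyFlat T' (T' ⊗[T] EGA4.Cpl T) := inferInstance
  have hsurj : Function.Surjective
      (PrimeSpectrum.comap (algebraMap T' (T' ⊗[T] EGA4.Cpl T))) :=
    PrimeSpectrum.comap_surjective_of_faithfullyFlat
  have hgen : GeneralizingMap (PrimeSpectrum.comap (algebraMap T' (T' ⊗[T] EGA4.Cpl T))) :=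
    RingHom.Flat.generalizingMap_comap (RingHom.flat_algebraMap_iff.mpr hregW.1)
  have hq := PrimeSpectrum.isQuotientMap_of_generalizingMap hsurj hgen
  rw [← hq.isOpen_preimage, hpre]
  exact hopen

/-- A Noetherian local G-ring is quasi-excellent. -/
theorem isQuasiExcellent_of_isLocalRing_of_isGRing (T : Type u) [CommRing T] [IsLocalRing T]
    (hT : CAlg.IsGRing T) : EGA4.IsQuasiExcellent T :=
  ⟨hT.1, hT, isJ2_of_isLocalRing_of_isGRing T hT⟩

end Groth.Agent.H20.LocalGRingJ2
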