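import Mathlib
import Groth.Agent.H69.DirColim
import Groth.Agent.H15.NilPair.Base
import Groth.Agent.H15.NilPair.Defs
import Groth.Agent.H15.NilPair.Sys

/-!
# Piece (M2) for helper15's S18016: in the surjective/nil mode, `phi j` has nil kernel.
-/

set_option autoImplicit false
universe u
open CategoryTheory MvPolynomial Limits
open Groth.Agent.H69 Groth.Agent.H15.NilPair
open scoped Classical

namespace Groth.Agent.H20.NilPair_M2

variable {R B D D' P : Type u} [CommRing R] [CommRing B] [CommRing D] [CommRing D'] [CommRing P]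
  [Algebra R B] [Algebra R D] [Algebra R D'] [Algebra R P]
variable {f : B →ₐ[R] D} {i : D' →ₐ[R] D} {q₁ : P →ₐ[R] B} {q₂ : P →ₐ[R] D'}

theorem phi_nil (hf : Function.Surjective f) (hfn : ∀ x ∈ RingHom.ker f.toRingHom, IsNilpotent x)
    (j : J f i q₁ q₂) : ∀ x ∈ RingHom.ker (phi j).toRingHom, IsNilpotent x := by
  have hS : j.1.S = ∅ := j.2.2.2.2.2.1 hf
  have hW : j.1.WD ⊆ j.1.WB := by
    intro v hv
    have hv' : v ∈ j.1.Z.disjSum j.1.S := hv
    rw [hS] at hv'
    exact hv'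
  have hle : PS R j.1.WD ≤ PS R j.1.WB := PS_mono hW
  have key : ∀ y ∈ IT j.1.WD j.1.TD,
      IsNilpotent (mkq j.1.WB j.1.TB (Subalgebra.inclusion hle y)) := by
    intro y hy
    have h1 : IT j.1.WD j.1.TD ≤ Ideal.comap ((mkq j.1.WB j.1.TB).comp (Subalgebra.inclusion hle))
        (nilradical (Cq (A := R) j.1.WB j.1.TB)) := by
      apply Ideal.span_le.mpr
      intro y hy
      rw [SetLike.mem_coe, Ideal.mem_comap, mem_nilradical, AlgHom.comp_apply]
      have hy' : (y : MvPolynomial (P ⊕ D') R) ∈ j.1.TD := hy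
      rw [← Subalgebra.coe_inclusion hle y] at hy'
      rcases Finset.mem_union.mp hy' with h | h
      · rcases Finset.mem_union.mp h with h | h
        · exact j.2.2.2.2.2.2.1 hf hfn _ (Finset.mem_union_left _ h)
        · rw [mkq_eq_zero _ h]
          exact IsNilpotent.zero
      · exact j.2.2.2.2.2.2.1 hf hfn _ (Finset.mem_union_right _ h)
    have h2 := h1 hy
    rw [Ideal.mem_comap, mem_nilradical, AlgHom.comp_apply] at h2
    exact h2
  intro x hx
  obtain ⟨⟨q, hq⟩, rfl⟩ := mkq_surjective j.1.WB j.1.TB x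
  have h0 : mkq j.1.WD j.1.TD ⟨q, PS_mono Raw.WB_sub_WD hq⟩ = 0 := hx
  have hmem : (⟨q, PS_mono Raw.WB_sub_WD hq⟩ : PS R j.1.WD) ∈ IT j.1.WD j.1.TD :=
    (mkq_eq_zero_iff _).mp h0
  have h3 := key _ hmem
  have h4 : Subalgebra.inclusion hle (⟨q, PS_mono Raw.WB_sub_WD hq⟩ : PS R j.1.WD) =
      (⟨q, hq⟩ : PS R j.1.WB) := Subtype.ext (Subalgebra.coe_inclusion hle _)
  rw [h4] at h3
  exact h3

end Groth.Agent.H20.NilPair_M2
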