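import Mathlib
import Groth.Agent.H69.DirColim
import Groth.Agent.H15.NilPair.Base
import Groth.Agent.H15.NilPair.Defs
import Groth.Agent.H15.NilPair.Sys

/-!
# Piece (PSI) for helper15's S18016: `psi j` is surjective with nil kernel.
-/

set_option autoImplicit false
universe u
open CategoryTheory MvPolynomial Limits
open Groth.Agent.H69 Groth.Agent.H15.NilPair
open scoped Classical

namespace Groth.Agent.H20.NilPair_PSI

variable {R B D D' P : Type u} [CommRing R] [CommRing B] [CommRing D] [CommRing D'] [CommRing P]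
  [Algebra R B] [Algebra R D] [Algebra R D'] [Algebra R P]
variable {f : B →ₐ[R] D} {i : D' →ₐ[R] D} {q₁ : P →ₐ[R] B} {q₂ : P →ₐ[R] D'}

theorem psi_surj_nil (j : J f i q₁ q₂) :
    Function.Surjective (psi j) ∧ ∀ x ∈ RingHom.ker (psi j).toRingHom, IsNilpotent x := by
  constructor
  · intro z
    obtain ⟨⟨q, hq⟩, rfl⟩ := mkq_surjective j.1.WD j.1.TD z
    exact ⟨mkq j.1.WD j.1.T' ⟨q, hq⟩, rfl⟩
  · have hle : IT j.1.WD j.1.TD ≤
        Ideal.comap (mkq j.1.WD j.1.T') (nilradical (Cq (A := R) j.1.WD j.1.T')) := by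
      apply Ideal.span_le.mpr
      intro y hy
      rw [SetLike.mem_coe, Ideal.mem_comap, mem_nilradical]
      have hy' : (y : MvPolynomial (P ⊕ D') R) ∈ j.1.TD := hy
      rcases Finset.mem_union.mp hy' with h | h
      · rcases Finset.mem_union.mp h with h | h
        · rw [mkq_eq_zero y h]
          exact IsNilpotent.zero
        · exact j.2.2.2.2.1 y (Finset.mem_union_left _ h)
      · exact j.2.2.2.2.1 y (Finset.mem_union_right _ h)
    intro x hx
    obtain ⟨⟨q, hq⟩, rfl⟩ := mkq_surjective j.1.WD j.1.T' x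
    have h0 : mkq j.1.WD j.1.TD ⟨q, hq⟩ = 0 := hx
    have hmem : (⟨q, hq⟩ : PS R j.1.WD) ∈ IT j.1.WD j.1.TD := (mkq_eq_zero_iff _).mp h0
    have := hle hmem
    rw [Ideal.mem_comap, mem_nilradical] at this
    exact this

end Groth.Agent.H20.NilPair_PSI
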