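import Mathlib
import Groth.Prelude.Def_FlatCA
import Groth.Agent.H82.AssFiber
import Groth.Agent.H99.PureBC

/-!
# Impurities and pushforward along a surjection `B → C`

Helper library for S8999: for a `C`-module `N` and a surjective algebra map `B → C`, impurities of
`N` over `C` and over `B` correspond.

* `fiberIdeal_mem_ass_iff`: elementwise criterion for the extension of a prime to the fibre ring to
  be an associated prime of the fibre module.
* `isBaseChange_restrict`: base change along the pushout `B' → C'` of `B → C`.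
* `impurity_B_of_C`, `impurity_C_of_B`: the transfer in a fixed context.
* `exists_impurity_B`, `exists_impurity_C`: the existence statements.
-/

set_option autoImplicit false
set_option linter.style.haveILetI false
set_option linter.unusedSectionVars false
universe u
open TensorProduct

namespace Groth.Agent.H20.PureSurj

attribute [local instance] Algebra.TensorProduct.rightAlgebra

open Groth.Agent.H82.AssFiber

section F

variable {R : Type u} [CommRing R] (p : Ideal R) [p.IsPrime] (S : Type u) [CommRing S]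
  [Algebra R S] (N : Type u) [AddCommGroup N] [Module S N] [Module R N] [IsScalarTower R S N]

/-- `s` kills the image of `m` in the fibre module. -/
def Z (m : N) (s : S) : Prop := ∃ r ∉ p, (algebraMap R S r * s) • m ∈ pN p S N

theorem fiberIdeal_isPrime (q : Ideal S) [q.IsPrime] [q.LiesOver p] :
    (FlatCA.fiberIdeal p q).IsPrime := by
  have h := PrimeSpectrum.coe_primesOverOrderIsoFiber_symm_apply (R := R) (S := S) (p := p)
    (PrimeSpectrum.primesOverOrderIsoFiber R S p ⟨q, ⟨inferInstance, inferInstance⟩⟩)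
  rw [OrderIso.symm_apply_apply] at h
  have h0 : ((PrimeSpectrum.primesOverOrderIsoFiber R S p
      ⟨q, ⟨inferInstance, inferInstance⟩⟩).asIdeal).comap
      (Algebra.TensorProduct.includeRight (R := R) (A := p.ResidueField) (B := S)).toRingHom = q :=
    h.symm
  rw [Groth.Agent.S1200.fiberIdeal_eq_of_comap_eq p q _ h0]
  exact PrimeSpectrum.isPrime _

theorem key (x : FlatCA.fiberMod p S N) (r₀ : R) (hr₀ : r₀ ∉ p) (m : N)
    (hm : algebraMap R S r₀ • x = FlatCA.toFiberMod p S N m) (s : S) :
    (algebraMap S (p.Fiber S) s ∈ (Submodule.colon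
      (⊥ : Submodule (p.Fiber S) (FlatCA.fiberMod p S N)) {x}).radical) ↔
      ∃ k : ℕ, Z p S N m (s ^ k) := by
  have hT := isScalarTower_fiberMod p S N
  constructor
  · rintro ⟨k, hk⟩
    rw [Submodule.mem_colon_singleton, Submodule.mem_bot, ← map_pow, algebraMap_smul] at hk
    refine ⟨k, ?_⟩
    have h1 : s ^ k • FlatCA.toFiberMod p S N m = 0 := by
      rw [← hm, smul_comm, hk, smul_zero]
    exact (smul_toFiberMod_eq_zero_iff p S N (s ^ k) m).mp h1
  · rintro ⟨k, hk⟩
    have h1 := (smul_toFiberMod_eq_zero_iff p S N (s ^ k) m).mpr hk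
    refine ⟨k, ?_⟩
    rw [Submodule.mem_colon_singleton, Submodule.mem_bot, ← map_pow, algebraMap_smul]
    apply smul_eq_zero_of_not_mem p S N hr₀
    rw [smul_comm, hm]
    exact h1

/-- Elementwise criterion for the extension of a prime over `p` to be an associated prime of the
fibre module. -/
theorem fiberIdeal_mem_ass_iff (q : Ideal S) [q.IsPrime] [q.LiesOver p] :
    FlatCA.fiberIdeal p q ∈ associatedPrimes (p.Fiber S) (FlatCA.fiberMod p S N) ↔
      ∃ m : N, ∀ s : S, s ∈ q ↔ ∃ k : ℕ, Z p S N m (s ^ k) := by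
  show (⊥ : Submodule (p.Fiber S) (FlatCA.fiberMod p S N)).IsAssociatedPrime _ ↔ _
  rw [Submodule.isAssociatedPrime_def]
  have hc := Groth.Agent.H99.PureBC.fiberIdeal_comap p q
  constructor
  · rintro ⟨-, x, hx⟩
    obtain ⟨r₀, hr₀, m, hm⟩ := exists_smul_eq_toFiberMod p S N x
    refine ⟨m, fun s => ?_⟩
    rw [← key p S N x r₀ hr₀ m hm s, ← hx]
    conv_lhs => rw [← hc]
    rfl
  · rintro ⟨m, hm⟩
    refine ⟨fiberIdeal_isPrime p S q, FlatCA.toFiberMod p S N m, ?_⟩
    apply Groth.Agent.S1200.fiberIdeal_eq_of_comap_eq p q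
    ext s
    rw [Ideal.mem_comap]
    have h1 : (1 : R) ∉ p := fun h => ‹p.IsPrime›.ne_top ((Ideal.eq_top_iff_one p).mpr h)
    have h2 := key p S N (FlatCA.toFiberMod p S N m) 1 h1 m (by rw [map_one, one_smul]) s
    exact h2.trans (hm s).symm

end F

section BC

variable {B B' C C' : Type u} [CommRing B] [CommRing B'] [CommRing C] [CommRing C']
  [Algebra B B'] [Algebra B C] [Algebra B C'] [Algebra C C'] [Algebra B' C']
  [IsScalarTower B C C'] [IsScalarTower B B' C'] [hpo : Algebra.IsPushout B B' C C']
  {N N' : Type u} [AddCommGroup N] [AddCommGroup N'] [Module B N] [Module C N]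
  [IsScalarTower B C N]
  [Module B N'] [Module C N'] [Module B' N'] [Module C' N'] [IsScalarTower B C N']
  [IsScalarTower B B' N'] [IsScalarTower C C' N'] [IsScalarTower B' C' N']

theorem isBaseChange_restrict (f : N →ₗ[C] N') (h : IsBaseChange C' f) :
    IsBaseChange B' (f.restrictScalars B) := by
  let cancel := Algebra.IsPushout.cancelBaseChange B B' C C' N
  let E : B' ⊗[B] N ≃ₗ[B'] N' := cancel.symm ≪≫ₗ (h.equiv.restrictScalars B')
  refine IsBaseChange.of_equiv E fun x => ?_
  simp [E, cancel, IsBaseChange.equiv_tmul]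

end BC

section Transfer

variable {A B C : Type u} [CommRing A] [CommRing B] [CommRing C] [Algebra A B] [Algebra B C]
  [Algebra A C] [IsScalarTower A B C]
  (N : Type u) [AddCommGroup N] [Module C N] [Module B N] [IsScalarTower B C N]
  (p : Ideal A) [p.IsPrime]
  (A' B' C' N' : Type u) [CommRing A'] [CommRing B'] [CommRing C'] [Algebra A A']
  [Algebra B B'] [Algebra A' B'] [Algebra A B'] [IsScalarTower A B B'] [IsScalarTower A A' B']
  [Algebra C C'] [Algebra A' C'] [Algebra A C'] [IsScalarTower A C C'] [IsScalarTower A A' C']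
  [Algebra B' C'] [Algebra B C'] [IsScalarTower A' B' C'] [IsScalarTower B B' C']
  [IsScalarTower B C C'] [IsScalarTower A B' C']
  [AddCommGroup N'] [Module C' N'] [Module C N'] [IsScalarTower C C' N'] [Module A' N']
  [IsScalarTower A' C' N'] [Module B' N'] [Module B N'] [IsScalarTower B' C' N']
  [IsScalarTower B B' N'] [IsScalarTower A' B' N'] [IsScalarTower B C N']
  (f : N →ₗ[C] N') (t' t : Ideal A') [t'.IsPrime] [t.IsPrime]

omit [IsScalarTower A B' C'] [IsScalarTower B C C'] [IsScalarTower B B' C'] in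
theorem Z_iff (m : N') (b : B') :
    Z t' B' N' m b ↔ Z t' C' N' m (algebraMap B' C' b) := by
  unfold Z
  refine exists_congr fun r => and_congr_right fun _ => ?_
  rw [mem_pN_iff, mem_pN_iff]
  have h : (algebraMap A' C' r * algebraMap B' C' b) • m = (algebraMap A' B' r * b) • m := by
    rw [IsScalarTower.algebraMap_apply A' B' C', ← map_mul, algebraMap_smul]
  rw [h]

theorem liesOver_comap (P : Ideal C') (I : Ideal A') [P.LiesOver I] :
    (P.comap (algebraMap B' C')).LiesOver I := by
  constructor
  rw [Ideal.under_def, Ideal.comap_comap, ← IsScalarTower.algebraMap_eq]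
  exact Ideal.LiesOver.over

theorem under_comap (P : Ideal C') :
    (P.comap (algebraMap B' C')).under A' = P.under A' := by
  rw [Ideal.under_def, Ideal.under_def, Ideal.comap_comap, ← IsScalarTower.algebraMap_eq]

/-- An impurity over `C` gives an impurity over `B`. -/
theorem impurity_B_of_C (hB : Algebra.IsPushout A B A' B')
    (hπ : Function.Surjective (algebraMap B' C'))
    (P : Ideal C') [P.IsPrime]
    (himp : FlatCA.IsImpurity A C N p A' C' N' f t' t P) :
    haveI : (P.comap (algebraMap B' C')).IsPrime := Ideal.comap_isPrime _ _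
    FlatCA.IsImpurity A B N p A' B' N' (f.restrictScalars B) t' t
      (P.comap (algebraMap B' C')) := by
  haveI hprime : (P.comap (algebraMap B' C')).IsPrime := Ideal.comap_isPrime _ _
  obtain ⟨hC, hbc, hle, hover, hPover, hass, hno⟩ := himp
  haveI := hPover
  haveI hBC' : Algebra.IsPushout B B' C C' :=
    ((Algebra.IsPushout.comp_iff A B A' B' (T := C) (T' := C')).mp hC).symm
  haveI hPBover : (P.comap (algebraMap B' C')).LiesOver t' := liesOver_comap A' B' C' P t'
  refine ⟨hB, isBaseChange_restrict f hbc, hle, hover, hPBover, ?_, ?_⟩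
  · obtain ⟨m, hm⟩ := (fiberIdeal_mem_ass_iff t' C' N' P).mp hass
    refine (fiberIdeal_mem_ass_iff t' B' N' (P.comap (algebraMap B' C'))).mpr ⟨m, fun b => ?_⟩
    rw [Ideal.mem_comap, hm]
    refine exists_congr fun k => ?_
    rw [Z_iff A' B' C' N' t', map_pow]
  · intro P' hP' hle' hover'
    have hker : RingHom.ker (algebraMap B' C') ≤ P' := by
      refine le_trans ?_ hle'
      intro x hx
      rw [Ideal.mem_comap, (RingHom.mem_ker).mp hx]
      exact zero_mem _
    haveI hP'C : (P'.map (algebraMap B' C')).IsPrime := Ideal.map_isPrime_of_surjective hπ hker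
    have hcm : (P'.map (algebraMap B' C')).comap (algebraMap B' C') = P' := by
      rw [Ideal.comap_map_of_surjective _ hπ]
      exact sup_eq_left.mpr hker
    refine hno (P'.map (algebraMap B' C')) ?_ ?_
    · rw [← Ideal.map_comap_of_surjective _ hπ P]
      exact Ideal.map_mono hle'
    · constructor
      rw [← under_comap A' B' C', hcm]
      exact hover'.over

/-- An impurity over `B` gives an impurity over `C`. -/
theorem impurity_C_of_B (hC : Algebra.IsPushout A C A' C')
    (hπ : Function.Surjective (algebraMap B' C'))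
    (hf : IsBaseChange C' f)
    (PB : Ideal B') [PB.IsPrime]
    (himp : FlatCA.IsImpurity A B N p A' B' N' (f.restrictScalars B) t' t PB) :
    ∃ (P : Ideal C') (_ : P.IsPrime), FlatCA.IsImpurity A C N p A' C' N' f t' t P := by
  obtain ⟨hB, -, hle, hover, hPover, hass, hno⟩ := himp
  haveI := hPover
  obtain ⟨m, hm⟩ := (fiberIdeal_mem_ass_iff t' B' N' PB).mp hass
  have hker : RingHom.ker (algebraMap B' C') ≤ PB := by
    intro b hb
    rw [hm]
    refine ⟨1, ?_⟩
    rw [pow_one, Z_iff A' B' C' N' t', (RingHom.mem_ker).mp hb]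
    refine ⟨1, fun h => ‹t'.IsPrime›.ne_top ((Ideal.eq_top_iff_one t').mpr h), ?_⟩
    rw [mul_zero, zero_smul]
    exact zero_mem _
  haveI hPC : (PB.map (algebraMap B' C')).IsPrime := Ideal.map_isPrime_of_surjective hπ hker
  have hcm : (PB.map (algebraMap B' C')).comap (algebraMap B' C') = PB := by
    rw [Ideal.comap_map_of_surjective _ hπ]
    exact sup_eq_left.mpr hker
  haveI hPCover : (PB.map (algebraMap B' C')).LiesOver t' := by
    constructor
    rw [← under_comap A' B' C', hcm]
    exact hPover.over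
  refine ⟨PB.map (algebraMap B' C'), hPC, hC, hf, hle, hover, hPCover, ?_, ?_⟩
  · refine (fiberIdeal_mem_ass_iff t' C' N' (PB.map (algebraMap B' C'))).mpr ⟨m, fun c => ?_⟩
    obtain ⟨b, rfl⟩ := hπ c
    rw [← Ideal.mem_comap, hcm, hm]
    refine exists_congr fun k => ?_
    rw [Z_iff A' B' C' N' t', map_pow]
  · intro P' hP' hle' hover'
    haveI : (P'.comap (algebraMap B' C')).IsPrime := Ideal.comap_isPrime _ _
    refine hno (P'.comap (algebraMap B' C')) ?_ (liesOver_comap A' B' C' P' t)
    rw [← hcm]
    exact Ideal.comap_mono hle'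

end Transfer

section Construct

variable {A B C : Type u} [CommRing A] [CommRing B] [CommRing C] [Algebra A B] [Algebra B C]
  [Algebra A C] [IsScalarTower A B C]

/-- The comparison map between the pushouts of `B` and `C`, packaged as opaque instances. -/
theorem exists_algebra_pushout (hBC : Function.Surjective (algebraMap B C))
    (A' B' C' : Type u) [CommRing A'] [CommRing B'] [CommRing C'] [Algebra A A']
    [Algebra B B'] [Algebra A' B'] [Algebra A B'] [IsScalarTower A B B'] [IsScalarTower A A' B']
    [Algebra C C'] [Algebra A' C'] [Algebra A C'] [IsScalarTower A C C'] [IsScalarTower A A' C']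
    (hB : Algebra.IsPushout A B A' B') (hC : Algebra.IsPushout A C A' C') :
    ∃ (_ : Algebra B' C') (_ : Algebra B C'), IsScalarTower A' B' C' ∧ IsScalarTower B B' C' ∧
      IsScalarTower B C C' ∧ IsScalarTower A B' C' ∧ Function.Surjective (algebraMap B' C') := by
  let fB : B →ₐ[A] C' := (IsScalarTower.toAlgHom A C C').comp (IsScalarTower.toAlgHom A B C)
  let g : A' →ₐ[A] C' := IsScalarTower.toAlgHom A A' C'
  let π : B' →ₐ[A] C' := Algebra.pushoutDesc B' fB g (fun _ _ => mul_comm _ _)
  letI a1 : Algebra B' C' := π.toRingHom.toAlgebra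
  letI a2 : Algebra B C' := ((algebraMap C C').comp (algebraMap B C)).toAlgebra
  have hl : ∀ b, π (algebraMap B B' b) = algebraMap C C' (algebraMap B C b) :=
    fun b => Algebra.pushoutDesc_left B' fB g _ b
  have hr : ∀ a, π (algebraMap A' B' a) = algebraMap A' C' a :=
    fun a => Algebra.pushoutDesc_right B' fB g _ a
  refine ⟨a1, a2, .of_algebraMap_eq fun a => (hr a).symm, .of_algebraMap_eq fun b => (hl b).symm,
    .of_algebraMap_eq fun _ => rfl, .of_algebraMap_eq fun a => (π.commutes a).symm, ?_⟩
  intro x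
  refine hC.out.inductionOn x _ ⟨0, map_zero _⟩ (fun a => ⟨algebraMap A' B' a, hr a⟩) ?_ ?_
  · rintro c x ⟨y, rfl⟩
    obtain ⟨b, rfl⟩ := hBC c
    refine ⟨algebraMap B B' b * y, ?_⟩
    show π (algebraMap B B' b * y) = algebraMap B C b • π y
    rw [map_mul, hl, Algebra.smul_def]
  · rintro x y ⟨x', rfl⟩ ⟨y', rfl⟩
    exact ⟨x' + y', map_add _ _ _⟩

variable (N : Type u) [AddCommGroup N] [Module C N] [Module B N] [IsScalarTower B C N]
  (p : Ideal A) [p.IsPrime]

/-- An impurity of `N` over `C` induces an impurity of `N` over `B`, over the same base change. -/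
theorem exists_impurity_B (hBC : Function.Surjective (algebraMap B C))
    (A' C' N' : Type u) [CommRing A'] [CommRing C'] [Algebra A A']
    [Algebra C C'] [Algebra A' C'] [Algebra A C'] [IsScalarTower A C C'] [IsScalarTower A A' C']
    [AddCommGroup N'] [Module C' N'] [Module C N'] [IsScalarTower C C' N'] [Module A' N']
    [IsScalarTower A' C' N'] (f : N →ₗ[C] N') (t' t : Ideal A') [t'.IsPrime] [t.IsPrime]
    (P : Ideal C') [P.IsPrime]
    (himp : FlatCA.IsImpurity A C N p A' C' N' f t' t P) :
    ∃ (B' : Type u) (_ : CommRing B') (_ : Algebra B B') (_ : Algebra A' B') (_ : Algebra A B')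
      (_ : IsScalarTower A B B') (_ : IsScalarTower A A' B') (_ : Module B' N') (_ : Module B N')
      (_ : IsScalarTower B B' N') (_ : IsScalarTower A' B' N') (fB : N →ₗ[B] N') (PB : Ideal B')
      (_ : PB.IsPrime), FlatCA.IsImpurity A B N p A' B' N' fB t' t PB := by
  obtain ⟨B', i1, i2, i3, i4, i5, i6, hB⟩ :=
    Groth.Agent.H99.PureBC.exists_pushout_ring A B A'
  have hC : Algebra.IsPushout A C A' C' := himp.1
  obtain ⟨a1, a2, s1, s2, s3, s4, hπ⟩ := exists_algebra_pushout hBC A' B' C' hB hC
  letI mB' : Module B' N' := Module.compHom N' (algebraMap B' C')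
  haveI tB'C' : IsScalarTower B' C' N' := IsScalarTower.of_algebraMap_smul fun _ _ => rfl
  letI mB : Module B N' := Module.compHom N' (algebraMap B C)
  haveI tBC : IsScalarTower B C N' := IsScalarTower.of_algebraMap_smul fun _ _ => rfl
  haveI tBB' : IsScalarTower B B' N' := IsScalarTower.of_algebraMap_smul fun b n => by
    show algebraMap B' C' (algebraMap B B' b) • n = algebraMap B C b • n
    rw [← IsScalarTower.algebraMap_apply B B' C', IsScalarTower.algebraMap_apply B C C',
      algebraMap_smul]
  haveI tA'B' : IsScalarTower A' B' N' := IsScalarTower.of_algebraMap_smul fun a n => by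
    show algebraMap B' C' (algebraMap A' B' a) • n = a • n
    rw [← IsScalarTower.algebraMap_apply A' B' C', algebraMap_smul]
  haveI : (P.comap (algebraMap B' C')).IsPrime := Ideal.comap_isPrime _ _
  exact ⟨B', i1, i2, i3, i4, i5, i6, mB', mB, tBB', tA'B', f.restrictScalars B,
    P.comap (algebraMap B' C'), inferInstance,
    impurity_B_of_C N p A' B' C' N' f t' t hB hπ P himp⟩

/-- Replacing the base-changed module in an impurity by another base change. -/
theorem impurity_congr
    (A' B' N' : Type u) [CommRing A'] [CommRing B'] [Algebra A A']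
    [Algebra B B'] [Algebra A' B'] [Algebra A B'] [IsScalarTower A B B'] [IsScalarTower A A' B']
    [AddCommGroup N'] [Module B' N'] [Module B N'] [IsScalarTower B B' N'] [Module A' N']
    [IsScalarTower A' B' N'] (f : N →ₗ[B] N') (t' t : Ideal A') [t'.IsPrime] [t.IsPrime]
    (P : Ideal B') [P.IsPrime]
    (himp : FlatCA.IsImpurity A B N p A' B' N' f t' t P)
    (N₂ : Type u) [AddCommGroup N₂] [Module B' N₂] [Module B N₂] [IsScalarTower B B' N₂]
    [Module A' N₂] [IsScalarTower A' B' N₂] (f₂ : N →ₗ[B] N₂) (hf₂ : IsBaseChange B' f₂) :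
    FlatCA.IsImpurity A B N p A' B' N₂ f₂ t' t P := by
  obtain ⟨hpo, hbc, hle, hover, hPover, hass, hno⟩ := himp
  refine ⟨hpo, hf₂, hle, hover, hPover, ?_, hno⟩
  let e : N' ≃ₗ[B'] N₂ := hbc.equiv.symm ≪≫ₗ hf₂.equiv
  let E : (t'.Fiber B') ⊗[B'] N' ≃ₗ[t'.Fiber B'] (t'.Fiber B') ⊗[B'] N₂ :=
    TensorProduct.AlgebraTensorModule.congr (LinearEquiv.refl _ _) e
  have hE := LinearEquiv.AssociatedPrimes.eq E
  exact hE ▸ hass

/-- An impurity of `N` over `B` induces an impurity of `N` over `C`, over the same base change. -/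
theorem exists_impurity_C (hBC : Function.Surjective (algebraMap B C))
    (A' B' N' : Type u) [CommRing A'] [CommRing B'] [Algebra A A']
    [Algebra B B'] [Algebra A' B'] [Algebra A B'] [IsScalarTower A B B'] [IsScalarTower A A' B']
    [AddCommGroup N'] [Module B' N'] [Module B N'] [IsScalarTower B B' N'] [Module A' N']
    [IsScalarTower A' B' N'] (f : N →ₗ[B] N') (t' t : Ideal A') [t'.IsPrime] [t.IsPrime]
    (P : Ideal B') [P.IsPrime]
    (himp : FlatCA.IsImpurity A B N p A' B' N' f t' t P) :
    ∃ (C' N₂ : Type u) (_ : CommRing C') (_ : Algebra C C') (_ : Algebra A' C')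
      (_ : Algebra A C') (_ : IsScalarTower A C C') (_ : IsScalarTower A A' C')
      (_ : AddCommGroup N₂) (_ : Module C' N₂) (_ : Module C N₂) (_ : IsScalarTower C C' N₂)
      (_ : Module A' N₂) (_ : IsScalarTower A' C' N₂) (fC : N →ₗ[C] N₂) (PC : Ideal C')
      (_ : PC.IsPrime), FlatCA.IsImpurity A C N p A' C' N₂ fC t' t PC := by
  obtain ⟨C', i1, i2, i3, i4, i5, i6, hC⟩ :=
    Groth.Agent.H99.PureBC.exists_pushout_ring A C A'
  have hB : Algebra.IsPushout A B A' B' := himp.1
  obtain ⟨a1, a2, s1, s2, s3, s4, hπ⟩ := exists_algebra_pushout hBC A' B' C' hB hC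
  obtain ⟨N₂, g1, g2, g3, g4, fC, hfC⟩ :=
    Groth.Agent.H99.PureBC.exists_baseChange_module C C' N
  letI mB' : Module B' N₂ := Module.compHom N₂ (algebraMap B' C')
  haveI tB'C' : IsScalarTower B' C' N₂ := IsScalarTower.of_algebraMap_smul fun _ _ => rfl
  letI mB : Module B N₂ := Module.compHom N₂ (algebraMap B C)
  haveI tBC : IsScalarTower B C N₂ := IsScalarTower.of_algebraMap_smul fun _ _ => rfl
  letI mA' : Module A' N₂ := Module.compHom N₂ (algebraMap A' C')
  haveI tA'C' : IsScalarTower A' C' N₂ := IsScalarTower.of_algebraMap_smul fun _ _ => rfl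
  haveI tBB' : IsScalarTower B B' N₂ := IsScalarTower.of_algebraMap_smul fun b n => by
    show algebraMap B' C' (algebraMap B B' b) • n = algebraMap B C b • n
    rw [← IsScalarTower.algebraMap_apply B B' C', IsScalarTower.algebraMap_apply B C C',
      algebraMap_smul]
  haveI tA'B' : IsScalarTower A' B' N₂ := IsScalarTower.of_algebraMap_smul fun a n => by
    show algebraMap B' C' (algebraMap A' B' a) • n = algebraMap A' C' a • n
    rw [← IsScalarTower.algebraMap_apply A' B' C']
  haveI hBC' : Algebra.IsPushout B B' C C' :=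
    ((Algebra.IsPushout.comp_iff A B A' B' (T := C) (T' := C')).mp hC).symm
  have hfB : IsBaseChange B' (fC.restrictScalars B) := isBaseChange_restrict fC hfC
  have himp2 : FlatCA.IsImpurity A B N p A' B' N₂ (fC.restrictScalars B) t' t P :=
    impurity_congr N p A' B' N' f t' t P himp N₂ (fC.restrictScalars B) hfB
  obtain ⟨PC, hPC, himpC⟩ := impurity_C_of_B N p A' B' C' N₂ fC t' t hC hπ hfC P himp2
  exact ⟨C', N₂, i1, i2, i3, i4, i5, i6, g1, g2, g3, g4, mA', tA'C', fC, PC, hPC, himpC⟩

end Construct

end Groth.Agent.H20.PureSurj
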