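import Mathlib.Algebra.Category.Ring.Constructions
import Mathlib.AlgebraicGeometry.Pullbacks
import Mathlib.RingTheory.Ideal.Maps

set_option autoImplicit false
universe u

namespace Groth.Agent.H20

open CategoryTheory CategoryTheory.Limits AlgebraicGeometry

/-- A commutative square of commutative rings with both `g` and `inl` surjective and
`ker inl ≤ (ker g).map f` is a pushout square. -/
theorem isPushout_of_surjective {R S R' S' : Type u} [CommRing R] [CommRing S] [CommRing R']
    [CommRing S'] (f : R →+* S) (g : R →+* R') (inl : S →+* S') (inr : R' →+* S')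
    (hcomm : inl.comp f = inr.comp g) (hg : Function.Surjective g)
    (hinl : Function.Surjective inl) (hker : RingHom.ker inl ≤ (RingHom.ker g).map f) :
    IsPushout (CommRingCat.ofHom f) (CommRingCat.ofHom g) (CommRingCat.ofHom inl)
      (CommRingCat.ofHom inr) := by
  have hcond : ∀ (s : PushoutCocone (CommRingCat.ofHom f) (CommRingCat.ofHom g)) (r : R),
      s.inl.hom (f r) = s.inr.hom (g r) := fun s r =>
    congrArg (fun k => k.hom r) s.condition
  have hk : ∀ (s : PushoutCocone (CommRingCat.ofHom f) (CommRingCat.ofHom g)),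
      RingHom.ker inl ≤ RingHom.ker s.inl.hom := by
    intro s
    refine hker.trans ?_
    rw [Ideal.map_le_iff_le_comap]
    intro r hr
    rw [Ideal.mem_comap, RingHom.mem_ker, hcond s r, (RingHom.mem_ker).1 hr, map_zero]
  refine ⟨⟨?_⟩, ⟨PushoutCocone.IsColimit.mk _
    (fun s => CommRingCat.ofHom (inl.liftOfSurjective hinl ⟨s.inl.hom, hk s⟩)) ?_ ?_ ?_⟩⟩
  · ext r
    exact congrArg (fun k => k r) hcomm
  · intro s
    ext x
    exact inl.liftOfSurjective_comp_apply hinl ⟨s.inl.hom, hk s⟩ x
  · intro s
    ext x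
    obtain ⟨r, rfl⟩ := hg x
    have h1 : inr (g r) = inl (f r) := (congrArg (fun k => k r) hcomm).symm
    change (inl.liftOfSurjective hinl ⟨s.inl.hom, hk s⟩) (inr (g r)) = s.inr.hom (g r)
    rw [h1, inl.liftOfSurjective_comp_apply hinl ⟨s.inl.hom, hk s⟩ (f r)]
    exact hcond s r
  · intro s m h1 _
    ext x
    obtain ⟨y, rfl⟩ := hinl x
    change m.hom (inl y) = (inl.liftOfSurjective hinl ⟨s.inl.hom, hk s⟩) (inl y)
    rw [inl.liftOfSurjective_comp_apply hinl ⟨s.inl.hom, hk s⟩ y]
    exact congrArg (fun k => k.hom y) h1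

/-- In a pushout square of commutative rings with `g` surjective, the kernel of `inl` is the
extension of the kernel of `g`. -/
theorem ker_inl_of_isPushout {R S R' S' : Type u} [CommRing R] [CommRing S] [CommRing R']
    [CommRing S'] (f : R →+* S) (g : R →+* R') (inl : S →+* S') (inr : R' →+* S')
    (hg : Function.Surjective g)
    (h : IsPushout (CommRingCat.ofHom f) (CommRingCat.ofHom g) (CommRingCat.ofHom inl)
      (CommRingCat.ofHom inr)) :
    RingHom.ker inl = (RingHom.ker g).map f := by
  have hcomm : ∀ r, inl (f r) = inr (g r) := fun r =>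
    congrArg (fun k => k.hom r) h.w
  apply le_antisymm
  · set J := (RingHom.ker g).map f with hJ
    have hkJ : RingHom.ker g ≤ RingHom.ker ((Ideal.Quotient.mk J).comp f) := by
      intro r hr
      rw [RingHom.mem_ker, RingHom.comp_apply, Ideal.Quotient.eq_zero_iff_mem]
      exact Ideal.mem_map_of_mem f hr
    let inr' : R' →+* S ⧸ J := g.liftOfSurjective hg ⟨(Ideal.Quotient.mk J).comp f, hkJ⟩
    have hw : CommRingCat.ofHom f ≫ CommRingCat.ofHom (Ideal.Quotient.mk J) =
        CommRingCat.ofHom g ≫ CommRingCat.ofHom inr' := by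
      ext r
      exact (g.liftOfSurjective_comp_apply hg ⟨(Ideal.Quotient.mk J).comp f, hkJ⟩ r).symm
    let d := h.desc (CommRingCat.ofHom (Ideal.Quotient.mk J)) (CommRingCat.ofHom inr') hw
    have hd : ∀ s, d.hom (inl s) = Ideal.Quotient.mk J s := fun s =>
      congrArg (fun k => k.hom s)
        (h.inl_desc (CommRingCat.ofHom (Ideal.Quotient.mk J)) (CommRingCat.ofHom inr') hw)
    intro s hs
    have : Ideal.Quotient.mk J s = 0 := by
      rw [← hd s, (RingHom.mem_ker).1 hs, map_zero]
    exact Ideal.Quotient.eq_zero_iff_mem.1 this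
  · rw [Ideal.map_le_iff_le_comap]
    intro r hr
    rw [Ideal.mem_comap, RingHom.mem_ker, hcomm r, (RingHom.mem_ker).1 hr, map_zero]

/-- A cartesian square of spectra comes from a cocartesian square of rings. -/
theorem isPushout_of_isPullback_SpecMap {A B C P : CommRingCat.{u}} (f : A ⟶ B) (g : A ⟶ C)
    (inl : B ⟶ P) (inr : C ⟶ P)
    (h : IsPullback (Spec.map inl) (Spec.map inr) (Spec.map f) (Spec.map g)) :
    IsPushout f g inl inr := by
  have e : inl.op ≫ f.op = inr.op ≫ g.op := by
    have := h.w
    rw [← Spec.map_comp, ← Spec.map_comp] at this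
    have h2 := Spec.map_injective this
    rw [← op_comp, ← op_comp, h2]
  have h' : IsPullback inl.op inr.op f.op g.op := IsPullback.of_map Scheme.Spec e h
  exact h'.unop.flip

end Groth.Agent.H20
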