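import Mathlib
import Groth.Prelude.Def_EtModW
import Groth.Prelude.Def_ARSys
import Groth.Prelude.Def_EtModD2
import Groth.Agent.H4.StalkConst
import Groth.Agent.H4.GeomPoints

/-!
# Stalks of finite type locally constant sheaves of `Λ`-modules are finite (piece (B) of S13613)
-/

set_option autoImplicit false
set_option linter.style.haveILetI false
universe u
open CategoryTheory CategoryTheory.Limits AlgebraicGeometry Opposite GrothendieckTopology

namespace Groth.Agent.H20.StalkAR_B

theorem preservesFilteredColimits_forget (Λ : Type (u + 1)) [CommRing Λ] :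
    PreservesFilteredColimitsOfSize.{u, u} (forget (ModuleCat.{u + 1} Λ)) :=
  preservesFilteredColimitsOfSize_shrink.{u, u + 1, u, u + 1} _

theorem hasProducts_moduleCat (Λ : Type (u + 1)) [CommRing Λ] :
    HasProducts.{u} (ModuleCat.{u + 1} Λ) := by
  haveI : HasLimitsOfSize.{u, u} (ModuleCat.{u + 1} Λ) :=
    hasLimitsOfSizeShrink.{u, u, u + 1, u + 1} (ModuleCat.{u + 1} Λ)
  infer_instance

attribute [local instance] preservesFilteredColimits_forget hasProducts_moduleCat

section overSite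

variable {Λ : Type (u + 1)} [CommRing Λ]
variable {C : Type*} [Category C] {J : GrothendieckTopology C} [LocallySmall.{u} C]
  (Φ : Point.{u} J) {X : C} (x : Φ.fiber.obj X) (P : Cᵒᵖ ⥤ ModuleCat.{u + 1} Λ)

/-- The comparison map from the stalk of the restriction to the over site (module version of
`Groth.Agent.H4.overStalkMap`). -/
noncomputable def overStalkMap :
    (Φ.over x).presheafFiber.obj ((Over.forget X).op ⋙ P) ⟶ Φ.presheafFiber.obj P :=
  (Φ.over x).presheafFiberDesc (fun Y y => Φ.toPresheafFiber Y.left y.1 P) (by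
    intro Y' Y g y'
    exact Φ.toPresheafFiber_w g.left y'.1 P)

theorem overStalkMap_germ (Y : Over X) (y : (Φ.over x).fiber.obj Y)
    (z : ((Over.forget X).op ⋙ P).obj (op Y)) :
    overStalkMap Φ x P ((Φ.over x).toPresheafFiber Y y ((Over.forget X).op ⋙ P) z) =
      Φ.toPresheafFiber Y.left y.1 P z :=
  ConcreteCategory.congr_hom
    (Point.toPresheafFiber_presheafFiberDesc (Φ.over x) _ _ Y y) z

theorem overStalkMap_bijective : Function.Bijective (overStalkMap Φ x P) := by
  constructor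
  · intro q1 q2 h
    obtain ⟨Y, y, z1, z2, rfl, rfl⟩ := (Φ.over x).toPresheafFiber_jointly_surjective₂ q1 q2
    rw [overStalkMap_germ, overStalkMap_germ] at h
    obtain ⟨W, g, w, hw, hg⟩ := (Φ.toPresheafFiber_eq_iff' Y.left y.1 z1 z2).1 h
    have hmem : Φ.fiber.map (g ≫ Y.hom) w = x := by
      rw [Functor.map_comp]
      have : Φ.fiber.map Y.hom (Φ.fiber.map g w) = x := by
        rw [hw]
        exact y.2
      exact this
    refine ((Φ.over x).toPresheafFiber_eq_iff' Y y z1 z2).2
      ⟨Over.mk (g ≫ Y.hom), Over.homMk g rfl, ⟨w, hmem⟩, Subtype.ext hw, hg⟩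
  · intro p
    obtain ⟨Y, y, z, rfl⟩ := Φ.toPresheafFiber_jointly_surjective p
    let E1 : Φ.fiber.Elements := ⟨Y, y⟩
    let E2 : Φ.fiber.Elements := ⟨X, x⟩
    let W := (IsCofiltered.min E1 E2).1
    let w : Φ.fiber.obj W := (IsCofiltered.min E1 E2).2
    let a : W ⟶ Y := (IsCofiltered.minToLeft E1 E2).1
    let b : W ⟶ X := (IsCofiltered.minToRight E1 E2).1
    have ha : Φ.fiber.map a w = y := (IsCofiltered.minToLeft E1 E2).2
    have hb : Φ.fiber.map b w = x := (IsCofiltered.minToRight E1 E2).2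
    refine ⟨(Φ.over x).toPresheafFiber (Over.mk b) ⟨w, hb⟩ ((Over.forget X).op ⋙ P)
      (P.map a.op z), ?_⟩
    rw [overStalkMap_germ]
    have h1 := Φ.toPresheafFiber_w_apply a w P z
    rw [ha] at h1
    exact h1

theorem isIso_overStalkMap : IsIso (overStalkMap Φ x P) :=
  (ConcreteCategory.isIso_iff_bijective _).2 (overStalkMap_bijective Φ x P)

/-- The stalk of `F` restricted to the over site is the stalk of `F`. -/
noncomputable def overStalkIso (F : Sheaf J (ModuleCat.{u + 1} Λ)) :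
    (Φ.over x).sheafFiber.obj (F.over X) ≅ Φ.sheafFiber.obj F :=
  @asIso _ _ _ _ (overStalkMap Φ x F.obj) (isIso_overStalkMap Φ x F.obj)

end overSite

/-- (B) -/
theorem finite_stalk_of_isFTLocConst (Λ : Type (u + 1)) [CommRing Λ] {T : Scheme.{u}}
    (F : EtModW.Mod Λ T) (hF : EtModW.IsFTLocConst Λ F)
    {Ω : Type u} [Field Ω] [IsSepClosed Ω] (ξ : Spec (CommRingCat.of Ω) ⟶ T) :
    Module.Finite Λ ((EtModW.stalk Λ ξ).obj F) := by
  obtain ⟨ι, U, hcov, hU⟩ := hF
  obtain ⟨i, y, hy⟩ := hcov (ξ.base (default : Spec (CommRingCat.of Ω)))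
  obtain ⟨M, _, _, hfin, ⟨e⟩⟩ := hU i
  -- lift the geometric point to `U i`
  obtain ⟨l, hl1, hl2⟩ := Scheme.exists_fac_of_etale_of_isSepClosed (U i).hom ξ y hy
  let w : (Scheme.pointSmallEtale ξ).fiber.obj (U i) := Over.homMk l hl1
  let e1 := overStalkIso (Λ := Λ) (Scheme.pointSmallEtale ξ) w F
  let e2 := ((Scheme.pointSmallEtale ξ).over w).sheafFiber.mapIso e
  let e3 := Groth.Agent.H4.stalkConstIso ((Scheme.pointSmallEtale ξ).over w)
    (A := ModuleCat.{u + 1} Λ) (ModuleCat.of Λ M)
  let E : (EtModW.stalk Λ ξ).obj F ≅ ModuleCat.of Λ M := e1.symm ≪≫ e2 ≪≫ e3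
  exact Module.Finite.equiv E.toLinearEquiv.symm

end Groth.Agent.H20.StalkAR_B
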