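import Mathlib
import Groth.Prelude.Def_GrTwist
import Groth.Agent.H18.Veronese
import Groth.Agent.H41.GrModQCoh

/-!
# Piece (EQ) for helper88's S9577: an isomorphism satisfying the chart conditions is `vMap`.
-/

set_option autoImplicit false
universe u
open CategoryTheory CategoryTheory.Limits AlgebraicGeometry Opposite TopologicalSpace
open Groth.Agent.H18.Veronese

namespace Groth.Agent.H20.VerTw_EQ

variable {R A B : Type u} [CommRing R] [CommRing A] [Algebra R A] {𝒜 : ℕ → Submodule R A}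
  [GradedAlgebra 𝒜] [CommRing B] [Algebra R B] {ℬ : ℕ → Submodule R B} [GradedAlgebra ℬ]
  {d : ℕ} (hd : 0 < d) (φ : B →ₐ[R] A)
  (hdeg : ∀ n : ℕ, Submodule.map φ.toLinearMap (ℬ n) = 𝒜 (n * d))

/-- (EQ) an isomorphism satisfying the chart conditions of S9577 is helper18's `vMap`. -/
theorem eq_vMap (e : Proj 𝒜 ≅ Proj ℬ)
    (he : ∀ (n : ℕ) (g : B) (hn : 0 < n) (hg : g ∈ ℬ n)
        (θ : CommRingCat.of (HomogeneousLocalization.Away ℬ g) ⟶
          CommRingCat.of (HomogeneousLocalization.Away 𝒜 (φ g))),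
        (algebraMap (HomogeneousLocalization.Away 𝒜 (φ g)) (Localization.Away (φ g))).comp θ.hom =
          (Localization.awayMap φ.toRingHom g).comp
            (algebraMap (HomogeneousLocalization.Away ℬ g) (Localization.Away g)) →
        Proj.awayι 𝒜 (φ g) ((hdeg n).le (Submodule.mem_map_of_mem hg)) (Nat.mul_pos hn hd) ≫ e.hom =
          Spec.map θ ≫ Proj.awayι ℬ g hg hn) :
    e.hom = vMap φ hdeg hd := by
  apply Scheme.Cover.hom_ext (vCover φ hdeg hd)
  intro s
  have h1 := awayι_vMap φ hdeg hd s.1.2 s.2.2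
  have h2 := he s.1 s.2.1 s.1.2 s.2.2 (CommRingCat.ofHom (vAway φ hdeg ⟨_, s.2.2⟩)) (by
    refine RingHom.ext fun z => ?_
    rw [RingHom.comp_apply, RingHom.comp_apply, HomogeneousLocalization.algebraMap_apply,
      HomogeneousLocalization.algebraMap_apply]
    exact val_vAway φ hdeg ⟨_, s.2.2⟩ z)
  exact h2.trans h1.symm

end Groth.Agent.H20.VerTw_EQ
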