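import Mathlib
import Groth.Prelude.Def_GrTwist
import Groth.Agent.H18.Veronese
import Groth.Agent.H41.GrModQCoh
import Groth.Agent.H88.PConeSections

/-!
# Piece (O') for helper88's S9577: `vMap` on sections over `D₊(g)`, in terms of `vAway`.
-/

set_option autoImplicit false
universe u
open CategoryTheory CategoryTheory.Limits AlgebraicGeometry Opposite TopologicalSpace
open Groth.Agent.H18.Veronese

namespace Groth.Agent.H20.VerTw_OP

section General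

variable {R A : Type u} [CommRing R] [CommRing A] [Algebra R A] (𝒜 : ℕ → Submodule R A)
  [GradedAlgebra 𝒜]

/-- `D₊(f) → Spec A_(f) → Proj` is the inclusion. -/
theorem toSpecΓ_awayToSection_awayι {m : ℕ} {f : A} (hf : f ∈ 𝒜 m) (hm : 0 < m) :
    (Proj.basicOpen 𝒜 f).toSpecΓ ≫ Spec.map (Proj.awayToSection 𝒜 f) ≫ Proj.awayι 𝒜 f hf hm =
      (Proj.basicOpen 𝒜 f).ι := by
  rw [← Category.assoc]
  show Proj.basicOpenToSpec 𝒜 f ≫ _ = _
  rw [← Proj.basicOpenIsoSpec_hom 𝒜 f hf hm, ← Proj.basicOpenIsoSpec_inv_ι, Iso.hom_inv_id_assoc]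

end General

variable {R A B : Type u} [CommRing R] [CommRing A] [Algebra R A] {𝒜 : ℕ → Submodule R A}
  [GradedAlgebra 𝒜] [CommRing B] [Algebra R B] {ℬ : ℕ → Submodule R B} [GradedAlgebra ℬ]
  {d : ℕ} (hd : 0 < d) (φ : B →ₐ[R] A)
  (hdeg : ∀ n : ℕ, Submodule.map φ.toLinearMap (ℬ n) = 𝒜 (n * d))

/-- (O') `vMap` on sections over `D₊(g)`, in terms of `vAway`. -/
theorem awayToSection_comp_appLE_vMap {n : ℕ} {g : B} (hn : 0 < n) (hg : g ∈ ℬ n)
    (hle : Proj.basicOpen 𝒜 (φ g) ≤ vMap φ hdeg hd ⁻¹ᵁ Proj.basicOpen ℬ g) :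
    Proj.awayToSection ℬ g ≫ (vMap φ hdeg hd).appLE (Proj.basicOpen ℬ g) (Proj.basicOpen 𝒜 (φ g)) hle =
      CommRingCat.ofHom (vAway φ hdeg ⟨n, hg⟩) ≫ Proj.awayToSection 𝒜 (φ g) := by
  apply Groth.Agent.H18.ProjUPUniq.toSpecΓ_map_injective (Proj.basicOpen 𝒜 (φ g))
  rw [← cancel_mono (Proj.awayι ℬ g hg hn)]
  have h1 := Groth.Agent.H88.PConeSections.restrict_eq_lift' ℬ (vMap φ hdeg hd) hg hn
    (Proj.basicOpen 𝒜 (φ g)) hle
  calc ((Proj.basicOpen 𝒜 (φ g)).toSpecΓ ≫ Spec.map (Proj.awayToSection ℬ g ≫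
          (vMap φ hdeg hd).appLE (Proj.basicOpen ℬ g) (Proj.basicOpen 𝒜 (φ g)) hle)) ≫
          Proj.awayι ℬ g hg hn
      = (Proj.basicOpen 𝒜 (φ g)).ι ≫ vMap φ hdeg hd := by
        rw [Category.assoc]; exact h1.symm
    _ = ((Proj.basicOpen 𝒜 (φ g)).toSpecΓ ≫ Spec.map (Proj.awayToSection 𝒜 (φ g)) ≫
          Proj.awayι 𝒜 (φ g) (phi_mem φ hdeg hg) (Nat.mul_pos hn hd)) ≫ vMap φ hdeg hd := by
        rw [toSpecΓ_awayToSection_awayι]
    _ = _ := by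
        rw [Category.assoc, Category.assoc, awayι_vMap φ hdeg hd hn hg]
        simp only [Spec.map_comp, Category.assoc]

end Groth.Agent.H20.VerTw_OP
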