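import Mathlib

/-!
# Degree of the `p^e`-Frobenius on a purely transcendental extension of a perfect field
(piece (C) of (PB) for the S15454/S15455/S15456 squad), plus a small `deg` API.
-/

set_option autoImplicit false
set_option linter.style.haveILetI false
set_option linter.unusedSectionVars false
universe u

namespace Groth.Agent.H20.WF_PBC

open MvPolynomial

/-- degree of a ring hom of fields: the dimension of the target over the source -/
noncomputable def deg {A B : Type*} [Field A] [Field B] (f : A →+* B) : ℕ :=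
  @Module.finrank A B _ _ f.toAlgebra.toModule

theorem deg_comp {A B C : Type*} [Field A] [Field B] [Field C] (f : A →+* B) (g : B →+* C) :
    deg (g.comp f) = deg f * deg g := by
  letI := f.toAlgebra
  letI := g.toAlgebra
  letI := (g.comp f).toAlgebra
  haveI : IsScalarTower A B C := IsScalarTower.of_algebraMap_eq fun _ => rfl
  exact (Module.finrank_mul_finrank A B C).symm

theorem deg_of_bijective {A B : Type*} [Field A] [Field B] (f : A →+* B)
    (hf : Function.Bijective f) : deg f = 1 := by
  letI := f.toAlgebra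
  let e : A ≃ₗ[A] B := LinearEquiv.ofBijective (Algebra.linearMap A B) hf
  show Module.finrank A B = 1
  rw [← e.finrank_eq, Module.finrank_self]

/-- abstract basis criterion -/
theorem deg_eq_card {E L : Type*} [Field E] [Field L] (ρ : E →+* L) {κ : Type*} [Fintype κ]
    (b : κ → L) (hS : ∀ t : L, ∃ c : κ → E, t = ∑ a, ρ (c a) * b a)
    (hI : ∀ c : κ → E, ∑ a, ρ (c a) * b a = 0 → ∀ a, c a = 0) :
    deg ρ = Fintype.card κ := by
  letI := ρ.toAlgebra
  have hsmul : ∀ (c : E) (x : L), c • x = ρ c * x := fun c x => by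
    rw [Algebra.smul_def]; rfl
  have hli : LinearIndependent E b := by
    rw [Fintype.linearIndependent_iff]
    intro g hg
    apply hI g
    simpa only [hsmul] using hg
  have hsp : ⊤ ≤ Submodule.span E (Set.range b) := by
    intro t _
    obtain ⟨c, rfl⟩ := hS t
    refine Submodule.sum_mem _ fun a _ => ?_
    rw [← hsmul]
    exact Submodule.smul_mem _ _ (Submodule.subset_span ⟨a, rfl⟩)
  exact Module.finrank_eq_card_basis (Module.Basis.mk hli hsp)

section Poly

variable (k : Type u) [Field k] (p : ℕ) [Fact p.Prime] [CharP k p] (ι : Type u) [Fintype ι]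
  [DecidableEq ι] (e : ℕ)

/-- exponent vector of `a` -/
noncomputable def v {q : ℕ} (a : ι → Fin q) : ι →₀ ℕ :=
  Finsupp.equivFunOnFinite.symm (fun i => (a i : ℕ))

theorem v_apply {q : ℕ} (a : ι → Fin q) (i : ι) : v ι a i = (a i : ℕ) := rfl

theorem pow_eq_expand [ExpChar k p] (g : MvPolynomial ι k) :
    g ^ (p ^ e) = expand (p ^ e) (map (iterateFrobenius k p e) g) := by
  induction g using MvPolynomial.induction_on with
  | C r => rw [map_C, expand_C, iterateFrobenius_def, C_pow]
  | add f g hf hg => rw [add_pow_expChar_pow, hf, hg, map_add, map_add]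
  | mul_X f i hf => rw [mul_pow, hf, map_mul, map_X, map_mul, expand_X]

theorem coeff_pow_smul [ExpChar k p] (g : MvPolynomial ι k) (b : ι →₀ ℕ) :
    coeff ((p ^ e) • b) (g ^ (p ^ e)) = (coeff b g) ^ (p ^ e) := by
  rw [pow_eq_expand, coeff_expand_smul (p ^ e) (pow_pos (Fact.out : p.Prime).pos e).ne', coeff_map,
    iterateFrobenius_def]

theorem coeff_pow_of_not_dvd [ExpChar k p] (g : MvPolynomial ι k) {m : ι →₀ ℕ} {i : ι}
    (h : ¬ p ^ e ∣ m i) : coeff m (g ^ (p ^ e)) = 0 := by
  rw [pow_eq_expand]
  exact coeff_expand_of_not_dvd _ h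

theorem indep_poly [ExpChar k p] (f : (ι → Fin (p ^ e)) → MvPolynomial ι k)
    (h : ∑ a, f a ^ (p ^ e) * monomial (v ι a) 1 = 0) : ∀ a, f a = 0 := by
  classical
  have hq : 0 < p ^ e := pow_pos (Fact.out : p.Prime).pos e
  intro a0
  ext b0
  rw [coeff_zero]
  have hc := congrArg (coeff ((p ^ e) • b0 + v ι a0)) h
  rw [coeff_sum, coeff_zero] at hc
  rw [Finset.sum_eq_single a0] at hc
  · rw [coeff_mul_monomial', if_pos le_add_self, add_tsub_cancel_right, coeff_pow_smul,
      mul_one] at hc
    exact (pow_eq_zero_iff hq.ne').mp hc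
  · intro a _ hne
    rw [coeff_mul_monomial']
    split_ifs with hle
    · obtain ⟨i, hi⟩ : ∃ i, a i ≠ a0 i := Function.ne_iff.mp hne
      rw [coeff_pow_of_not_dvd k p ι e (f a) (i := i) ?_, zero_mul]
      intro hdvd
      apply hi
      have hle_i : (v ι a) i ≤ ((p ^ e) • b0 + v ι a0) i := hle i
      rw [Finsupp.tsub_apply, Finsupp.add_apply, Finsupp.smul_apply, v_apply, v_apply,
        smul_eq_mul] at hdvd
      rw [Finsupp.add_apply, Finsupp.smul_apply, v_apply, v_apply, smul_eq_mul] at hle_i
      obtain ⟨d, hd⟩ := hdvd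
      have h2 : p ^ e * b0 i + (a0 i : ℕ) = p ^ e * d + (a i : ℕ) := by omega
      have hmod : (a i : ℕ) % p ^ e = (a0 i : ℕ) % p ^ e := by
        rw [← Nat.mul_add_mod (p ^ e) d (a i), ← h2, Nat.mul_add_mod]
      rw [Nat.mod_eq_of_lt (a i).2, Nat.mod_eq_of_lt (a0 i).2] at hmod
      exact Fin.ext hmod
    · rfl
  · intro h
    exact absurd (Finset.mem_univ _) h

theorem span_poly [ExpChar k p] [PerfectField k] (g : MvPolynomial ι k) :
    ∃ c : (ι → Fin (p ^ e)) → MvPolynomial ι k,
      g = ∑ a, c a ^ (p ^ e) * monomial (v ι a) 1 := by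
  classical
  have hq : 0 < p ^ e := pow_pos (Fact.out : p.Prime).pos e
  induction g using MvPolynomial.induction_on' with
  | monomial m r =>
    obtain ⟨r0, hr0⟩ : ∃ r0 : k, r0 ^ (p ^ e) = r :=
      ⟨(iterateFrobeniusEquiv k p e).symm r, by
        rw [← iterateFrobeniusEquiv_def]
        exact RingEquiv.apply_symm_apply _ _⟩
    let a0 : ι → Fin (p ^ e) := fun i => ⟨m i % p ^ e, Nat.mod_lt _ hq⟩
    let b0 : ι →₀ ℕ := Finsupp.equivFunOnFinite.symm (fun i => m i / p ^ e)
    refine ⟨fun a => if a = a0 then monomial b0 r0 else 0, ?_⟩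
    rw [Finset.sum_eq_single a0]
    · have hm : p ^ e • b0 + v ι a0 = m := by
        ext i
        rw [Finsupp.add_apply, Finsupp.smul_apply, v_apply, smul_eq_mul]
        exact Nat.div_add_mod (m i) (p ^ e)
      dsimp only
      rw [if_pos rfl, monomial_pow, monomial_mul, hr0, mul_one, hm]
    · intro a _ hne
      dsimp only
      rw [if_neg hne, zero_pow hq.ne', zero_mul]
    · intro h
      exact absurd (Finset.mem_univ _) h
  | add g1 g2 h1 h2 =>
    obtain ⟨c1, h1⟩ := h1
    obtain ⟨c2, h2⟩ := h2
    refine ⟨fun a => c1 a + c2 a, ?_⟩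
    simp only [add_pow_expChar_pow, add_mul, Finset.sum_add_distrib]
    rw [← h1, ← h2]

end Poly

section Frac

variable (k : Type u) [Field k] [PerfectField k] (p : ℕ) [Fact p.Prime] [CharP k p]
  (ι : Type u) [Fintype ι] (e : ℕ)

/-- (C): the degree of the `p^e`-power map on `k(X_i : i ∈ ι)` is `p^(e·#ι)`. -/
theorem deg_frob_fractionRing
    (Φ : FractionRing (MvPolynomial ι k) →+* FractionRing (MvPolynomial ι k))
    (hΦ : ∀ t, Φ t = t ^ (p ^ e)) : deg Φ = p ^ (e * Fintype.card ι) := by
  classical
  haveI : ExpChar k p := ExpChar.prime Fact.out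
  have hq : 0 < p ^ e := pow_pos (Fact.out : p.Prime).pos e
  let b : (ι → Fin (p ^ e)) → FractionRing (MvPolynomial ι k) := fun a =>
    algebraMap (MvPolynomial ι k) (FractionRing (MvPolynomial ι k)) (monomial (v ι a) 1)
  have hcard : Fintype.card (ι → Fin (p ^ e)) = p ^ (e * Fintype.card ι) := by
    rw [Fintype.card_fun, Fintype.card_fin, ← pow_mul]
  rw [← hcard]
  refine deg_eq_card Φ b ?_ ?_
  · intro t
    obtain ⟨f, g, hg, rfl⟩ := IsFractionRing.div_surjective (A := MvPolynomial ι k) t
    obtain ⟨c, hc⟩ := span_poly k p ι e (f * g ^ (p ^ e - 1))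
    have hg0 : algebraMap (MvPolynomial ι k) (FractionRing (MvPolynomial ι k)) g ≠ 0 :=
      IsFractionRing.to_map_ne_zero_of_mem_nonZeroDivisors hg
    refine ⟨fun a => algebraMap _ (FractionRing (MvPolynomial ι k)) (c a) /
      algebraMap _ (FractionRing (MvPolynomial ι k)) g, ?_⟩
    simp only [hΦ, div_pow]
    have h1 : ∑ a, algebraMap _ (FractionRing (MvPolynomial ι k)) (c a) ^ (p ^ e) /
        algebraMap _ (FractionRing (MvPolynomial ι k)) g ^ (p ^ e) * b a =
        algebraMap _ (FractionRing (MvPolynomial ι k)) (f * g ^ (p ^ e - 1)) /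
          algebraMap _ (FractionRing (MvPolynomial ι k)) g ^ (p ^ e) := by
      rw [hc, map_sum, Finset.sum_div]
      refine Finset.sum_congr rfl fun a _ => ?_
      rw [map_mul, map_pow]
      ring
    rw [h1, map_mul, map_pow]
    have hpow : algebraMap _ (FractionRing (MvPolynomial ι k)) g ^ (p ^ e) =
        algebraMap _ (FractionRing (MvPolynomial ι k)) g ^ (p ^ e - 1) *
          algebraMap _ (FractionRing (MvPolynomial ι k)) g := by
      rw [← pow_succ, Nat.sub_add_cancel hq]
    rw [hpow]
    field_simp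
  · intro c hc a
    obtain ⟨d, hd⟩ := IsLocalization.exist_integer_multiples
      (nonZeroDivisors (MvPolynomial ι k)) Finset.univ c
    choose f hf using fun a => hd a (Finset.mem_univ a)
    have hd0 : algebraMap (MvPolynomial ι k) (FractionRing (MvPolynomial ι k)) d ≠ 0 :=
      IsFractionRing.to_map_ne_zero_of_mem_nonZeroDivisors d.2
    have hsum : ∑ a, f a ^ (p ^ e) * monomial (v ι a) 1 = 0 := by
      apply IsFractionRing.injective (MvPolynomial ι k) (FractionRing (MvPolynomial ι k))
      rw [map_sum, map_zero]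
      have h2 : ∀ a, algebraMap _ (FractionRing (MvPolynomial ι k))
          (f a ^ (p ^ e) * monomial (v ι a) 1) =
          algebraMap _ (FractionRing (MvPolynomial ι k)) (d : MvPolynomial ι k) ^ (p ^ e) *
            (Φ (c a) * b a) := by
        intro a
        rw [map_mul, map_pow, hf a, Algebra.smul_def, mul_pow, hΦ]
        ring
      simp only [h2, ← Finset.mul_sum, hc, mul_zero]
    have hfa := indep_poly k p ι e f hsum a
    have h3 := hf a
    rw [hfa, map_zero, Algebra.smul_def] at h3
    exact (mul_eq_zero.mp h3.symm).resolve_left hd0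

end Frac

end Groth.Agent.H20.WF_PBC
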