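import Mathlib
import Groth.Agent.H20.WF_PBC

/-!
# (PB): degree of the `p^e`-Frobenius on a finitely generated field extension of a perfect field
-/

set_option autoImplicit false
set_option linter.style.haveILetI false
set_option linter.unusedSectionVars false
universe u v

namespace Groth.Agent.H20.WF_PB

open Groth.Agent.H20.WF_PBC

/-- `deg` of the structure map of an algebra is the usual `finrank`. -/
theorem deg_algebraMap {A B : Type*} [Field A] [Field B] [Algebra A B] :
    deg (algebraMap A B) = Module.finrank A B := by
  have h : (algebraMap A B).toAlgebra = (inferInstance : Algebra A B) :=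
    Algebra.algebra_ext _ _ fun _ => rfl
  unfold deg
  rw [h]

/-- two ring homs of fields into `L` with the same range have the same degree, in the form:
`ρ u` ranges exactly over the values `F t`, `F` injective. -/
theorem deg_eq_of_range {E L : Type*} [Field E] [Field L] (ρ : E →+* L) (F : L →+* L)
    (h1 : ∀ t : L, ∃ u : E, ρ u = F t) (h2 : ∀ u : E, ∃ t : L, ρ u = F t) :
    deg ρ = deg F := by
  have hF : Function.Injective F := F.injective
  choose ε hε using h2
  let εr : E →+* L :=
    { toFun := ε
      map_one' := hF (by rw [← hε, map_one, map_one])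
      map_mul' := fun a b => hF (by rw [← hε, map_mul, map_mul, hε, hε])
      map_zero' := hF (by rw [← hε, map_zero, map_zero])
      map_add' := fun a b => hF (by rw [← hε, map_add, map_add, hε, hε]) }
  have hcomp : ρ = F.comp εr := RingHom.ext fun u => hε u
  have hbij : Function.Bijective εr := by
    refine ⟨εr.injective, fun t => ?_⟩
    obtain ⟨u, hu⟩ := h1 t
    exact ⟨u, hF ((hε u).symm.trans hu)⟩
  rw [hcomp, deg_comp, deg_of_bijective εr hbij, one_mul]

/-- (PB) -/
theorem finrank_of_range_eq_pow (k L E : Type u) [Field k] [Field L] [Field E] [Algebra k L]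
    [PerfectField k] [Algebra.EssFiniteType k L] (p : ℕ) [Fact p.Prime] [CharP k p] (e n : ℕ)
    (hn : Algebra.trdeg k L = (n : Cardinal.{u}))
    (ρ : E →+* L) (h1 : ∀ t : L, ∃ u : E, ρ u = t ^ (p ^ e))
    (h2 : ∀ u : E, ∃ t : L, ρ u = t ^ (p ^ e)) :
    letI := ρ.toAlgebra
    Module.finrank E L = p ^ (e * n) := by
  show deg ρ = p ^ (e * n)
  haveI : CharP L p := charP_of_injective_algebraMap (algebraMap k L).injective p
  haveI : ExpChar L p := ExpChar.prime Fact.out
  -- step 1: reduce to the Frobenius of `L`
  have hρ : deg ρ = deg (iterateFrobenius L p e) :=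
    deg_eq_of_range ρ (iterateFrobenius L p e)
      (fun t => by simpa only [iterateFrobenius_def] using h1 t)
      (fun u => by simpa only [iterateFrobenius_def] using h2 u)
  rw [hρ]
  -- step 2: a transcendence basis
  obtain ⟨s, hs⟩ := exists_isTranscendenceBasis k L
  have hcard : Cardinal.mk s = (n : Cardinal.{u}) := hs.cardinalMk_eq_trdeg.trans hn
  haveI : Fintype s :=
    (Cardinal.lt_aleph0_iff_fintype.mp (hcard ▸ Cardinal.natCast_lt_aleph0)).some
  have hcard' : Fintype.card s = n := by
    rw [Cardinal.mk_fintype] at hcard
    exact_mod_cast hcard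
  haveI halg : Algebra.IsAlgebraic
      (IntermediateField.adjoin k (Set.range ((↑) : s → L))) L := hs.isAlgebraic_field
  haveI : Algebra.EssFiniteType (IntermediateField.adjoin k (Set.range ((↑) : s → L))) L :=
    Algebra.EssFiniteType.of_comp k _ L
  haveI hfin : Module.Finite (IntermediateField.adjoin k (Set.range ((↑) : s → L))) L :=
    Algebra.finite_of_essFiniteType_of_isAlgebraic
  -- the embedding of the rational function field
  let θ : FractionRing (MvPolynomial s k) ≃ₐ[k]
      IntermediateField.adjoin k (Set.range ((↑) : s → L)) := hs.1.aevalEquivField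
  let j0 : FractionRing (MvPolynomial s k) →+* L :=
    (algebraMap (IntermediateField.adjoin k (Set.range ((↑) : s → L))) L).comp
      (θ : FractionRing (MvPolynomial s k) →+*
        IntermediateField.adjoin k (Set.range ((↑) : s → L)))
  have hj0 : deg j0 = Module.finrank (IntermediateField.adjoin k (Set.range ((↑) : s → L))) L := by
    rw [deg_comp, deg_of_bijective _ θ.bijective, one_mul, deg_algebraMap]
  have hj0pos : 0 < deg j0 := by
    rw [hj0]
    exact Module.finrank_pos
  -- Frobenius on the rational function field
  haveI : CharP (FractionRing (MvPolynomial s k)) p :=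
    charP_of_injective_algebraMap (algebraMap k (FractionRing (MvPolynomial s k))).injective p
  haveI : ExpChar (FractionRing (MvPolynomial s k)) p := ExpChar.prime Fact.out
  have hcomm : (iterateFrobenius L p e).comp j0 =
      j0.comp (iterateFrobenius (FractionRing (MvPolynomial s k)) p e) := by
    ext x
    simp only [RingHom.comp_apply, iterateFrobenius_def, map_pow]
  have h3 : deg j0 * deg (iterateFrobenius L p e) =
      deg (iterateFrobenius (FractionRing (MvPolynomial s k)) p e) * deg j0 := by
    rw [← deg_comp, ← deg_comp, hcomm]
  have h4 : deg (iterateFrobenius L p e) =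
      deg (iterateFrobenius (FractionRing (MvPolynomial s k)) p e) := by
    rw [mul_comm] at h3
    exact Nat.eq_of_mul_eq_mul_right hj0pos h3
  rw [h4, deg_frob_fractionRing k p s e _ (fun t => iterateFrobenius_def p e t), hcard']

end Groth.Agent.H20.WF_PB
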