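import Mathlib
import Groth.Agent.H48.WRNNDefs

/-!
# (END) for S1362: fibrewise integral tuples give a quasi-finite map `R[T_1..T_d] → S`
-/

set_option autoImplicit false
set_option linter.style.haveILetI false
set_option linter.unusedSectionVars false
universe u
open TensorProduct Groth.Agent.H48.WRNN

namespace Groth.Agent.H20.WRNN_END

variable {R S : Type u} [CommRing R] [CommRing S] [Algebra R S]

section Fiber

variable {d : ℕ} (x : Fin d → S) [Algebra (MvPolynomial (Fin d) R) S]
  [IsScalarTower R (MvPolynomial (Fin d) R) S]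
  (P : Ideal (MvPolynomial (Fin d) R)) [P.IsPrime]

/-- the comparison map `κ(p) ⊗[R] S → κ(P) ⊗[R[T]] S`, `p = P ∩ R` -/
noncomputable def Ψ :
    (P.comap (algebraMap R (MvPolynomial (Fin d) R))).Fiber S →ₐ[R] P.Fiber S :=
  Algebra.TensorProduct.lift
    ((Algebra.TensorProduct.includeLeft :
        P.ResidueField →ₐ[R] P.ResidueField ⊗[MvPolynomial (Fin d) R] S).comp
      (Ideal.ResidueField.mapₐ (P.comap (algebraMap R (MvPolynomial (Fin d) R))) P
        (Algebra.ofId R (MvPolynomial (Fin d) R)) rfl))
    ((Algebra.TensorProduct.includeRight :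
        S →ₐ[MvPolynomial (Fin d) R] P.ResidueField ⊗[MvPolynomial (Fin d) R] S).restrictScalars R)
    (fun _ _ => Commute.all _ _)

theorem Ψ_tmul (c : (P.comap (algebraMap R (MvPolynomial (Fin d) R))).ResidueField) (s : S) :
    Ψ P (c ⊗ₜ[R] s) =
      (Ideal.ResidueField.map (P.comap (algebraMap R (MvPolynomial (Fin d) R))) P
        (algebraMap R (MvPolynomial (Fin d) R)) rfl c) ⊗ₜ[MvPolynomial (Fin d) R] s := by
  rw [Ψ, Algebra.TensorProduct.lift_tmul]
  simp only [AlgHom.coe_comp, Function.comp_apply, Algebra.TensorProduct.includeLeft_apply,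
    AlgHom.coe_restrictScalars', Algebra.TensorProduct.includeRight_apply,
    Algebra.TensorProduct.tmul_mul_tmul, mul_one, one_mul]
  rfl

theorem tmul_one_mul (c : P.ResidueField) (z : P.Fiber S) :
    (c ⊗ₜ[MvPolynomial (Fin d) R] (1 : S)) * z = c • z := by
  rw [Algebra.smul_def, Algebra.TensorProduct.algebraMap_apply, Algebra.algebraMap_self,
    RingHom.id_apply]

variable (hA : ∀ a : MvPolynomial (Fin d) R,
  algebraMap (MvPolynomial (Fin d) R) S a = MvPolynomial.aeval x a)
include hA

theorem Ψ_fibEval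
    (g : MvPolynomial (Fin d) (P.comap (algebraMap R (MvPolynomial (Fin d) R))).ResidueField) :
    ∃ c : P.ResidueField, Ψ P (fibEval (P.comap (algebraMap R (MvPolynomial (Fin d) R))) x g) =
      c ⊗ₜ[MvPolynomial (Fin d) R] (1 : S) := by
  induction g using MvPolynomial.induction_on with
  | C c =>
    refine ⟨Ideal.ResidueField.map (P.comap (algebraMap R (MvPolynomial (Fin d) R))) P
        (algebraMap R (MvPolynomial (Fin d) R)) rfl c, ?_⟩
    rw [fibEval, MvPolynomial.aeval_C, Algebra.TensorProduct.algebraMap_apply,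
      Algebra.algebraMap_self, RingHom.id_apply, Ψ_tmul]
  | add g₁ g₂ h₁ h₂ =>
    obtain ⟨c₁, h₁⟩ := h₁
    obtain ⟨c₂, h₂⟩ := h₂
    exact ⟨c₁ + c₂, by rw [map_add, map_add, h₁, h₂, add_tmul]⟩
  | mul_X g i h =>
    obtain ⟨c, h⟩ := h
    refine ⟨c * algebraMap (MvPolynomial (Fin d) R) P.ResidueField (MvPolynomial.X i), ?_⟩
    rw [map_mul, map_mul, h]
    have h2 : Ψ P (fibEval (P.comap (algebraMap R (MvPolynomial (Fin d) R))) x (MvPolynomial.X i)) =
        (algebraMap (MvPolynomial (Fin d) R) P.ResidueField (MvPolynomial.X i))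
          ⊗ₜ[MvPolynomial (Fin d) R] (1 : S) := by
      rw [fibEval, MvPolynomial.aeval_X, Ψ_tmul, map_one]
      have hx : x i = (MvPolynomial.X i : MvPolynomial (Fin d) R) • (1 : S) := by
        rw [Algebra.smul_def, mul_one, hA, MvPolynomial.aeval_X]
      rw [hx, ← TensorProduct.smul_tmul, Algebra.smul_def, mul_one]
    rw [h2, Algebra.TensorProduct.tmul_mul_tmul, mul_one]

theorem fiber_finite (hx : FibInt R x) [Algebra.FiniteType R S] :
    Module.Finite P.ResidueField (P.Fiber S) := by
  classical
  -- the fibre evaluation is finite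
  have hft : (fibEval (P.comap (algebraMap R (MvPolynomial (Fin d) R))) x).toRingHom.FiniteType := by
    have h1 : (algebraMap (P.comap (algebraMap R (MvPolynomial (Fin d) R))).ResidueField
        ((P.comap (algebraMap R (MvPolynomial (Fin d) R))).Fiber S)).FiniteType :=
      RingHom.finiteType_algebraMap.mpr inferInstance
    rw [← (fibEval (P.comap (algebraMap R (MvPolynomial (Fin d) R))) x).comp_algebraMap] at h1
    exact RingHom.FiniteType.of_comp_finiteType h1
  have hfin : (fibEval (P.comap (algebraMap R (MvPolynomial (Fin d) R))) x).toRingHom.Finite :=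
    RingHom.IsIntegral.to_finite (hx _) hft
  letI alg : Algebra
      (MvPolynomial (Fin d) (P.comap (algebraMap R (MvPolynomial (Fin d) R))).ResidueField)
      ((P.comap (algebraMap R (MvPolynomial (Fin d) R))).Fiber S) :=
    (fibEval (P.comap (algebraMap R (MvPolynomial (Fin d) R))) x).toRingHom.toAlgebra
  have hfin' : Module.Finite
      (MvPolynomial (Fin d) (P.comap (algebraMap R (MvPolynomial (Fin d) R))).ResidueField)
      ((P.comap (algebraMap R (MvPolynomial (Fin d) R))).Fiber S) := hfin
  obtain ⟨G0, hG0⟩ := hfin'.fg_top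
  -- the candidate generators
  set T : Submodule P.ResidueField (P.Fiber S) :=
    Submodule.span P.ResidueField ((Ψ P) '' (↑G0 : Set _)) with hT
  have hmem : ∀ y, Ψ P y ∈ T := by
    intro y
    have hy : y ∈ Submodule.span
        (MvPolynomial (Fin d) (P.comap (algebraMap R (MvPolynomial (Fin d) R))).ResidueField)
        (↑G0 : Set ((P.comap (algebraMap R (MvPolynomial (Fin d) R))).Fiber S)) := by
      rw [hG0]
      exact Submodule.mem_top
    induction hy using Submodule.span_induction with
    | mem y hy => exact Submodule.subset_span ⟨y, hy, rfl⟩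
    | zero => rw [map_zero]; exact T.zero_mem
    | add y z _ _ hy hz => rw [map_add]; exact T.add_mem hy hz
    | smul g y _ hy =>
      rw [Algebra.smul_def, RingHom.algebraMap_toAlgebra, map_mul]
      obtain ⟨c, hc⟩ := Ψ_fibEval x P hA g
      have hc' : Ψ P ((fibEval (P.comap (algebraMap R (MvPolynomial (Fin d) R))) x).toRingHom g) =
          c ⊗ₜ[MvPolynomial (Fin d) R] (1 : S) := hc
      rw [hc', tmul_one_mul]
      exact T.smul_mem c hy
  have htop : ∀ z : P.Fiber S, z ∈ T := by
    intro z
    induction z using TensorProduct.induction_on with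
    | zero => exact T.zero_mem
    | tmul c s =>
      have h1 : c ⊗ₜ[MvPolynomial (Fin d) R] s = c • Ψ P ((1 : _) ⊗ₜ[R] s) := by
        rw [Ψ_tmul, map_one, TensorProduct.smul_tmul', smul_eq_mul, mul_one]
      rw [h1]
      exact T.smul_mem c (hmem _)
    | add a b ha hb => exact T.add_mem ha hb
  refine Module.finite_def.mpr ⟨G0.image (Ψ P), ?_⟩
  rw [Finset.coe_image]
  exact eq_top_iff.mpr fun z _ => htop z

end Fiber

/-- (END) -/
theorem quasiFinite_of_fibInt [Algebra.FiniteType R S] {d : ℕ} (x : Fin d → S) (hx : FibInt R x) :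
    (MvPolynomial.aeval x : MvPolynomial (Fin d) R →ₐ[R] S).toRingHom.QuasiFinite := by
  letI algAS : Algebra (MvPolynomial (Fin d) R) S :=
    (MvPolynomial.aeval x : MvPolynomial (Fin d) R →ₐ[R] S).toRingHom.toAlgebra
  haveI tow : IsScalarTower R (MvPolynomial (Fin d) R) S :=
    IsScalarTower.of_algebraMap_eq'
      (MvPolynomial.aeval x : MvPolynomial (Fin d) R →ₐ[R] S).comp_algebraMap.symm
  show Algebra.QuasiFinite (MvPolynomial (Fin d) R) S
  exact ⟨fun P _ => fiber_finite x P (fun _ => rfl) hx⟩

end Groth.Agent.H20.WRNN_END
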